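import Mathlib
import Cfsg.Agent.Lib.Forms.Max.Unitary

/-!
# Orthonormal frames of the standard hermitian space

Monomial unitary maps, quasi-reflections, and a subgroup of the special unitary group containing the monomial
elements.
-/

set_option autoImplicit false
set_option linter.unusedSectionVars false

namespace Cfsg.Agent.Forms.Max.HermFrame

open Matrix Cfsg.Agent.Classical.Unitary

variable {F : Type*} [Field F] [Fintype F] {n q : ℕ}

local notation "Vec" => (Fin n → F)
local notation "GLn" => GL (Fin n) F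
local notation "H" => Cfsg.hermForm n F q
local notation "SUn" => (Cfsg.GU n F q ⊓ Cfsg.Geo.specialLinear (Fin n) F)

/-- the action on vectors -/
abbrev act (g : GL (Fin n) F) (x : Fin n → F) : Fin n → F := (g : Matrix (Fin n) (Fin n) F) *ᵥ x

/-- the frame vectors -/
abbrev bas (i : Fin n) : Fin n → F := Pi.single i 1

theorem act_mul (g h : GLn) (x : Vec) : act (g * h) x = act g (act h x) := mulVec_mul_GL g h x

theorem act_one (x : Vec) : act (1 : GLn) x = x := by simp [act]

theorem act_inv_act (g : GLn) (x : Vec) : act g⁻¹ (act g x) = x := inv_mulVec_cancel g x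

theorem act_act_inv (g : GLn) (x : Vec) : act g (act g⁻¹ x) = x := mulVec_inv_cancel g x

theorem act_sum {α : Type*} (g : GLn) (s : Finset α) (f : α → Vec) :
    act g (∑ i ∈ s, f i) = ∑ i ∈ s, act g (f i) := by
  rw [act, mulVec_sum]

theorem sum_bas (x : Vec) : ∑ i, x i • bas i = x := by
  funext j
  simp [bas, Pi.single_apply, Finset.sum_apply]

theorem ext_bas {g h : GLn} (H' : ∀ i, act g (bas i) = act h (bas i)) : g = h := by
  refine gl_ext fun x => ?_
  rw [← sum_bas x]
  show act g _ = act h _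
  rw [act_sum, act_sum]
  exact Finset.sum_congr rfl fun i _ => by simp only [act, mulVec_smul]; rw [← act, ← act, H' i]

theorem bas_apply (i j : Fin n) : (bas i : Vec) j = if j = i then 1 else 0 := by
  rw [bas, Pi.single_apply]

theorem bas_self (i : Fin n) : (bas i : Vec) i = 1 := Pi.single_eq_same _ _

theorem bas_ne {i j : Fin n} (h : j ≠ i) : (bas i : Vec) j = 0 := Pi.single_eq_of_ne h _

theorem smul_bas_inj {a b : F} {i j : Fin n} (ha : a ≠ 0) (h : (a • bas i : Vec) = b • bas j) :
    i = j ∧ a = b := by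
  have h1 := congrFun h i
  by_cases hij : i = j
  · subst hij
    exact ⟨rfl, by simpa [bas] using h1⟩
  · simp [bas, hij] at h1
    exact absurd h1 ha

/-- the norm to the fixed field -/
def nrm (q : ℕ) (z : F) : F := z * z ^ q

theorem nrm_eq (z : F) : nrm q z = z ^ (q + 1) := by rw [nrm, pow_succ']

theorem nrm_mul (z w : F) : nrm q (z * w) = nrm q z * nrm q w := by
  rw [nrm_eq, nrm_eq, nrm_eq, mul_pow]

theorem nrm_eq_zero {z : F} : nrm q z = 0 ↔ z = 0 := by
  rw [nrm_eq]; exact ⟨fun h => eq_zero_of_pow_eq_zero h, fun h => by rw [h, zero_pow (by omega)]⟩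

theorem nrm_div (z w : F) : nrm q (z / w) = nrm q z / nrm q w := by rw [nrm_eq, nrm_eq, nrm_eq, div_pow]

theorem H_self (x : Vec) : H x x = ∑ i, nrm q (x i) := rfl

/-- the coordinates which are not zero -/
noncomputable def supp (x : Fin n → F) : Finset (Fin n) := by
  classical exact Finset.univ.filter fun i => x i ≠ 0

theorem mem_supp {x : Vec} {i : Fin n} : i ∈ supp x ↔ x i ≠ 0 := by
  classical simp [supp]

theorem not_mem_supp {x : Vec} {i : Fin n} : i ∉ supp x ↔ x i = 0 := by rw [mem_supp, not_not]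

theorem H_self_supp (x : Vec) : H x x = ∑ i ∈ supp x, nrm q (x i) := by
  rw [H_self]
  refine (Finset.sum_subset (Finset.subset_univ _) fun i _ hi => ?_).symm
  rw [not_mem_supp.1 hi, nrm, zero_mul]

/-! ### Scalars of norm one -/

section field

variable (hF : Fintype.card F = q ^ 2)
include hF

theorem nrm_conj (z : F) : nrm q z ^ q = nrm q z := by rw [nrm, mul_pow, pow_qq hF, mul_comm]

theorem pow_q_eq_inv {a : F} (ha : a ^ (q + 1) = 1) : a ^ q = a⁻¹ :=
  eq_inv_of_mul_eq_one_left (by rw [← pow_succ]; exact ha)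

omit hF in
theorem n1_ne_zero {a : F} (ha : a ^ (q + 1) = 1) : a ≠ 0 := fun h => by
  rw [h, zero_pow (by omega)] at ha; exact zero_ne_one ha

omit hF in
theorem n1_inv {a : F} (ha : a ^ (q + 1) = 1) : a⁻¹ ^ (q + 1) = 1 := by rw [inv_pow, ha, inv_one]

omit hF in
theorem n1_mul {a b : F} (ha : a ^ (q + 1) = 1) (hb : b ^ (q + 1) = 1) : (a * b) ^ (q + 1) = 1 := by
  rw [mul_pow, ha, hb, one_mul]

theorem n1_neg_one : (-1 : F) ^ (q + 1) = 1 := by
  rw [pow_succ, ← HermStd.qHom_apply hF, map_neg, map_one]; ring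

/-- a generator of the scalars of norm one -/
theorem exists_gen : ∃ a : F, a ^ (q + 1) = 1 ∧ ∀ k, 0 < k → k < q + 1 → a ^ k ≠ 1 := by
  obtain ⟨z, hz⟩ := IsCyclic.exists_generator (α := (powMonoidHom (q + 1) : Fˣ →* Fˣ).ker)
  have ho : orderOf z = q + 1 := by
    rw [orderOf_eq_card_of_forall_mem_zpowers hz, natCard_normOne hF]
  refine ⟨((z : Fˣ) : F), by simpa using congrArg Units.val z.2, fun k hk hk' h => ?_⟩
  have : z ^ k = 1 := Subtype.ext (Units.ext (by simpa using h))
  exact Nat.not_dvd_of_pos_of_lt hk hk' (ho ▸ orderOf_dvd_of_pow_eq_one this)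

theorem card_n1 [DecidableEq F] : (Finset.univ.filter fun a : F => a ^ (q + 1) = 1).card = q + 1 := by
  classical
  refine Eq.trans ?_ ((Nat.card_eq_fintype_card).symm.trans (natCard_normOne hF))
  rw [← Finset.card_univ]
  refine (Finset.card_bij (fun (z : (powMonoidHom (q + 1) : Fˣ →* Fˣ).ker) _ => ((z : Fˣ) : F))
    (fun z _ => ?_) (fun z _ w _ h => Subtype.ext (Units.ext h)) fun a ha => ?_).symm
  · simp only [Finset.mem_filter, Finset.mem_univ, true_and]
    simpa using congrArg Units.val z.2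
  · simp only [Finset.mem_filter, Finset.mem_univ, true_and] at ha
    exact ⟨⟨Units.mk0 a (n1_ne_zero ha), by
      rw [MonoidHom.mem_ker]; exact Units.ext (by simpa using ha)⟩, Finset.mem_univ _, rfl⟩

omit hF in
theorem trace_eq {a b : F} (ha : a ≠ 0) (hb : b ≠ 0) (h : a + a⁻¹ = b + b⁻¹) : a = b ∨ a = b⁻¹ := by
  field_simp at h
  have : (a - b) * (a * b - 1) = 0 := by linear_combination h
  rcases mul_eq_zero.1 this with h1 | h1
  · exact Or.inl (sub_eq_zero.1 h1)
  · exact Or.inr (eq_inv_of_mul_eq_one_left (sub_eq_zero.1 h1))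

/-- a scalar of norm one avoiding a given value and a given trace -/
theorem exists_trace_avoid (hq : 3 ≤ q) (c : F) :
    ∃ a : F, a ^ (q + 1) = 1 ∧ a ≠ 1 ∧ a + a⁻¹ ≠ c := by
  classical
  by_contra hc
  push Not at hc
  set S := (Finset.univ.filter fun a : F => a ^ (q + 1) = 1).erase 1 with hS
  have hcard : S.card = q := by
    rw [hS, Finset.card_erase_of_mem (by simp), card_n1 hF]; rfl
  obtain ⟨a, ha⟩ := Finset.card_pos.1 (show 0 < S.card by omega)
  have hmem : ∀ b ∈ S, b ^ (q + 1) = 1 ∧ b ≠ 1 := fun b hb => by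
    rw [hS, Finset.mem_erase, Finset.mem_filter] at hb; exact ⟨hb.2.2, hb.1⟩
  have hsub : S ⊆ {a, a⁻¹} := fun b hb => by
    have := trace_eq (n1_ne_zero (hmem b hb).1) (n1_ne_zero (hmem a ha).1)
      (by rw [hc b (hmem b hb).1 (hmem b hb).2, hc a (hmem a ha).1 (hmem a ha).2])
    simpa using this
  have := (Finset.card_le_card hsub).trans Finset.card_le_two
  omega

end field

/-! ### Monomial maps -/

/-- monomial for the frame -/
def Mon (g : GL (Fin n) F) : Prop := ∀ i, ∃ j, ∃ a : F, act g (bas i) = a • bas j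

/-- monomial with given permutation and scalars -/
def IsMono (g : GL (Fin n) F) (p : Equiv.Perm (Fin n)) (a : Fin n → F) : Prop :=
  ∀ i, act g (bas i) = a i • bas (p i)

theorem IsMono.mon {g : GLn} {p : Equiv.Perm (Fin n)} {a : Vec} (h : IsMono g p a) : Mon g :=
  fun i => ⟨p i, a i, h i⟩

theorem IsMono.apply {g : GLn} {p : Equiv.Perm (Fin n)} {a : Vec} (h : IsMono g p a) (x : Vec) (j : Fin n) :
    act g x j = a (p.symm j) * x (p.symm j) := by
  conv_lhs => rw [← sum_bas x, act_sum]
  rw [Finset.sum_apply, Finset.sum_eq_single (p.symm j)]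
  · simp only [act, mulVec_smul]
    rw [← act, h]
    simp [bas, mul_comm]
  · intro i _ hi
    simp only [act, mulVec_smul]
    rw [← act, h]
    have : j ≠ p i := fun e => hi (by rw [e, p.symm_apply_apply])
    simp [bas, Pi.single_eq_of_ne this]
  · simp

theorem IsMono.eq_diag {g : GLn} {a : Vec} (h : IsMono g 1 a) (x : Vec) :
    act g x = fun j => a j * x j := funext fun j => by rw [h.apply]; rfl

theorem Mon.mul {g h : GLn} (hg : Mon g) (hh : Mon h) : Mon (g * h) := fun i => by
  obtain ⟨j, a, hj⟩ := hh i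
  obtain ⟨k, b, hk⟩ := hg j
  exact ⟨k, a * b, by rw [act_mul, hj, act, mulVec_smul, ← act, hk, smul_smul]⟩

theorem Mon.one : Mon (1 : GLn) := fun i => ⟨i, 1, by rw [act_one, one_smul]⟩

theorem bas_ne_zero (i : Fin n) : (bas i : Vec) ≠ 0 := fun h => one_ne_zero (α := F) (by
  rw [← bas_self (F := F) i, h]; rfl)

theorem Mon.exists_isMono {g : GLn} (h : Mon g) : ∃ p a, IsMono g p a ∧ ∀ i, a i ≠ 0 := by
  choose p a hpa using h
  have ha : ∀ i, a i ≠ 0 := fun i e => mulVec_ne_zero g (bas_ne_zero i) (by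
    show act g (bas i) = 0
    rw [hpa i, e, zero_smul])
  have hinj : Function.Injective p := fun i j e => by
    by_contra hne
    have h1 : act g (bas i - (a i / a j) • bas j) = 0 := by
      simp only [act, mulVec_sub, mulVec_smul]
      rw [← act, ← act, hpa, hpa, smul_smul, div_mul_cancel₀ _ (ha j), e, sub_self]
    have h2 : (bas i : Vec) - (a i / a j) • bas j = 0 := mulVec_inj g (h1.trans (mulVec_zero _).symm)
    have := congrFun h2 i
    simp [bas, hne] at this
  exact ⟨Equiv.ofBijective p (Finite.injective_iff_bijective.1 hinj), a, fun i => hpa i, ha⟩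

theorem Mon.inv {g : GLn} (h : Mon g) : Mon g⁻¹ := fun j => by
  obtain ⟨p, a, hg, ha⟩ := h.exists_isMono
  refine ⟨p.symm j, (a (p.symm j))⁻¹, mulVec_inj g ?_⟩
  show act g (act g⁻¹ (bas j)) = act g _
  rw [act_act_inv, act, mulVec_smul, ← act, hg, p.apply_symm_apply, smul_smul,
    inv_mul_cancel₀ (ha _), one_smul]

theorem Mon.conj_iff {g h : GLn} (hg : Mon g) : Mon (g * h * g⁻¹) ↔ Mon h :=
  ⟨fun hh => by
    have := (hg.inv.mul hh).mul hg
    simpa [mul_assoc] using this, fun hh => (hg.mul hh).mul hg.inv⟩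

theorem IsMono.mul {g h : GLn} {p r : Equiv.Perm (Fin n)} {a b : Vec} (hg : IsMono g p a)
    (hh : IsMono h r b) : IsMono (g * h) (p * r) (fun i => b i * a (r i)) := fun i => by
  rw [act_mul, hh, act, mulVec_smul, ← act, hg, smul_smul]; rfl

theorem IsMono.one : IsMono (1 : GLn) 1 (fun _ => 1) := fun i => by rw [act_one, one_smul]; rfl

theorem IsMono.unique {g : GLn} {p r : Equiv.Perm (Fin n)} {a b : Vec} (hg : IsMono g p a)
    (hh : IsMono g r b) : p = r ∧ a = b := by
  have key : ∀ i, p i = r i ∧ a i = b i := fun i => smul_bas_inj (fun e => mulVec_ne_zero g (bas_ne_zero i) (by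
    show act g (bas i) = 0
    rw [hg, e, zero_smul])) ((hg i).symm.trans (hh i))
  exact ⟨Equiv.ext fun i => (key i).1, funext fun i => (key i).2⟩

section unitary

variable (hF : Fintype.card F = q ^ 2)
include hF

theorem H_bas_right (v : Vec) (i : Fin n) : H v (bas i) = v i := H_single_right hF v i

theorem H_bas_left (v : Vec) (i : Fin n) : H (bas i) v = v i ^ q := by
  rw [← H_conj hF, H_bas_right hF]

theorem H_bas (i j : Fin n) : H (bas i) (bas j) = if i = j then 1 else 0 := H_single_single hF i j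

theorem H_bas_self (i : Fin n) : H (bas i) (bas i) = 1 := by rw [H_bas hF, if_pos rfl]

omit hF in
theorem GU_act {g : GLn} (hg : g ∈ Cfsg.GU n F q) (x y : Vec) : H (act g x) (act g y) = H x y := hg x y

theorem IsMono.n1 {g : GLn} (hg : g ∈ Cfsg.GU n F q) {p : Equiv.Perm (Fin n)} {a : Vec}
    (h : IsMono g p a) (i : Fin n) : a i ^ (q + 1) = 1 := by
  have := GU_act hg (bas i) (bas i)
  rw [h, H_bas_self hF, H_smul_left, H_smul_right, H_bas_self hF, mul_one] at this
  rw [pow_succ']; exact this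

/-- unitary monomial maps exist -/
theorem exists_mono (p : Equiv.Perm (Fin n)) (a : Vec) (ha : ∀ i, a i ^ (q + 1) = 1) :
    ∃ g : GLn, g ∈ Cfsg.GU n F q ∧ IsMono g p a ∧
      (g : Matrix (Fin n) (Fin n) F).det = ((Equiv.Perm.sign p : ℤ) : F) * ∏ i, a i := by
  classical
  set A : Matrix (Fin n) (Fin n) F := (p.permMatrix F)ᵀ * Matrix.diagonal a with hA
  have hAx : ∀ x : Vec, ∀ j, (A *ᵥ x) j = a (p.symm j) * x (p.symm j) := by
    intro x j
    rw [hA, ← mulVec_mulVec, mulVec_transpose, Matrix.vecMul_permMatrix]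
    simp [Matrix.mulVec_diagonal]
  have hdet : A.det = ((Equiv.Perm.sign p : ℤ) : F) * ∏ i, a i := by
    rw [hA, det_mul, det_transpose, Matrix.det_permutation, det_diagonal]
  have hne : A.det ≠ 0 := by
    rw [hdet]
    refine mul_ne_zero ?_ (Finset.prod_ne_zero_iff.2 fun i _ => n1_ne_zero (ha i))
    rcases Int.units_eq_one_or (Equiv.Perm.sign p) with h | h <;> simp [h]
  refine ⟨GeneralLinearGroup.mkOfDetNeZero A hne, fun x y => ?_, fun i => ?_, hdet⟩
  · show H (A *ᵥ x) (A *ᵥ y) = H x y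
    unfold Cfsg.hermForm
    simp only [hAx]
    refine Fintype.sum_equiv p.symm _ _ fun j => ?_
    have := ha (p.symm j)
    rw [mul_pow]
    linear_combination (x (p.symm j) * y (p.symm j) ^ q) * this
  · show A *ᵥ bas i = _
    funext j
    rw [hAx]
    by_cases hj : j = p i
    · subst hj; simp [bas]
    · have : p.symm j ≠ i := fun e => hj (by rw [← e, p.apply_symm_apply])
      simp [bas, Pi.single_eq_of_ne hj, Pi.single_eq_of_ne this]

theorem H_self_eq_of_mono {g : GLn} (hg : g ∈ Cfsg.GU n F q) {p : Equiv.Perm (Fin n)} {a : Vec}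
    (h : IsMono g p a) (x : Vec) (i : Fin n) : nrm q (act g x (p i)) = nrm q (x i) := by
  rw [h.apply, p.symm_apply_apply, nrm_mul, nrm_eq (a i), h.n1 hF hg, one_mul]

end unitary

/-! ### Quasi-reflections -/

open _root_.Classical in
/-- the quasi-reflection in a unit vector -/
noncomputable def qr (q : ℕ) (z : Fin n → F) (a : F) : GL (Fin n) F :=
  if h : ∃ g : GL (Fin n) F, g ∈ Cfsg.GU n F q ∧ (g : Matrix (Fin n) (Fin n) F).det = a ∧
      ∀ x, act g x = x + ((a - 1) * Cfsg.hermForm n F q x z) • z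
  then h.choose else 1

section quasi

variable (hF : Fintype.card F = q ^ 2) {z : Fin n → F} (hz : Cfsg.hermForm n F q z z = 1)
  {a : F} (ha : a ^ (q + 1) = 1)
include hF hz ha

theorem qr_spec : qr q z a ∈ Cfsg.GU n F q ∧ (qr q z a : Matrix (Fin n) (Fin n) F).det = a ∧
    ∀ x, act (qr q z a) x = x + ((a - 1) * H x z) • z := by
  have h : ∃ g : GLn, g ∈ Cfsg.GU n F q ∧ (g : Matrix (Fin n) (Fin n) F).det = a ∧
      ∀ x, act g x = x + ((a - 1) * H x z) • z := by
    obtain ⟨g, hg, hd, hx⟩ := Unitary.exists_quasi hF (z := z) (by rw [hz]; exact one_ne_zero) ha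
    exact ⟨g, hg, hd, fun x => by rw [act, hx, hz, div_one]⟩
  rw [qr, dif_pos h]
  exact h.choose_spec

theorem qr_mem : qr q z a ∈ Cfsg.GU n F q := (qr_spec hF hz ha).1

theorem det_qr : (qr q z a : Matrix (Fin n) (Fin n) F).det = a := (qr_spec hF hz ha).2.1

theorem act_qr (x : Vec) : act (qr q z a) x = x + ((a - 1) * H x z) • z := (qr_spec hF hz ha).2.2 x

theorem qr_fix {x : Vec} (h : H x z = 0) : act (qr q z a) x = x := by
  rw [act_qr hF hz ha, h, mul_zero, zero_smul, add_zero]

theorem qr_conj {g : GLn} (hg : g ∈ Cfsg.GU n F q) : g * qr q z a * g⁻¹ = qr q (act g z) a := by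
  refine gl_ext fun x => ?_
  show act (g * qr q z a * g⁻¹) x = act _ x
  rw [act_mul, act_mul, act_qr hF hz ha, act_qr hF (by rw [GU_act hg]; exact hz) ha, act, mulVec_add,
    mulVec_smul, ← act, ← act, act_act_inv]
  congr 3
  conv_rhs => rw [← act_act_inv g x]
  rw [GU_act hg]

theorem qr_smul {c : F} (hc : c ^ (q + 1) = 1) : qr q (c • z) a = qr q z a := by
  have hcz : H (c • z) (c • z) = 1 := by
    rw [H_smul_left, H_smul_right, hz, mul_one, ← pow_succ', hc]
  refine gl_ext fun x => ?_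
  show act _ x = act _ x
  rw [act_qr hF hcz ha, act_qr hF hz ha, H_smul_right, smul_smul]
  congr 2
  rw [pow_succ] at hc
  linear_combination ((a - 1) * H x z) * hc

theorem qr_mul {b : F} (hb : b ^ (q + 1) = 1) : qr q z a * qr q z b = qr q z (a * b) := by
  refine gl_ext fun x => ?_
  show act _ x = act _ x
  rw [act_mul, act_qr hF hz hb, act_qr hF hz ha, act_qr hF hz (n1_mul ha hb), H_add_left, H_smul_left, hz]
  module

theorem qr_comm {w : Vec} (hw : H w w = 1) {b : F} (hb : b ^ (q + 1) = 1) (h : H z w = 0) :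
    qr q z a * qr q w b = qr q w b * qr q z a := by
  refine gl_ext fun x => ?_
  show act _ x = act _ x
  have h' := (H_eq_zero_comm hF).1 h
  rw [act_mul, act_mul, act_qr hF hw hb, act_qr hF hz ha, act_qr hF hz ha, act_qr hF hw hb]
  simp only [H_add_left, H_smul_left, h, h', mul_zero, add_zero]
  module

end quasi

theorem qr_one (hF : Fintype.card F = q ^ 2) {z : Vec} (hz : H z z = 1) : qr q z (1 : F) = 1 := by
  refine gl_ext fun x => ?_
  show act _ x = act _ x
  rw [act_qr hF hz (one_pow _), sub_self, zero_mul, zero_smul, add_zero, act_one]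

theorem qr_inv (hF : Fintype.card F = q ^ 2) {z : Vec} (hz : H z z = 1) {a : F} (ha : a ^ (q + 1) = 1) :
    (qr q z a)⁻¹ = qr q z a⁻¹ := by
  refine inv_eq_of_mul_eq_one_right ?_
  rw [qr_mul hF hz ha (n1_inv ha), mul_inv_cancel₀ (n1_ne_zero ha), qr_one hF hz]

theorem qr_bas (hF : Fintype.card F = q ^ 2) (i : Fin n) {a : F} (ha : a ^ (q + 1) = 1) :
    IsMono (qr q (bas i) a) 1 (Function.update (fun _ => 1) i a) := fun j => by
  rw [act_qr hF (H_bas_self hF i) ha, H_bas hF]
  by_cases h : j = i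
  · subst h; simp [add_smul, sub_smul]
  · simp [h]

/-! ### The setting -/

/-- a subgroup of the special unitary group containing its monomial elements -/
structure Setup (F : Type*) [Field F] [Fintype F] (n q : ℕ) where
  hF : Fintype.card F = q ^ 2
  K : Subgroup (GL (Fin n) F)
  le : K ≤ Cfsg.GU n F q ⊓ Cfsg.Geo.specialLinear (Fin n) F
  mono_mem : ∀ g ∈ Cfsg.GU n F q ⊓ Cfsg.Geo.specialLinear (Fin n) F, Mon g → g ∈ K

namespace Setup

variable (S : Setup F n q)

theorem gu {g : GLn} (hg : g ∈ S.K) : g ∈ Cfsg.GU n F q := (S.le hg).1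

theorem mem_SU {g : GLn} (hg : g ∈ Cfsg.GU n F q) (hd : (g : Matrix (Fin n) (Fin n) F).det = 1) : g ∈ SUn :=
  ⟨hg, Aschbacher.mem_specialLinear.2 hd⟩

theorem det_one {g : GLn} (hg : g ∈ S.K) : (g : Matrix (Fin n) (Fin n) F).det = 1 :=
  Aschbacher.mem_specialLinear.1 (S.le hg).2

theorem mem_mono {g : GLn} (hg : g ∈ Cfsg.GU n F q) (hd : (g : Matrix (Fin n) (Fin n) F).det = 1)
    (hm : Mon g) : g ∈ S.K := S.mono_mem g (mem_SU hg hd) hm

/-- some non-monomial member fixes a frame vector -/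
def Goal : Prop := ∃ h ∈ S.K, ¬ Mon h ∧ ∃ l, act h (bas l) = bas l

/-- a member with prescribed permutation and all scalars but one -/
theorem exists_K_mono (p : Equiv.Perm (Fin n)) (a : Vec) (ha : ∀ i, a i ^ (q + 1) = 1) (l : Fin n) :
    ∃ g ∈ S.K, ∃ c : F, c ^ (q + 1) = 1 ∧ IsMono g p (Function.update a l c) := by
  classical
  set δ : F := ((Equiv.Perm.sign p : ℤ) : F) * ∏ i ∈ Finset.univ.erase l, a i with hδ
  have hsign : ((Equiv.Perm.sign p : ℤ) : F) ^ (q + 1) = 1 := by
    rcases Int.units_eq_one_or (Equiv.Perm.sign p) with h | h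
    · simp [h]
    · simpa [h] using n1_neg_one S.hF
  have hδ1 : δ ^ (q + 1) = 1 := by
    rw [hδ, mul_pow, hsign, one_mul, ← Finset.prod_pow]
    exact Finset.prod_eq_one fun i _ => ha i
  have ha' : ∀ i, Function.update a l δ⁻¹ i ^ (q + 1) = 1 := fun i => by
    by_cases h : i = l
    · subst h; rw [Function.update_self]; exact n1_inv hδ1
    · rw [Function.update_of_ne h]; exact ha i
  obtain ⟨g, hg, hm, hd⟩ := exists_mono S.hF p _ ha'
  refine ⟨g, S.mem_mono hg ?_ hm.mon, δ⁻¹, n1_inv hδ1, hm⟩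
  rw [hd, ← Finset.mul_prod_erase _ _ (Finset.mem_univ l), Function.update_self,
    Finset.prod_congr rfl fun i hi => Function.update_of_ne (Finset.ne_of_mem_erase hi) _ _]
  have h0 := n1_ne_zero hδ1
  rw [mul_left_comm, ← hδ, inv_mul_cancel₀ h0]

/-- two quasi-reflections of the frame with inverse scalars -/
theorem bip_mem (i j : Fin n) {a : F} (ha : a ^ (q + 1) = 1) :
    qr q (bas i) a * qr q (bas j) a⁻¹ ∈ S.K := by
  refine S.mem_mono (mul_mem (qr_mem S.hF (H_bas_self S.hF i) ha)
    (qr_mem S.hF (H_bas_self S.hF j) (n1_inv ha))) ?_ ((qr_bas S.hF i ha).mul (qr_bas S.hF j (n1_inv ha))).mon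
  rw [Units.val_mul, det_mul, det_qr S.hF (H_bas_self S.hF i) ha,
    det_qr S.hF (H_bas_self S.hF j) (n1_inv ha), mul_inv_cancel₀ (n1_ne_zero ha)]

theorem qr_pair_conj {g : GLn} (hg : g ∈ S.K) (i j : Fin n) {a : F} (ha : a ^ (q + 1) = 1) :
    qr q (act g (bas i)) a * qr q (act g (bas j)) a⁻¹ ∈ S.K := by
  have h := mul_mem (mul_mem hg (S.bip_mem i j ha)) (inv_mem hg)
  rw [← qr_conj S.hF (H_bas_self S.hF i) ha (S.gu hg),
    ← qr_conj S.hF (H_bas_self S.hF j) (n1_inv ha) (S.gu hg)]
  convert h using 1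
  group

/-- a monomial column gives the goal -/
theorem goal_of_col (h2 : 2 ≤ n) {g : GLn} (hg : g ∈ S.K) (hn : ¬ Mon g) {k m : Fin n} {c : F}
    (hk : act g (bas k) = c • bas m) : S.Goal := by
  classical
  have : Nontrivial (Fin n) := Fin.nontrivial_iff_two_le.2 h2
  obtain ⟨l, hl⟩ := exists_ne m
  have hc : c ^ (q + 1) = 1 := by
    have := GU_act (S.gu hg) (bas k) (bas k)
    rw [hk, H_bas_self S.hF, H_smul_left, H_smul_right, H_bas_self S.hF, mul_one] at this
    rw [pow_succ']; exact this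
  obtain ⟨π, hπ, d, -, hπm⟩ := S.exists_K_mono (Equiv.swap m k) (Function.update (fun _ => 1) m c⁻¹)
    (fun i => by
      by_cases h : i = m
      · subst h; rw [Function.update_self]; exact n1_inv hc
      · rw [Function.update_of_ne h, one_pow]) l
  refine ⟨π * g, mul_mem hπ hg, fun h => hn ?_, k, ?_⟩
  · have := hπm.mon.inv.mul h
    rwa [inv_mul_cancel_left] at this
  · rw [act_mul, hk, act, mulVec_smul, ← act, hπm, Equiv.swap_apply_left, Function.update_of_ne (Ne.symm hl),
      Function.update_self, smul_smul, mul_inv_cancel₀ (n1_ne_zero hc), one_smul]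

end Setup

end Cfsg.Agent.Forms.Max.HermFrame
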