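import Mathlib
import Cfsg.Agent.Lib.Forms.Max.HermFrame.Basic

/-!
# Members preserving a set of frame vectors

A non-monomial member which maps a coordinate subspace onto a coordinate subspace yields one which fixes a frame
vector: a conjugate of two opposite quasi-reflections cannot be monomial.
-/

set_option autoImplicit false
set_option linter.unusedSectionVars false

namespace Cfsg.Agent.Forms.Max.HermFrame

open Matrix Cfsg.Agent.Classical.Unitary

variable {F : Type*} [Field F] [Fintype F] {n q : ℕ}

local notation "Vec" => (Fin n → F)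
local notation "GLn" => GL (Fin n) F
local notation "H" => Cfsg.hermForm n F q

/-- orthonormal vectors inside a coordinate subspace are few -/
theorem card_le_of_supp {g : GLn} {B B' : Finset (Fin n)}
    (h : ∀ i ∈ B, supp (act g (bas i)) ⊆ B') : B.card ≤ B'.card := by
  classical
  let L : (B → F) →ₗ[F] (B' → F) :=
    { toFun := fun c j => act g (∑ i : B, c i • bas (i : Fin n)) j
      map_add' := fun c d => by
        funext j
        simp [act, mulVec_add, add_smul, Finset.sum_add_distrib]
      map_smul' := fun t c => by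
        funext j
        simp only [Pi.smul_apply, smul_eq_mul, RingHom.id_apply, ← smul_smul, ← Finset.smul_sum, act,
          mulVec_smul] }
  have hinj : Function.Injective L := by
    rw [injective_iff_map_eq_zero]
    intro c hc
    have hz : act g (∑ i : B, c i • bas (i : Fin n)) = 0 := by
      funext j
      by_cases hj : j ∈ B'
      · exact congrFun hc ⟨j, hj⟩
      · rw [act_sum, Finset.sum_apply]
        refine Finset.sum_eq_zero fun i _ => ?_
        have := not_mem_supp.1 fun hm => hj (h i i.2 hm)
        simp only [act, mulVec_smul, Pi.smul_apply, smul_eq_mul]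
        rw [← act, this, mul_zero]
    have h0 := mulVec_inj g (hz.trans (mulVec_zero _).symm)
    funext i
    have := congrFun h0 i
    rw [Finset.sum_apply, Finset.sum_eq_single i] at this
    · simpa [bas] using this
    · intro k _ hk
      simp [bas, Pi.single_eq_of_ne (fun e : (i : Fin n) = k => hk (Subtype.ext e.symm))]
    · simp
  simpa using LinearMap.finrank_le_finrank_of_injective hinj

/-- two opposite quasi-reflections in spread out vectors are not monomial -/
theorem not_mon_pair (hF : Fintype.card F = q ^ 2) {v w : Vec} (hv : H v v = 1) (hw : H w w = 1)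
    (ho : H v w = 0) (hv2 : 2 ≤ (supp v).card) (hw2 : 2 ≤ (supp w).card) {a : F} (ha : a ^ (q + 1) = 1)
    (ha1 : a ≠ 1) (hsep : a * a ≠ 1 ∨ Disjoint (supp v) (supp w))
    (htr : a + a⁻¹ ≠ 2 - ((supp v ∪ supp w).card : F) ∨ 5 ≤ (supp v ∪ supp w).card) :
    ¬ Mon (qr q v a * qr q w a⁻¹) := by
  classical
  intro hm
  set h := qr q v a * qr q w a⁻¹ with hh
  set U := supp v ∪ supp w with hU
  have ha0 := n1_ne_zero ha
  have how := (H_eq_zero_comm hF).1 ho
  have hgu : h ∈ Cfsg.GU n F q := mul_mem (qr_mem hF hv ha) (qr_mem hF hw (n1_inv ha))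
  have hact : ∀ x, act h x = x + ((a - 1) * H x v) • v + ((a⁻¹ - 1) * H x w) • w := fun x => by
    rw [hh, act_mul, act_qr hF hw (n1_inv ha), act_qr hF hv ha, H_add_left, H_smul_left, how, mul_zero,
      add_zero]
    abel
  obtain ⟨p, c, hp, -⟩ := hm.exists_isMono
  have eigen : ∀ k, p k = k → (a - c k) * v k ^ q = 0 ∧ (a⁻¹ - c k) * w k ^ q = 0 := fun k hk => by
    have e := hp k
    rw [hk, hact] at e
    constructor
    · have := congrArg (fun x => H x v) e
      simp only [H_add_left, H_smul_left, hv, how, mul_zero, mul_one, add_zero, H_bas_left hF] at this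
      linear_combination this
    · have := congrArg (fun x => H x w) e
      simp only [H_add_left, H_smul_left, hw, ho, mul_zero, mul_one, add_zero, H_bas_left hF] at this
      linear_combination this
  have hout : ∀ k, k ∉ U → p k = k ∧ c k = 1 := fun k hk => by
    have e := hp k
    rw [hU, Finset.mem_union, not_or, not_mem_supp, not_mem_supp] at hk
    rw [hact, H_bas_left hF, H_bas_left hF, hk.1, hk.2, zero_pow (q_ne_zero hF), mul_zero, mul_zero, zero_smul,
      zero_smul, add_zero, add_zero, ← one_smul F (bas k)] at e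
    obtain ⟨h1, h2⟩ := smul_bas_inj one_ne_zero e
    exact ⟨h1.symm, h2.symm⟩
  -- the permutation moves every coordinate of the two vectors
  have hmove : ∀ k ∈ U, p k ≠ k := by
    intro k hk hpk
    obtain ⟨e1, e2⟩ := eigen k hpk
    have e := hp k
    rw [hpk, hact, H_bas_left hF, H_bas_left hF] at e
    have single : ∀ {z : Vec} {t : F}, (c k - 1) • bas k = t • z → z k ≠ 0 → c k ≠ 1 → (supp z).card ≤ 1 := by
      intro z t ht hzk hc1
      refine Finset.card_le_one.2 fun i hi j hj => ?_
      have key : ∀ i ∈ supp z, i = k := fun i hi => by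
        by_contra hik
        have h1 := congrFun ht i
        simp [bas, Pi.single_eq_of_ne hik, mem_supp.1 hi] at h1
        have h2 := congrFun ht k
        simp [bas, h1] at h2
        exact sub_ne_zero.2 hc1 h2
      rw [key i hi, key j hj]
    by_cases hvk : v k = 0
    · have hwk : w k ≠ 0 := (Finset.mem_union.1 hk).elim (fun h => absurd hvk (mem_supp.1 h)) mem_supp.1
      have hc : c k = a⁻¹ :=
        (sub_eq_zero.1 ((mul_eq_zero.1 e2).resolve_right (pow_ne_zero _ hwk))).symm
      rw [hvk, zero_pow (q_ne_zero hF), mul_zero, zero_smul, add_zero] at e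
      have := single (z := w) (t := (a⁻¹ - 1) * w k ^ q) (by rw [sub_smul, one_smul, ← e]; abel) hwk
        (by rw [hc]; exact fun h => ha1 (inv_eq_one.1 h))
      omega
    · have hc : c k = a := (sub_eq_zero.1 ((mul_eq_zero.1 e1).resolve_right (pow_ne_zero _ hvk))).symm
      by_cases hwk : w k = 0
      · rw [hwk, zero_pow (q_ne_zero hF), mul_zero, zero_smul, add_zero] at e
        have := single (z := v) (t := (a - 1) * v k ^ q) (by rw [sub_smul, one_smul, ← e]; abel) hvk
          (by rw [hc]; exact ha1)
        omega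
      · rcases hsep with hsep | hsep
        · have hc' : c k = a⁻¹ :=
            (sub_eq_zero.1 ((mul_eq_zero.1 e2).resolve_right (pow_ne_zero _ hwk))).symm
          exact hsep (by rw [hc] at hc'; nth_rewrite 1 [hc']; exact inv_mul_cancel₀ ha0)
        · exact Finset.disjoint_left.1 hsep (mem_supp.2 hvk) (mem_supp.2 hwk)
  rcases htr with htr | htr
  · -- compare the traces
    refine htr ?_
    have h1 : ∑ k, act h (bas k) k = ((Finset.univ \ U).card : F) := by
      rw [← Finset.sum_sdiff (Finset.subset_univ U), Finset.sum_eq_zero (s := U) fun k hk => ?_, add_zero,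
        Finset.cast_card]
      · refine Finset.sum_congr rfl fun k hk => ?_
        obtain ⟨e1, e2⟩ := hout k (Finset.mem_sdiff.1 hk).2
        rw [hp, e1, e2, one_smul, bas_self]
      · rw [hp, Pi.smul_apply, bas_ne (hmove k hk).symm, smul_zero]
    have h2 : ∑ k, act h (bas k) k = (n : F) + (a - 1) + (a⁻¹ - 1) := by
      have : ∀ k, act h (bas k) k = 1 + (a - 1) * nrm q (v k) + (a⁻¹ - 1) * nrm q (w k) := fun k => by
        rw [hact, Pi.add_apply, Pi.add_apply, Pi.smul_apply, Pi.smul_apply, bas_self, H_bas_left hF,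
          H_bas_left hF, nrm, nrm, smul_eq_mul, smul_eq_mul]
        ring
      rw [Finset.sum_congr rfl fun k _ => this k, Finset.sum_add_distrib, Finset.sum_add_distrib,
        ← Finset.mul_sum, ← Finset.mul_sum, ← H_self, ← H_self, hv, hw]
      simp
    have h3 : ((Finset.univ \ U).card : F) + (U.card : F) = (n : F) := by
      rw [← Nat.cast_add, Finset.card_sdiff_add_card_eq_card (Finset.subset_univ U), Finset.card_univ,
        Fintype.card_fin]
    linear_combination h1.symm.trans h2 * (-1 : F) + h3
  · -- three independent images in a plane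
    obtain ⟨k₁, h1⟩ := Finset.card_pos.1 (show 0 < U.card by omega)
    obtain ⟨k₂, h2⟩ := Finset.card_pos.1 (show 0 < (U \ {k₁, p k₁}).card by
      have := Finset.le_card_sdiff {k₁, p k₁} U
      have := Finset.card_le_two (a := k₁) (b := p k₁)
      omega)
    obtain ⟨k₃, h3⟩ := Finset.card_pos.1 (show 0 < (U \ {k₁, p k₁, k₂, p k₂}).card by
      have := Finset.le_card_sdiff {k₁, p k₁, k₂, p k₂} U
      have := Finset.card_le_four (a := k₁) (b := p k₁) (c := k₂) (d := p k₂)
      omega)
    simp only [Finset.mem_sdiff, Finset.mem_insert, Finset.mem_singleton, not_or] at h2 h3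
    set W := Submodule.span F ({v, w} : Set Vec) with hW
    let z : Fin 3 → Vec := fun i => act h (bas (![k₁, k₂, k₃] i)) - bas (![k₁, k₂, k₃] i)
    have hzW : ∀ i, z i ∈ W := fun i => by
      simp only [z, hact]
      rw [add_assoc, add_sub_cancel_left]
      exact W.add_mem (W.smul_mem _ (Submodule.subset_span (by simp))) (W.smul_mem _ (Submodule.subset_span (by simp)))
    have hzk : ∀ k, k ∈ U → ∀ j, (act h (bas k) - bas k : Vec) j =
        (if j = p k then c k else 0) - if j = k then 1 else 0 := fun k _ j => by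
      rw [hp, Pi.sub_apply, Pi.smul_apply, bas_apply, bas_apply, smul_eq_mul, mul_ite, mul_one, mul_zero]
    have hli : LinearIndependent F z := by
      rw [Fintype.linearIndependent_iff]
      intro b hb
      simp only [Fin.sum_univ_three, z, Matrix.cons_val_zero, Matrix.cons_val_one, Matrix.cons_val_two,
        Matrix.tail_cons, Matrix.head_cons] at hb
      have ev : ∀ j, b 0 * ((if j = p k₁ then c k₁ else 0) - if j = k₁ then 1 else 0) +
          b 1 * ((if j = p k₂ then c k₂ else 0) - if j = k₂ then 1 else 0) +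
          b 2 * ((if j = p k₃ then c k₃ else 0) - if j = k₃ then 1 else 0) = 0 := fun j => by
        rw [← hzk _ h1, ← hzk _ h2.1, ← hzk _ h3.1]
        exact congrFun hb j
      have n1 := hmove _ h1
      have n2 := hmove _ h2.1
      have n3 := hmove _ h3.1
      have b2 : b 2 = 0 := by
        have := ev k₃
        simpa [h3.2.1, h3.2.2.1, h3.2.2.2.1, h3.2.2.2.2, Ne.symm n3] using this
      have b1 : b 1 = 0 := by
        have := ev k₂
        simpa [b2, h2.2.1, h2.2.2, Ne.symm n2] using this
      have b0 : b 0 = 0 := by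
        have := ev k₁
        simpa [b2, b1, Ne.symm n1] using this
      intro i; fin_cases i <;> assumption
    have hle : Submodule.span F (Set.range z) ≤ W := Submodule.span_le.2 (by rintro _ ⟨i, rfl⟩; exact hzW i)
    have := Submodule.finrank_mono hle
    rw [finrank_span_eq_card hli, Fintype.card_fin, hW] at this
    have h2' := finrank_span_le_card (R := F) ({v, w} : Set Vec)
    have : (({v, w} : Set Vec).toFinset).card ≤ 2 := by
      rw [Set.toFinset_insert, Set.toFinset_singleton]; exact Finset.card_le_two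
    omega

namespace Setup

variable (S : Setup F n q)

theorem goal_of_pair {g : GLn} (hg : g ∈ S.K) (hcol : ∀ i, 2 ≤ (supp (act g (bas i))).card)
    {i j : Fin n} (hij : i ≠ j) {l : Fin n} (hl : l ∉ supp (act g (bas i)) ∪ supp (act g (bas j)))
    {a : F} (ha : a ^ (q + 1) = 1) (ha1 : a ≠ 1)
    (hsep : a * a ≠ 1 ∨ Disjoint (supp (act g (bas i))) (supp (act g (bas j))))
    (htr : a + a⁻¹ ≠ 2 - ((supp (act g (bas i)) ∪ supp (act g (bas j))).card : F) ∨
      5 ≤ (supp (act g (bas i)) ∪ supp (act g (bas j))).card) : S.Goal := by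
  classical
  have hgu := S.gu hg
  have hv : H (act g (bas i)) (act g (bas i)) = 1 := by rw [GU_act hgu, H_bas_self S.hF]
  have hw : H (act g (bas j)) (act g (bas j)) = 1 := by rw [GU_act hgu, H_bas_self S.hF]
  have ho : H (act g (bas i)) (act g (bas j)) = 0 := by rw [GU_act hgu, H_bas S.hF, if_neg hij]
  refine ⟨_, S.qr_pair_conj hg i j ha, not_mon_pair S.hF hv hw ho (hcol i) (hcol j) ha ha1 hsep htr, l, ?_⟩
  rw [Finset.mem_union, not_or, not_mem_supp, not_mem_supp] at hl
  rw [act_mul, qr_fix S.hF hw (n1_inv ha) (by rw [H_bas_left S.hF, hl.2, zero_pow (q_ne_zero S.hF)]),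
    qr_fix S.hF hv ha (by rw [H_bas_left S.hF, hl.1, zero_pow (q_ne_zero S.hF)])]

/-- a non-monomial member mapping a coordinate subspace to another gives the goal -/
theorem goal_of_block (hn : 5 ≤ n) (h3 : 3 ≤ q) {g : GLn} (hg : g ∈ S.K) (hm : ¬ Mon g)
    {B B' : Finset (Fin n)} (hB : B.Nonempty) (hBu : B ≠ Finset.univ)
    (hin : ∀ i ∈ B, supp (act g (bas i)) ⊆ B') (hout : ∀ i, i ∉ B → Disjoint (supp (act g (bas i))) B') :
    S.Goal := by
  classical
  by_cases hcol : ∀ i, 2 ≤ (supp (act g (bas i))).card
  swap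
  · push Not at hcol
    obtain ⟨k, hk⟩ := hcol
    obtain ⟨m, hm'⟩ : ∃ m, supp (act g (bas k)) ⊆ {m} := by
      rcases Finset.eq_empty_or_nonempty (supp (act g (bas k))) with h | ⟨m, hmem⟩
      · exact ⟨⟨0, by omega⟩, by rw [h]; exact Finset.empty_subset _⟩
      · exact ⟨m, fun x hx => Finset.mem_singleton.2 (Finset.card_le_one.1 (by omega) x hx m hmem)⟩
    refine S.goal_of_col (by omega) hg hm (k := k) (m := m) (c := act g (bas k) m) (funext fun x => ?_)
    by_cases hx : x = m
    · subst hx; simp [bas]
    · rw [Pi.smul_apply, bas_ne hx, smul_zero]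
      exact not_mem_supp.1 fun h => hx (Finset.mem_singleton.1 (hm' h))
  by_cases hcross : ∃ i ∈ B, ∃ j, j ∉ B ∧ ∃ l, l ∉ supp (act g (bas i)) ∪ supp (act g (bas j))
  · obtain ⟨i, hi, j, hj, l, hl⟩ := hcross
    obtain ⟨a, ha, ha1, htr⟩ :=
      exists_trace_avoid S.hF h3 (2 - ((supp (act g (bas i)) ∪ supp (act g (bas j))).card : F))
    exact S.goal_of_pair hg hcol (fun e => hj (by rw [← e]; exact hi)) hl ha ha1
      (Or.inr ((hout j hj).symm.mono_left (hin i hi))) (Or.inl htr)
  push Not at hcross
  obtain ⟨i₀, hi₀⟩ := hB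
  obtain ⟨j₀, hj₀⟩ : ∃ j, j ∉ B := by
    by_contra hc
    push Not at hc
    exact hBu (Finset.eq_univ_iff_forall.2 hc)
  have hfullB : ∀ i ∈ B, supp (act g (bas i)) = B' := fun i hi => by
    refine Finset.Subset.antisymm (hin i hi) fun x hx => ?_
    rcases Finset.mem_union.1 (hcross i hi j₀ hj₀ x) with h | h
    · exact h
    · exact absurd hx (Finset.disjoint_left.1 (hout j₀ hj₀) h)
  have hout' : ∀ j, j ∉ B → supp (act g (bas j)) ⊆ Finset.univ \ B' := fun j hj x hx =>
    Finset.mem_sdiff.2 ⟨Finset.mem_univ x, Finset.disjoint_left.1 (hout j hj) hx⟩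
  have hfullC : ∀ j, j ∉ B → supp (act g (bas j)) = Finset.univ \ B' := fun j hj => by
    refine Finset.Subset.antisymm (hout' j hj) fun x hx => ?_
    rcases Finset.mem_union.1 (hcross i₀ hi₀ j hj x) with h | h
    · exact absurd (hin i₀ hi₀ h) (Finset.mem_sdiff.1 hx).2
    · exact h
  have c1 := card_le_of_supp (g := g) hin
  have c2 := card_le_of_supp (g := g) (B := Finset.univ \ B) (B' := Finset.univ \ B')
    fun j hj => hout' j (Finset.mem_sdiff.1 hj).2
  have c3 := Finset.card_sdiff_add_card_eq_card (Finset.subset_univ B)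
  have c4 := Finset.card_sdiff_add_card_eq_card (Finset.subset_univ B')
  rw [Finset.card_univ, Fintype.card_fin] at c3 c4
  -- a pair inside the larger of the two parts
  obtain ⟨i, j, hij, hU, hU3⟩ : ∃ i j, i ≠ j ∧
      (∃ l, l ∉ supp (act g (bas i)) ∪ supp (act g (bas j))) ∧
      3 ≤ (supp (act g (bas i)) ∪ supp (act g (bas j))).card := by
    rcases le_or_gt n (2 * B.card) with hb | hb
    · obtain ⟨i, hi, j, hj, hij⟩ := Finset.one_lt_card.1 (show 1 < B.card by omega)
      obtain ⟨l, hl⟩ := Finset.card_pos.1 ((hfullC j₀ hj₀) ▸ (show 0 < (supp (act g (bas j₀))).card by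
        have := hcol j₀; omega))
      refine ⟨i, j, hij, ⟨l, ?_⟩, ?_⟩
      · rw [hfullB i hi, hfullB j hj, Finset.union_self]; exact (Finset.mem_sdiff.1 hl).2
      · rw [hfullB i hi, hfullB j hj, Finset.union_self]; omega
    · obtain ⟨i, hi, j, hj, hij⟩ := Finset.one_lt_card.1 (show 1 < (Finset.univ \ B).card by omega)
      obtain ⟨l, hl⟩ := Finset.card_pos.1 ((hfullB i₀ hi₀) ▸ (show 0 < (supp (act g (bas i₀))).card by
        have := hcol i₀; omega))
      rw [Finset.mem_sdiff] at hi hj
      refine ⟨i, j, hij, ⟨l, ?_⟩, ?_⟩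
      · rw [hfullC i hi.2, hfullC j hj.2, Finset.union_self]
        exact fun h => (Finset.mem_sdiff.1 h).2 hl
      · rw [hfullC i hi.2, hfullC j hj.2, Finset.union_self]; omega
  obtain ⟨l, hl⟩ := hU
  obtain ⟨a, ha, hgen⟩ := exists_gen S.hF
  have ha0 := n1_ne_zero ha
  have ha2 : a * a ≠ 1 := fun h => hgen 2 (by omega) (by omega) (by rw [pow_two, h])
  have ha1 : a ≠ 1 := fun h => ha2 (by rw [h, mul_one])
  refine S.goal_of_pair hg hcol hij hl ha ha1 (Or.inl ha2) ?_
  set m := (supp (act g (bas i)) ∪ supp (act g (bas j))).card with hm4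
  by_cases h5 : 5 ≤ m
  · exact Or.inr h5
  left
  intro htr
  rcases (show m = 3 ∨ m = 4 by omega) with e | e <;> rw [e] at htr <;> field_simp at htr <;> push_cast at htr
  · refine hgen 3 (by omega) (by omega) ?_
    linear_combination (a - 1) * htr
  · have h1 : (a + 1) ^ 2 = 0 := by linear_combination htr
    refine ha2 ?_
    rw [eq_neg_of_add_eq_zero_left (eq_zero_of_pow_eq_zero h1)]
    ring

/-- a member conjugating a diagonal element which is not scalar to a diagonal one gives the goal -/
theorem goal_of_diag (hn : 5 ≤ n) (h3 : 3 ≤ q) {g : GLn} (hg : g ∈ S.K) (hm : ¬ Mon g)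
    {t t' : GLn} {a a' : Vec} (ht : IsMono t 1 a) (ht' : IsMono t' 1 a') {i₀ i₁ : Fin n} (hne : a i₁ ≠ a i₀)
    (he : g * t = t' * g) : S.Goal := by
  classical
  have eig : ∀ i j, a i ≠ a' j → act g (bas i) j = 0 := fun i j hij => by
    have h1 := congrArg (fun z : GLn => act z (bas i) j) he
    simp only [act_mul, ht i] at h1
    rw [ht'.eq_diag, act, mulVec_smul, ← act, Pi.smul_apply, smul_eq_mul] at h1
    simp only [Equiv.Perm.one_apply] at h1
    have : (a i - a' j) * act g (bas i) j = 0 := by linear_combination h1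
    exact (mul_eq_zero.1 this).resolve_left (sub_ne_zero.2 hij)
  refine S.goal_of_block hn h3 hg hm (B := Finset.univ.filter fun i => a i = a i₀)
    (B' := Finset.univ.filter fun j => a' j = a i₀) ⟨i₀, by simp⟩ (fun h => hne ?_) (fun i hi j hj => ?_)
    fun i hi => Finset.disjoint_left.2 fun j hj hj' => ?_
  · simpa using Finset.eq_univ_iff_forall.1 h i₁
  · simp only [Finset.mem_filter, Finset.mem_univ, true_and] at hi ⊢
    by_contra hc
    exact mem_supp.1 hj (eig i j (by rw [hi]; exact Ne.symm hc))
  · simp only [Finset.mem_filter, Finset.mem_univ, true_and] at hi hj'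
    exact mem_supp.1 hj (eig i j (by rw [hj']; exact hi))

end Setup

end Cfsg.Agent.Forms.Max.HermFrame
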