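import Mathlib
import Cfsg.Agent.Lib.Forms.Max.Unitary
import Cfsg.Agent.Lib.Forms.Max.HermFrame.Basic

/-!
# Orthogonal blocks of coordinates of the standard hermitian space

A subgroup of the special unitary group containing all maps permuting the blocks and one further map is the whole
special unitary group: every isotropic vector becomes a centre of transvections.
-/

set_option autoImplicit false
set_option linter.unusedSectionVars false

namespace Cfsg.Agent.Forms.Max.HermFrame

open Matrix Cfsg.Agent.Classical.Unitary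

variable {F : Type*} [Field F] [Fintype F] {n q t k : ℕ}

local notation "Vec" => (Fin n → F)
local notation "GLn" => GL (Fin n) F
local notation "H" => Cfsg.hermForm n F q
local notation "SUn" => (Cfsg.GU n F q ⊓ Cfsg.Geo.specialLinear (Fin n) F)

variable (idx : Fin n ≃ Fin t × Fin k)

/-- the vectors living on one block of coordinates -/
def block (i : Fin t) : Submodule F (Fin n → F) where
  carrier := {v | ∀ x, (idx x).1 ≠ i → v x = 0}
  add_mem' {v w} hv hw x hx := by simp [hv x hx, hw x hx]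
  zero_mem' _ _ := rfl
  smul_mem' c v hv x hx := by simp [hv x hx]

/-- the component of a vector on one block -/
def comp (i : Fin t) : (Fin n → F) →ₗ[F] (Fin n → F) where
  toFun v x := if (idx x).1 = i then v x else 0
  map_add' v w := funext fun x => by by_cases h : (idx x).1 = i <;> simp [h]
  map_smul' c v := funext fun x => by by_cases h : (idx x).1 = i <;> simp [h]

/-- permuting the blocks -/
def BlockMon (g : GL (Fin n) F) : Prop :=
  ∃ σ : Equiv.Perm (Fin t), ∀ i, ∀ v ∈ block (F := F) idx i, act g v ∈ block idx (σ i)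

theorem mem_block {i : Fin t} {v : Vec} : v ∈ block idx i ↔ ∀ x, (idx x).1 ≠ i → v x = 0 := Iff.rfl

theorem comp_apply (i : Fin t) (v : Vec) (x : Fin n) : comp idx i v x = if (idx x).1 = i then v x else 0 := rfl

theorem comp_mem (i : Fin t) (v : Vec) : comp idx i v ∈ block idx i := fun x hx => by
  rw [comp_apply, if_neg hx]

theorem comp_self {i : Fin t} {v : Vec} (hv : v ∈ block idx i) : comp idx i v = v := funext fun x => by
  rw [comp_apply]
  split
  · rfl
  · next h => exact (hv x h).symm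

theorem comp_other {i j : Fin t} {v : Vec} (hv : v ∈ block idx i) (h : j ≠ i) : comp idx j v = 0 :=
  funext fun x => by
    rw [comp_apply]
    split
    · next hx => exact hv x (hx ▸ h)
    · rfl

theorem sum_comp (v : Vec) : ∑ i, comp idx i v = v := funext fun x => by
  simp [Finset.sum_apply, comp_apply]

theorem eq_of_two {i j : Fin t} (hij : i ≠ j) {v : Vec} (h : ∀ l, l ≠ i → l ≠ j → comp idx l v = 0) :
    v = comp idx i v + comp idx j v := by
  conv_lhs => rw [← sum_comp idx v]
  exact Finset.sum_eq_add i j hij (fun l _ hl => h l hl.1 hl.2) (by simp) (by simp)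

theorem mem_block_of_comp {i : Fin t} {v : Vec} (h : ∀ l, l ≠ i → comp idx l v = 0) : v ∈ block idx i :=
  fun x hx => by
    have := congrFun (h _ hx) x
    rwa [comp_apply, if_pos rfl] at this

theorem finrank_block (i : Fin t) : Module.finrank F (block (F := F) idx i) = k := by
  let e : block (F := F) idx i ≃ₗ[F] (Fin k → F) :=
    { toFun := fun v a => (v : Vec) (idx.symm (i, a))
      map_add' := fun v w => rfl
      map_smul' := fun c v => rfl
      invFun := fun u => ⟨fun x => if (idx x).1 = i then u (idx x).2 else 0, fun x hx => if_neg hx⟩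
      left_inv := fun v => Subtype.ext (funext fun x => by
        show (if (idx x).1 = i then (v : Vec) (idx.symm (i, (idx x).2)) else 0) = (v : Vec) x
        split
        · next h => rw [show (i, (idx x).2) = idx x from Prod.ext h.symm rfl, Equiv.symm_apply_apply]
        · next h => exact (v.2 x h).symm)
      right_inv := fun u => funext fun a => by simp }
  rw [e.finrank_eq, Module.finrank_fintype_fun_eq_card, Fintype.card_fin]

theorem BlockMon.of_fix {g : GLn} (h : ∀ i, ∀ v ∈ block idx i, act g v ∈ block idx i) : BlockMon idx g :=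
  ⟨1, h⟩

variable (hF : Fintype.card F = q ^ 2)
include hF

theorem H_block {i j : Fin t} (hij : i ≠ j) {u v : Vec} (hu : u ∈ block idx i) (hv : v ∈ block idx j) :
    H u v = 0 := by
  refine Finset.sum_eq_zero fun x _ => ?_
  by_cases h : (idx x).1 = i
  · rw [hv x (h ▸ hij), zero_pow (q_ne_zero hF), mul_zero]
  · rw [hu x h, zero_mul]

theorem H_comp_right {i : Fin t} {w : Vec} (hw : w ∈ block idx i) (v : Vec) : H v w = H (comp idx i v) w := by
  conv_lhs => rw [← sum_comp idx v]
  rw [H_sum_left, Finset.sum_eq_single i (fun l _ hl => H_block idx hF hl (comp_mem idx l v) hw)]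
  simp

theorem H_comp_left {i : Fin t} {w : Vec} (hw : w ∈ block idx i) (v : Vec) : H w v = H w (comp idx i v) := by
  rw [← H_conj hF, H_comp_right idx hF hw, H_conj hF]

theorem block_nondeg (i : Fin t) : ∀ w ∈ block idx i, w ≠ 0 → ∃ x ∈ block idx i, H w x ≠ 0 := by
  intro w hw hw0
  obtain ⟨x, hx⟩ : ∃ x, w x ≠ 0 := Function.ne_iff.1 hw0
  refine ⟨bas x, fun y hy => bas_ne fun e => hx ?_, by rwa [H_bas_right hF]⟩
  subst e
  exact hw y hy

theorem block_ne_bot (hk : 1 ≤ k) (i : Fin t) : block (F := F) idx i ≠ ⊥ := fun h => by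
  have := finrank_block (F := F) idx i
  rw [h, finrank_bot] at this
  omega

omit hF in
theorem finrank_add_line {W S : Submodule F Vec} (w : Vec) (h : W ≤ S ⊔ Submodule.span F {w}) :
    Module.finrank F W ≤ Module.finrank F S + 1 := by
  classical
  have h1 := Submodule.finrank_mono h
  have h2 := Submodule.finrank_sup_add_finrank_inf_eq S (Submodule.span F {w})
  have h3 : Module.finrank F (Submodule.span F ({w} : Set Vec)) ≤ 1 := by
    simpa using finrank_span_le_card ({w} : Set Vec)
  omega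

/-- the perpendicular of an anisotropic vector inside a non-degenerate space -/
theorem split_one {W : Submodule F Vec} (hW : ∀ w ∈ W, w ≠ 0 → ∃ x ∈ W, H w x ≠ 0) {w : Vec}
    (hw : w ∈ W) (hww : H w w ≠ 0) :
    (∀ u ∈ W ⊓ LinearMap.ker (hlin q w), u ≠ 0 → ∃ x ∈ W ⊓ LinearMap.ker (hlin q w), H u x ≠ 0) ∧
      Module.finrank F W ≤ Module.finrank F ↥(W ⊓ LinearMap.ker (hlin q w)) + 1 := by
  have proj : ∀ x ∈ W, x - (H x w / H w w) • w ∈ W ⊓ LinearMap.ker (hlin q w) := fun x hx =>
    ⟨W.sub_mem hx (W.smul_mem _ hw), by simp [H_sub_left, H_smul_left, hww]⟩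
  refine ⟨fun u hu hu0 => ?_, finrank_add_line w fun x hx => ?_⟩
  · obtain ⟨x, hx, hux⟩ := hW u hu.1 hu0
    refine ⟨_, proj x hx, ?_⟩
    rwa [H_sub_right hF, H_smul_right, show H u w = 0 from hu.2, mul_zero, sub_zero]
  · rw [← sub_add_cancel x ((H x w / H w w) • w)]
    exact Submodule.add_mem_sup (proj x hx) (Submodule.smul_mem _ _ (Submodule.mem_span_singleton_self w))

/-- a unit vector of a block orthogonal to a given one -/
theorem exists_unit_perp (hk : 2 ≤ k) (l : Fin t) {w : Vec} (hw : w ∈ block idx l) (h : 3 ≤ k ∨ w = 0) :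
    ∃ z ∈ block idx l, H z z = 1 ∧ H z w = 0 := by
  by_cases hw0 : w = 0
  · subst hw0
    obtain ⟨z, hz, hzz⟩ := Unitary.exists_value hF (block_ne_bot idx hF (by omega) l) (block_nondeg idx hF l)
      (one_pow q) one_ne_zero
    exact ⟨z, hz, hzz, H_zero_right hF z⟩
  have hk3 := h.resolve_right hw0
  set W := block (F := F) idx l with hWdef
  by_cases hww : H w w = 0
  swap
  · obtain ⟨hS, hd⟩ := split_one hF (block_nondeg idx hF l) hw hww
    obtain ⟨z, hz, hzz⟩ := Unitary.exists_value hF (fun h => by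
      rw [h, finrank_bot, finrank_block] at hd; omega) hS (one_pow q) one_ne_zero
    exact ⟨z, hz.1, hzz, hz.2⟩
  obtain ⟨f, hf, hff, hwf⟩ := Unitary.exists_iso_partner hF (block_nondeg idx hF l) hw hw0 hww
  have hfw : H f w = 1 := by rw [← H_conj hF, hwf, one_pow]
  set S : Submodule F Vec := W ⊓ (LinearMap.ker (hlin q w) ⊓ LinearMap.ker (hlin q f)) with hSdef
  have proj : ∀ x ∈ W, x - H x f • w - H x w • f ∈ S := fun x hx =>
    ⟨W.sub_mem (W.sub_mem hx (W.smul_mem _ hw)) (W.smul_mem _ hf),
      by simp [H_sub_left, H_smul_left, hww, hfw],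
      by simp [H_sub_left, H_smul_left, hff, hwf]⟩
  have hS : ∀ u ∈ S, u ≠ 0 → ∃ x ∈ S, H u x ≠ 0 := by
    intro u hu hu0
    obtain ⟨x, hx, hux⟩ := block_nondeg idx hF l u hu.1 hu0
    refine ⟨_, proj x hx, ?_⟩
    rwa [H_sub_right hF, H_sub_right hF, H_smul_right, H_smul_right, show H u w = 0 from hu.2.1,
      show H u f = 0 from hu.2.2, mul_zero, mul_zero, sub_zero, sub_zero]
  have hd : Module.finrank F W ≤ Module.finrank F ↥(S ⊔ Submodule.span F {w}) + 1 :=
    finrank_add_line f fun x hx => by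
      rw [show x = x - H x f • w - H x w • f + H x f • w + H x w • f by abel]
      exact Submodule.add_mem_sup (Submodule.add_mem_sup (proj x hx)
        (Submodule.smul_mem _ _ (Submodule.mem_span_singleton_self w)))
        (Submodule.smul_mem _ _ (Submodule.mem_span_singleton_self f))
  have hd' : Module.finrank F ↥(S ⊔ Submodule.span F {w}) ≤ Module.finrank F S + 1 :=
    finrank_add_line w le_rfl
  obtain ⟨z, hz, hzz⟩ := Unitary.exists_value hF (fun h => by
    rw [h, finrank_bot] at hd'
    rw [hWdef, finrank_block] at hd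
    rw [h] at hd
    omega) hS (one_pow q) one_ne_zero
  exact ⟨z, hz.1, hzz, hz.2.1⟩

omit hF

/-- a subgroup of the special unitary group containing all maps permuting the blocks -/
structure BlockSetup (F : Type*) [Field F] [Fintype F] (n q t k : ℕ) where
  hF : Fintype.card F = q ^ 2
  idx : Fin n ≃ Fin t × Fin k
  K : Subgroup (GL (Fin n) F)
  le : K ≤ Cfsg.GU n F q ⊓ Cfsg.Geo.specialLinear (Fin n) F
  mem : ∀ g ∈ Cfsg.GU n F q ⊓ Cfsg.Geo.specialLinear (Fin n) F, BlockMon idx g → g ∈ K

namespace BlockSetup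

variable (S : BlockSetup F n q t k)

theorem gu {g : GLn} (hg : g ∈ S.K) : g ∈ Cfsg.GU n F q := (S.le hg).1

theorem map {g : GLn} (hg : g ∈ S.K) {v : Vec} (hv : v ∈ Unitary.centres q S.K) :
    act g v ∈ Unitary.centres q S.K := Unitary.centres_map S.hF S.le hg hv

/-- isotropic vectors of one block are centres -/
theorem pure {i : Fin t} {v : Vec} (hv : v ∈ block S.idx i) (hvv : H v v = 0) :
    v ∈ Unitary.centres q S.K := by
  refine ⟨hvv, fun g c hc hg => S.mem g ?_ (BlockMon.of_fix S.idx fun j x hx => ?_)⟩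
  · obtain ⟨s, hs, hsx⟩ := Unitary.exists_tv S.hF hvv hc
    exact (gl_ext fun x => by rw [hg, hsx] : g = s) ▸ hs
  · rw [act, hg]
    by_cases hji : j = i
    · subst hji; exact (block S.idx j).add_mem hx ((block S.idx j).smul_mem _ hv)
    · rw [H_block S.idx S.hF hji hx hv, mul_zero, zero_smul, add_zero]
      exact hx

/-- a component can be replaced by one of the same norm -/
theorem move (hk : 2 ≤ k) {v : Vec} (hv : v ∈ Unitary.centres q S.K)
    (h : 3 ≤ k ∨ ∃ l, comp S.idx l v = 0) {i : Fin t} {a' : Vec} (ha' : a' ∈ block S.idx i)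
    (hi : comp S.idx i v ≠ 0) (ha0 : a' ≠ 0) (hn : H a' a' = H (comp S.idx i v) (comp S.idx i v)) :
    v - comp S.idx i v + a' ∈ Unitary.centres q S.K := by
  have hF := S.hF
  have hW := block_nondeg S.idx hF i
  obtain ⟨g, hg, hgU, hga, hgW⟩ := Unitary.exists_move hF (Unitary.isCompl_perp hF hW) (Unitary.perp_perp hF _)
    (fun w hw u hu => Unitary.perp_symm hF hu hw) (comp_mem S.idx i v) ha' hi ha0 hn.symm
  have hfix : ∀ j, j ≠ i → ∀ x ∈ block S.idx j, act g x = x := fun j hj x hx =>
    hgU x (Unitary.mem_perp.2 fun w hw => H_block S.idx hF hj hx hw)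
  set a := comp S.idx i v with ha
  set w := v - a + a' with hw
  have hgv : act g v = w := by
    have hr : act g (v - a) = v - a := hgU _ (Unitary.mem_perp.2 fun u hu => by
      rw [H_sub_left, H_comp_right S.idx hF hu v, ← ha, sub_self])
    rw [hw]
    conv_lhs => rw [← sub_add_cancel v a]
    rw [act, mulVec_add, ← act, ← act, hr]
    exact congrArg _ hga
  have hwl : ∀ l, l ≠ i → comp S.idx l w = comp S.idx l v := fun l hl => by
    rw [hw, map_add, map_sub, ha, comp_other S.idx (comp_mem S.idx i v) hl, comp_other S.idx ha' hl, sub_zero,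
      add_zero]
  obtain ⟨l, hl⟩ : ∃ l, 3 ≤ k ∨ comp S.idx l w = 0 := by
    rcases h with h | ⟨l, hl⟩
    · exact ⟨i, Or.inl h⟩
    · exact ⟨l, Or.inr (by rw [hwl l fun e => hi (by rw [ha, ← e, hl]), hl])⟩
  obtain ⟨z, hz, hzz, hzw⟩ := exists_unit_perp S.idx hF hk l (comp_mem S.idx l w) hl
  rw [← H_comp_left S.idx hF hz] at hzw
  set δ := (g : Matrix (Fin n) (Fin n) F).det with hδ
  have hδ1 : δ ^ (q + 1) = 1 := HermStd.det_norm hF _ fun x y => hg x y
  have hr1 : qr q z δ⁻¹ * g ∈ S.K := by
    refine S.mem _ (Setup.mem_SU (mul_mem (qr_mem hF hzz (n1_inv hδ1)) hg) ?_) (BlockMon.of_fix S.idx fun j x hx => ?_)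
    · rw [Units.val_mul, det_mul, det_qr hF hzz (n1_inv hδ1), ← hδ, inv_mul_cancel₀ (n1_ne_zero hδ1)]
    · rw [act_mul, act_qr hF hzz (n1_inv hδ1)]
      have hgx : act g x ∈ block S.idx j := by
        by_cases hj : j = i
        · subst hj; exact hgW x hx
        · rw [hfix j hj x hx]; exact hx
      by_cases hjl : j = l
      · subst hjl; exact (block S.idx j).add_mem hgx ((block S.idx j).smul_mem _ hz)
      · rw [H_block S.idx hF hjl hgx hz, mul_zero, zero_smul, add_zero]
        exact hgx
  have := S.map hr1 hv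
  rwa [act_mul, hgv, qr_fix hF hzz (n1_inv hδ1) ((H_eq_zero_comm hF).1 hzw)] at this

/-- a member outside the block stabiliser gives a centre with two components -/
theorem exists_mixed (hk : 2 ≤ k) {g : GLn} (hg : g ∈ S.K) (hgm : ¬ BlockMon S.idx g) :
    ∃ v ∈ Unitary.centres q S.K, ∃ i j, i ≠ j ∧ comp S.idx i v ≠ 0 ∧ comp S.idx j v ≠ 0 := by
  classical
  by_contra hc
  push Not at hc
  have hF := S.hF
  have one : ∀ v ∈ Unitary.centres q S.K, ∀ i, comp S.idx i v ≠ 0 → v ∈ block S.idx i := fun v hv i hi =>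
    mem_block_of_comp S.idx fun l hl => by
      by_contra h
      exact h (hc v hv i l (Ne.symm hl) hi)
  have hσ : ∀ l, ∃ m, ∀ x ∈ block S.idx l, act g x ∈ block S.idx m := by
    intro l
    obtain ⟨e, he, he0, hee⟩ := Unitary.exists_iso hF (block_nondeg S.idx hF l) (by rw [finrank_block]; exact hk)
    have hge := S.map hg (S.pure he hee)
    obtain ⟨m, hm⟩ : ∃ m, comp S.idx m (act g e) ≠ 0 := by
      by_contra h
      push Not at h
      refine mulVec_ne_zero g he0 ?_
      show act g e = 0
      rw [← sum_comp S.idx (act g e)]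
      exact Finset.sum_eq_zero fun m _ => h m
    have hgem := one _ hge m hm
    refine ⟨m, fun x hx => Submodule.mem_comap.1
      (Unitary.iso_span hF (T := (block S.idx m).comap (Matrix.toLin' (g : Matrix (Fin n) (Fin n) F)))
        (block_nondeg S.idx hF l) (by rw [finrank_block]; exact hk) (fun u hu huu => ?_) hx)⟩
    rw [Submodule.mem_comap, Matrix.toLin'_apply]
    by_contra hum
    obtain ⟨m', hm', hm'm⟩ : ∃ m', comp S.idx m' (act g u) ≠ 0 ∧ m' ≠ m := by
      by_contra h
      push Not at h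
      exact hum (mem_block_of_comp S.idx fun l hl => by
        by_contra h'
        exact hl (h l h'))
    have hgum := one _ (S.map hg (S.pure hu huu)) m' hm'
    by_cases hue : H u e = 0
    · have hsum : H (u + e) (u + e) = 0 := by
        rw [H_add_left, H_add_right hF, H_add_right hF, huu, hee, hue, (H_eq_zero_comm hF).1 hue]
        ring
      have hs := S.map hg (S.pure ((block S.idx l).add_mem hu he) hsum)
      rw [act, mulVec_add, ← act, ← act] at hs
      refine hm' ?_
      have := hc _ hs m m' hm'm.symm (by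
        rw [map_add, comp_other S.idx hgum hm'm.symm, zero_add]; exact hm)
      rwa [map_add, comp_other S.idx hgem hm'm, add_zero] at this
    · exact hue ((GU_act (S.gu hg) u e).symm.trans (H_block S.idx hF hm'm hgum hgem))
  choose σ hσ using hσ
  have heq : ∀ l, img g (block S.idx l) = block S.idx (σ l) := fun l =>
    Submodule.eq_of_le_of_finrank_eq (fun y hy => by
      obtain ⟨x, hx, rfl⟩ := mem_img.1 hy
      exact hσ l x hx) (by rw [finrank_img, finrank_block, finrank_block])
  have hinj : Function.Injective σ := fun l l' e => by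
    by_contra hne
    obtain ⟨w, hw, hw0⟩ := Submodule.exists_mem_ne_zero_of_ne_bot (block_ne_bot S.idx hF (by omega) l)
    have := hσ l w hw
    rw [e, ← heq l'] at this
    obtain ⟨w', hw', he⟩ := mem_img.1 this
    have hww : w' = w := mulVec_inj g he
    subst hww
    exact hw0 ((comp_self S.idx hw).symm.trans (comp_other S.idx hw' hne))
  exact hgm ⟨Equiv.ofBijective σ (Finite.injective_iff_bijective.1 hinj), fun l x hx => hσ l x hx⟩

/-- two isotropic components in different blocks -/
theorem exists_iso_pair (hk : 2 ≤ k) (hkq : ¬ (k = 2 ∧ q = 2)) {g : GLn} (hg : g ∈ S.K)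
    (hgm : ¬ BlockMon S.idx g) :
    ∃ i j, i ≠ j ∧ ∃ a ∈ block S.idx i, ∃ b ∈ block S.idx j, a ≠ 0 ∧ b ≠ 0 ∧ H a a = 0 ∧ H b b = 0 ∧
      a + b ∈ Unitary.centres q S.K := by
  classical
  have hF := S.hF
  obtain ⟨v, hv, i, j, hij, hi, hj⟩ := S.exists_mixed hk hg hgm
  obtain ⟨c, hc0, hc⟩ := exists_traceZero hF
  -- it suffices to find a centre differing from `v` by two isotropic components with non-zero product
  have finish : ∀ a ∈ block S.idx i, ∀ b ∈ block S.idx j, a ≠ 0 → b ≠ 0 → H a a = 0 → H b b = 0 →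
      v + (a + b) ∈ Unitary.centres q S.K → H (a + b) v + H (a + b) v ^ q = 0 → H (a + b) v ≠ 0 →
      ∃ i j, i ≠ j ∧ ∃ a ∈ block S.idx i, ∃ b ∈ block S.idx j, a ≠ 0 ∧ b ≠ 0 ∧ H a a = 0 ∧ H b b = 0 ∧
        a + b ∈ Unitary.centres q S.K := by
    intro a ha b hb ha0 hb0 haa hbb hcen hG hG0
    set G := H (a + b) v with hGdef
    have hl : -G⁻¹ + (-G⁻¹) ^ q = 0 := by
      rw [← HermStd.qHom_apply hF, map_neg, map_inv₀, HermStd.qHom_apply, show G ^ q = -G by linear_combination hG,
        inv_neg, neg_neg, neg_add_cancel]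
    obtain ⟨T, hT, hTx⟩ := Unitary.exists_tv hF hv.1 hl
    have hmap := S.map (hv.2 T _ hl hTx) hcen
    rw [act, hTx, H_add_left, hv.1, zero_add, ← hGdef, neg_mul, inv_mul_cancel₀ hG0, neg_one_smul,
      add_neg_cancel_comm] at hmap
    exact ⟨i, j, hij, a, ha, b, hb, ha0, hb0, haa, hbb, hmap⟩
  have hw : ∀ l, comp S.idx l v ≠ 0 → ∃ w ∈ block S.idx l, H w w = 0 ∧ H v w ≠ 0 := fun l hl => by
    by_contra h
    push Not at h
    have hle : block S.idx l ≤ LinearMap.ker (hlin q v) :=
      Unitary.iso_span hF (block_nondeg S.idx hF l) (by rw [finrank_block]; exact hk) fun u hu huu =>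
        (H_eq_zero_comm hF).1 (h u hu huu)
    obtain ⟨x, hx, hvx⟩ := block_nondeg S.idx hF l _ (comp_mem S.idx l v) hl
    rw [← H_comp_right S.idx hF hx] at hvx
    exact hvx ((H_eq_zero_comm hF).1 (hle hx))
  obtain ⟨w₁, hw₁, hw₁₁, hh₁⟩ := hw i hi
  obtain ⟨w₂, hw₂, hw₂₂, hh₂⟩ := hw j hj
  by_cases hq : q = 2
  · -- the field of four elements, blocks of dimension at least three
    have hk3 : 3 ≤ k := by omega
    set h₁ := H v w₁ with hh₁def
    set a := (c * h₁) • w₁ with ha
    have hab : a ∈ block S.idx i := (block S.idx i).smul_mem _ hw₁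
    have haa : H a a = 0 := by rw [ha, H_smul_left, H_smul_right, hw₁₁, mul_zero, mul_zero]
    have ha0 : a ≠ 0 := smul_ne_zero (mul_ne_zero hc0 hh₁) fun h => hh₁ (by rw [hh₁def, h, H_zero_right hF])
    obtain ⟨T, hT, hTx⟩ := Unitary.exists_tv hF hw₁₁ hc
    have hv₁ := S.map ((S.pure hw₁ hw₁₁).2 T c hc hTx) hv
    rw [act, hTx, ← smul_smul, ← hh₁def, smul_smul, ← ha] at hv₁
    set y := comp S.idx j v with hy
    obtain ⟨z, hz, hzz, hzy, hyz, hz0⟩ : ∃ z ∈ block S.idx j, H z z = 0 ∧ H z y = 0 ∧ y + z ≠ 0 ∧ z ≠ 0 := by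
      by_cases hyy : H y y = 0
      · obtain ⟨ζ, hζ, hζ1⟩ := exists_gen hF
        have hne : 1 + ζ ≠ 0 := fun h => hζ1 1 one_pos (by omega) (by
          rw [pow_one, eq_neg_of_add_eq_zero_right h]
          linear_combination -(two_eq_zero_of_two hF hq : (2 : F) = 0))
        refine ⟨ζ • y, (block S.idx j).smul_mem _ (comp_mem S.idx j v), ?_, ?_, ?_, smul_ne_zero (n1_ne_zero hζ) hj⟩
        · rw [H_smul_left, H_smul_right, hyy, mul_zero, mul_zero]
        · rw [H_smul_left, hyy, mul_zero]
        · rw [show y + ζ • y = (1 + ζ) • y by rw [add_smul, one_smul]]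
          exact smul_ne_zero hne hj
      · obtain ⟨hS, hd⟩ := split_one hF (block_nondeg S.idx hF j) (comp_mem S.idx j v) hyy
        obtain ⟨z, hz, hz0, hzz⟩ := Unitary.exists_iso hF hS (by rw [finrank_block] at hd; omega)
        refine ⟨z, hz.1, hzz, hz.2, fun h => hyy ?_, hz0⟩
        rw [eq_neg_of_add_eq_zero_left h, H_neg_left, H_neg_right hF, hzz]
        simp
    have hyb : y ∈ block S.idx j := comp_mem S.idx j v
    have hcomp : comp S.idx j (v + a) = y := by
      rw [map_add, comp_other S.idx hab (Ne.symm hij), add_zero]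
    have hv₂ := S.move hk hv₁ (Or.inl hk3) ((block S.idx j).add_mem hyb hz) (by rw [hcomp]; exact hj) hyz (by
      rw [hcomp]
      simp only [H_add_left, H_add_right hF, hzz, hzy, (H_eq_zero_comm hF).1 hzy, add_zero])
    rw [hcomp, show v + a - y + (y + z) = v + (a + z) by abel] at hv₂
    have hG : H (a + z) v = c * (h₁ * h₁ ^ q) := by
      rw [H_add_left, H_comp_left S.idx hF hz v, ← hy, hzy, add_zero, ha, H_smul_left, hh₁def, H_conj hF]
      ring
    refine finish a hab z hz ha0 hz0 haa hzz hv₂ ?_ ?_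
    · rw [hG, mul_pow, mul_pow, pow_qq hF]
      linear_combination (h₁ * h₁ ^ q) * hc
    · rw [hG]
      exact mul_ne_zero hc0 (mul_ne_zero hh₁ (pow_ne_zero _ hh₁))
  · -- two transvections
    set h₁ := H v w₁ with hh₁def
    set h₂ := H v w₂ with hh₂def
    obtain ⟨r, hr, hr0, hG0⟩ : ∃ r : F, r ^ q = r ∧ r ≠ 0 ∧ nrm q h₁ + r * nrm q h₂ ≠ 0 := by
      by_cases h : nrm q h₁ + nrm q h₂ = 0
      swap
      · exact ⟨1, one_pow q, one_ne_zero, by rwa [one_mul]⟩
      obtain ⟨B, hB, hB1⟩ := exists_pow_ne_one hF hq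
      refine ⟨nrm q B, nrm_conj hF B, fun e => hB (nrm_eq_zero.1 e), fun e => ?_⟩
      refine hB1 ?_
      rw [← nrm_eq]
      have h0 : (nrm q B - 1) * nrm q h₂ = 0 := by linear_combination e - h
      exact sub_eq_zero.1 ((mul_eq_zero.1 h0).resolve_right fun e' => hh₂ (nrm_eq_zero.1 e'))
    have hrc : r * c + (r * c) ^ q = 0 := by rw [mul_pow, hr]; linear_combination r * hc
    obtain ⟨T₁, hT₁, hT₁x⟩ := Unitary.exists_tv hF hw₁₁ hc
    obtain ⟨T₂, hT₂, hT₂x⟩ := Unitary.exists_tv hF hw₂₂ hrc
    have hv₂ := S.map ((S.pure hw₂ hw₂₂).2 T₂ _ hrc hT₂x) (S.map ((S.pure hw₁ hw₁₁).2 T₁ c hc hT₁x) hv)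
    rw [act, act, hT₁x, hT₂x, H_add_left, H_smul_left, H_block S.idx hF hij hw₁ hw₂, mul_zero, add_zero,
      ← hh₁def, ← hh₂def, add_assoc] at hv₂
    have hne : ∀ {w : Vec}, H v w ≠ 0 → w ≠ 0 := fun h e => h (by rw [e, H_zero_right hF])
    have hG : H ((c * h₁) • w₁ + (r * c * h₂) • w₂) v = c * (nrm q h₁ + r * nrm q h₂) := by
      rw [H_add_left, H_smul_left, H_smul_left, hh₁def, hh₂def, nrm, nrm, H_conj hF, H_conj hF]
      ring
    refine finish _ ((block S.idx i).smul_mem _ hw₁) _ ((block S.idx j).smul_mem _ hw₂)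
      (smul_ne_zero (mul_ne_zero hc0 hh₁) (hne hh₁))
      (smul_ne_zero (mul_ne_zero (mul_ne_zero hr0 hc0) hh₂) (hne hh₂))
      (by rw [H_smul_left, H_smul_right, hw₁₁, mul_zero, mul_zero])
      (by rw [H_smul_left, H_smul_right, hw₂₂, mul_zero, mul_zero]) hv₂ ?_ ?_
    · rw [hG, mul_pow, ← HermStd.qHom_apply hF (nrm q h₁ + r * nrm q h₂)]
      simp only [map_add, map_mul, HermStd.qHom_apply, nrm_conj hF, hr]
      linear_combination (nrm q h₁ + r * nrm q h₂) * hc
    · rw [hG]; exact mul_ne_zero hc0 hG0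

/-- a block permutation -/
theorem exists_perm (hk : 0 < k) (i j i' j' : Fin t) (hij : i ≠ j) (hij' : i' ≠ j') :
    ∃ g ∈ S.K, (∀ v ∈ block S.idx i, act g v ∈ block S.idx i') ∧
      ∀ v ∈ block S.idx j, act g v ∈ block S.idx j' := by
  classical
  set σ : Equiv.Perm (Fin t) := Equiv.swap (Equiv.swap i i' j) j' * Equiv.swap i i' with hσ
  have hi : σ i = i' := by
    rw [hσ, Equiv.Perm.mul_apply, Equiv.swap_apply_left]
    refine Equiv.swap_apply_of_ne_of_ne (fun e => hij ?_) hij'
    exact (Equiv.swap i i').injective ((Equiv.swap_apply_left i i').trans e)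
  have hj : σ j = j' := by rw [hσ, Equiv.Perm.mul_apply, Equiv.swap_apply_left]
  set p : Equiv.Perm (Fin n) := S.idx.trans ((σ.prodCongr (Equiv.refl (Fin k))).trans S.idx.symm) with hp
  set x₀ := S.idx.symm (i, ⟨0, hk⟩) with hx₀
  set s : F := ((Equiv.Perm.sign p : ℤ) : F) with hs
  have hs2 : s * s = 1 := by
    rcases Int.units_eq_one_or (Equiv.Perm.sign p) with h | h <;> simp [hs, h]
  have hs1 : s ^ (q + 1) = 1 := by
    rcases Int.units_eq_one_or (Equiv.Perm.sign p) with h | h
    · simp [hs, h]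
    · simpa [hs, h] using n1_neg_one S.hF
  set a : Fin n → F := Function.update (fun _ => 1) x₀ s with ha
  obtain ⟨g, hg, hgm, hd⟩ := exists_mono S.hF p a fun x => by
    by_cases hx : x = x₀
    · subst hx; rw [ha, Function.update_self]; exact hs1
    · rw [ha, Function.update_of_ne hx, one_pow]
  have hblk : ∀ l, ∀ v ∈ block S.idx l, act g v ∈ block S.idx (σ l) := fun l v hv x hx => by
    rw [hgm.apply, hv _ (fun e => hx ?_), mul_zero]
    have hpz : ∀ z, S.idx (p z) = (σ (S.idx z).1, (S.idx z).2) := fun z => by simp [hp, Prod.map]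
    have h2 := hpz (p.symm x)
    rw [Equiv.apply_symm_apply] at h2
    rw [h2, e]
  refine ⟨g, S.mem g (Setup.mem_SU hg ?_) ⟨σ, hblk⟩, fun v hv => hi ▸ hblk i v hv, fun v hv => hj ▸ hblk j v hv⟩
  rw [hd, ha, Finset.prod_update_of_mem (Finset.mem_univ _)]
  simp [← hs, hs2]

/-- all isotropic vectors with two components are centres -/
theorem pair_all (hn : 5 ≤ n) (hk : 2 ≤ k) (hkq : ¬ (k = 2 ∧ q = 2)) {g : GLn} (hg : g ∈ S.K)
    (hgm : ¬ BlockMon S.idx g) {i j : Fin t} (hij : i ≠ j) {a b : Vec} (ha : a ∈ block S.idx i)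
    (hb : b ∈ block S.idx j) (hab : H (a + b) (a + b) = 0) : a + b ∈ Unitary.centres q S.K := by
  classical
  have hF := S.hF
  have free : ∀ {i j : Fin t}, i ≠ j → ∀ {a b : Vec}, a ∈ block S.idx i → b ∈ block S.idx j →
      3 ≤ k ∨ ∃ l, comp S.idx l (a + b) = 0 := by
    intro i j hij a b ha hb
    by_cases hk3 : 3 ≤ k
    · exact Or.inl hk3
    refine Or.inr ?_
    have hnt : n = t * k := by simpa using Fintype.card_congr S.idx
    obtain ⟨l, hl⟩ := Finset.card_pos.1 (show 0 < (Finset.univ \ {i, j}).card by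
      rw [Finset.card_sdiff_of_subset (Finset.subset_univ _), Finset.card_univ, Fintype.card_fin,
        Finset.card_pair hij]
      have : t * k ≤ t * 2 := Nat.mul_le_mul_left _ (by omega)
      omega)
    simp only [Finset.mem_sdiff, Finset.mem_univ, true_and, Finset.mem_insert, Finset.mem_singleton, not_or] at hl
    exact ⟨l, by rw [map_add, comp_other S.idx ha hl.1, comp_other S.idx hb hl.2, add_zero]⟩
  have hval : ∀ {i j : Fin t}, i ≠ j → ∀ {a b : Vec}, a ∈ block S.idx i → b ∈ block S.idx j →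
      H (a + b) (a + b) = H a a + H b b := fun hij _ _ ha hb => by
    simp only [H_add_left, H_add_right hF, H_block S.idx hF hij ha hb, H_block S.idx hF hij.symm hb ha, add_zero,
      zero_add]
  -- changing both components
  have move2 : ∀ {i j : Fin t}, i ≠ j → ∀ {a b a' b' : Vec}, a ∈ block S.idx i → b ∈ block S.idx j →
      a' ∈ block S.idx i → b' ∈ block S.idx j → a ≠ 0 → b ≠ 0 → a' ≠ 0 → b' ≠ 0 → H a' a' = H a a →
      H b' b' = H b b → a + b ∈ Unitary.centres q S.K → a' + b' ∈ Unitary.centres q S.K := by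
    intro i j hij a b a' b' ha hb ha' hb' ha0 hb0 ha0' hb0' hna hnb hc
    have c1 : comp S.idx i (a + b) = a := by rw [map_add, comp_self S.idx ha, comp_other S.idx hb hij, add_zero]
    have h1 := S.move hk hc (free hij ha hb) ha' (by rwa [c1]) ha0' (by rwa [c1])
    rw [c1, show a + b - a + a' = a' + b by abel] at h1
    have c2 : comp S.idx j (a' + b) = b := by
      rw [map_add, comp_self S.idx hb, comp_other S.idx ha' hij.symm, zero_add]
    have h2 := S.move hk h1 (free hij ha' hb) hb' (by rwa [c2]) hb0' (by rwa [c2])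
    rwa [c2, show a' + b - b + b' = a' + b' by abel] at h2
  obtain ⟨i₀, j₀, hij₀, a₀, ha₀, b₀, hb₀, ha₀0, hb₀0, haa₀, hbb₀, hc₀⟩ := S.exists_iso_pair hk hkq hg hgm
  obtain ⟨π, hπ, hπi, hπj⟩ := S.exists_perm (by omega) i₀ j₀ i j hij₀ hij
  have hc₁ := S.map hπ hc₀
  rw [act, mulVec_add, ← act, ← act] at hc₁
  -- all pairs of isotropic components
  have isopair : ∀ a ∈ block S.idx i, ∀ b ∈ block S.idx j, H a a = 0 → H b b = 0 →
      a + b ∈ Unitary.centres q S.K := by
    intro a ha b hb haa hbb
    by_cases ha0 : a = 0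
    · rw [ha0, zero_add]; exact S.pure hb hbb
    by_cases hb0 : b = 0
    · rw [hb0, add_zero]; exact S.pure ha haa
    exact move2 hij (hπi _ ha₀) (hπj _ hb₀) ha hb (mulVec_ne_zero π ha₀0) (mulVec_ne_zero π hb₀0) ha0 hb0
      (by rw [GU_act (S.gu hπ), haa, haa₀]) (by rw [GU_act (S.gu hπ), hbb, hbb₀]) hc₁
  by_cases hν : H a a = 0
  · exact isopair a ha b hb hν (by rwa [hval hij ha hb, hν, zero_add] at hab)
  obtain ⟨e, he, he0, hee⟩ := Unitary.exists_iso hF (block_nondeg S.idx hF i) (by rw [finrank_block]; exact hk)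
  obtain ⟨f, hf, hff, hef⟩ := Unitary.exists_iso_partner hF (block_nondeg S.idx hF i) he he0 hee
  obtain ⟨e', he', he'0, hee'⟩ := Unitary.exists_iso hF (block_nondeg S.idx hF j) (by rw [finrank_block]; exact hk)
  obtain ⟨f', hf', hff', hef'⟩ := Unitary.exists_iso_partner hF (block_nondeg S.idx hF j) he' he'0 hee'
  obtain ⟨c, hc0, hc⟩ := exists_traceZero hF
  set ν := H a a with hνdef
  obtain ⟨β, hβ⟩ := exists_trace_eq hF (c := ν / (c * c)) (by
    rw [← HermStd.qHom_apply hF, map_div₀, map_mul, HermStd.qHom_apply, HermStd.qHom_apply, hνdef,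
      Unitary.H_self_pow hF, show c ^ q = -c by linear_combination hc, neg_mul_neg])
  set h₂ := c * β with hh₂
  have hfe : H f e = 1 := by rw [← H_conj hF, hef, one_pow]
  have hfe' : H f' e' = 1 := by rw [← H_conj hF, hef', one_pow]
  have hd := isopair e he e' he' hee hee'
  have hv := isopair f hf (h₂ • f') ((block S.idx j).smul_mem _ hf') hff
    (by rw [H_smul_left, H_smul_right, hff', mul_zero, mul_zero])
  obtain ⟨T, hT, hTx⟩ := Unitary.exists_tv hF hd.1 hc
  have h := S.map (hd.2 T c hc hTx) hv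
  have hH : H (f + h₂ • f') (e + e') = 1 + h₂ := by
    simp only [H_add_left, H_add_right hF, H_smul_left, hfe, hfe', H_block S.idx hF hij hf he',
      H_block S.idx hF hij.symm hf' he]
    ring
  rw [act, hTx, hH, smul_add, add_add_add_comm] at h
  set a₁ := f + (c * (1 + h₂)) • e with ha₁
  set b₁ := h₂ • f' + (c * (1 + h₂)) • e' with hb₁
  have hcq : c ^ q = -c := by linear_combination hc
  have hn₁ : H a₁ a₁ = ν := by
    have hβ' : β + β ^ q = ν / (c * c) := hβ
    rw [eq_div_iff (mul_ne_zero hc0 hc0)] at hβ'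
    have hq' : (c * (1 + h₂)) ^ q = -c * (1 - c * β ^ q) := by
      rw [← HermStd.qHom_apply hF, map_mul, map_add, map_one, hh₂, map_mul]
      simp only [HermStd.qHom_apply, hcq]
      ring
    rw [ha₁]
    simp only [H_add_left, H_add_right hF, H_smul_left, H_smul_right, hff, hfe, hef, hee, hq']
    rw [hh₂]
    linear_combination hβ'
  have ha₁b : a₁ ∈ block S.idx i := (block S.idx i).add_mem hf ((block S.idx i).smul_mem _ he)
  have hb₁b : b₁ ∈ block S.idx j :=
    (block S.idx j).add_mem ((block S.idx j).smul_mem _ hf') ((block S.idx j).smul_mem _ he')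
  have hn₂ : H b₁ b₁ = H b b := by
    have := h.1
    rw [hval hij ha₁b hb₁b, hn₁] at this
    rw [hval hij ha hb, ← hνdef] at hab
    linear_combination this - hab
  have ne0 : ∀ {v : Vec}, H v v ≠ 0 → v ≠ 0 := fun h h0 => h (by rw [h0, H_zero_left])
  have hbb : H b b ≠ 0 := fun h0 => hν (by rwa [hval hij ha hb, h0, add_zero, ← hνdef] at hab)
  exact move2 hij ha₁b hb₁b ha hb (ne0 (hn₁ ▸ hν)) (ne0 (hn₂ ▸ hbb)) (ne0 hν) (ne0 hbb) hn₁.symm hn₂.symm h

/-- every isotropic vector is a centre -/
theorem centre_all (hn : 5 ≤ n) (hk : 2 ≤ k) (hkq : ¬ (k = 2 ∧ q = 2)) {g : GLn} (hg : g ∈ S.K)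
    (hgm : ¬ BlockMon S.idx g) {v : Vec} (hv : H v v = 0) : v ∈ Unitary.centres q S.K := by
  classical
  have hF := S.hF
  induction hw : (Finset.univ.filter fun l => comp S.idx l v ≠ 0).card using Nat.strong_induction_on
    generalizing v with
  | _ w ih =>
    set A := Finset.univ.filter fun l => comp S.idx l v ≠ 0 with hA
    have hmem : ∀ l, l ∈ A ↔ comp S.idx l v ≠ 0 := fun l => by simp [hA]
    have hnt : n = t * k := by simpa using Fintype.card_congr S.idx
    have ht : 0 < t := Nat.pos_of_mul_pos_right (hnt ▸ (by omega : 0 < n))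
    by_cases hA2 : A.card ≤ 1
    · obtain ⟨l, hl⟩ : ∃ l, A ⊆ {l} := by
        rcases A.eq_empty_or_nonempty with h | ⟨l, hl⟩
        · exact ⟨⟨0, ht⟩, by simp [h]⟩
        · exact ⟨l, fun y hy => Finset.mem_singleton.2 (Finset.card_le_one.1 hA2 y hy l hl)⟩
      refine S.pure (mem_block_of_comp S.idx (i := l) fun m hm => ?_) hv
      by_contra h
      exact hm (Finset.mem_singleton.1 (hl ((hmem m).2 h)))
    by_cases hA3 : A.card = 2
    · obtain ⟨i, j, hij, hs⟩ := Finset.card_eq_two.1 hA3
      have e := eq_of_two S.idx hij (v := v) fun l h1 h2 => by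
        by_contra h
        have := (hmem l).2 h
        simp [hs, h1, h2] at this
      rw [e] at hv ⊢
      exact S.pair_all hn hk hkq hg hgm hij (comp_mem S.idx i v) (comp_mem S.idx j v) hv
    obtain ⟨τ, hτ0, hτ⟩ := exists_traceZero hF
    have hl : -τ⁻¹ + (-τ⁻¹) ^ q = 0 := by
      rw [← HermStd.qHom_apply hF, map_neg, map_inv₀, HermStd.qHom_apply, show τ ^ q = -τ by linear_combination hτ,
        inv_neg, neg_neg, neg_add_cancel]
    have hτq : τ ^ q = -τ := by linear_combination hτ
    -- the two components to use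
    obtain ⟨i, j, hij, hi, hj, a, ha, hHa, hNa⟩ : ∃ i j, i ≠ j ∧ comp S.idx i v ≠ 0 ∧ comp S.idx j v ≠ 0 ∧
        ∃ a ∈ block S.idx i, H (comp S.idx i v) a = τ - H (comp S.idx j v) (comp S.idx j v) ∧
          H a a = - H (comp S.idx j v) (comp S.idx j v) := by
      by_cases hex : ∃ i, H (comp S.idx i v) (comp S.idx i v) ≠ 0
      · obtain ⟨i, hi⟩ := hex
        have hi0 : comp S.idx i v ≠ 0 := fun h => hi (by rw [h, H_zero_left])
        obtain ⟨j, hj, hji⟩ := Finset.exists_mem_ne (by omega : 1 < A.card) i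
        set x := comp S.idx i v with hx
        set N := H (comp S.idx j v) (comp S.idx j v) with hN
        set d := ((τ - N) / H x x) ^ q with hd
        set r := -N - d * (d ^ q * H x x) with hr
        have hrq : r ^ q = r := by
          rw [hr, ← HermStd.qHom_apply hF, map_sub, map_neg, map_mul, map_mul]
          simp only [HermStd.qHom_apply, pow_qq hF, hN, Unitary.H_self_pow hF]
          ring
        obtain ⟨hS, hdim⟩ := split_one hF (block_nondeg S.idx hF i) (comp_mem S.idx i v) hi
        obtain ⟨z, hz, hzz⟩ : ∃ z ∈ block S.idx i ⊓ LinearMap.ker (hlin q x), H z z = r := by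
          by_cases hr0 : r = 0
          · exact ⟨0, zero_mem _, by rw [H_zero_left, hr0]⟩
          · exact Unitary.exists_value hF (fun h => by
              rw [h, finrank_bot, finrank_block] at hdim; omega) hS hrq hr0
        have hzx : H z x = 0 := hz.2
        refine ⟨i, j, Ne.symm hji, hi0, (hmem j).1 hj, d • x + z,
          (block S.idx i).add_mem ((block S.idx i).smul_mem _ (comp_mem S.idx i v)) hz.1, ?_, ?_⟩
        · rw [H_add_right hF, H_smul_right, (H_eq_zero_comm hF).1 hzx, add_zero, hd, pow_qq hF,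
            div_mul_cancel₀ _ hi]
        · simp only [H_add_left, H_add_right hF, H_smul_left, H_smul_right, hzx, (H_eq_zero_comm hF).1 hzx, hzz, hr]
          ring
      · push Not at hex
        obtain ⟨i, hi, j, hj, hij⟩ := Finset.one_lt_card.1 (by omega : 1 < A.card)
        obtain ⟨f, hf, hff, hxf⟩ := Unitary.exists_iso_partner hF (block_nondeg S.idx hF i) (comp_mem S.idx i v)
          ((hmem i).1 hi) (hex i)
        refine ⟨i, j, hij, (hmem i).1 hi, (hmem j).1 hj, τ ^ q • f, (block S.idx i).smul_mem _ hf, ?_, ?_⟩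
        · rw [H_smul_right, hxf, pow_qq hF, hex j, sub_zero, mul_one]
        · rw [H_smul_left, H_smul_right, hff, hex j, mul_zero, mul_zero, neg_zero]
    set y := comp S.idx j v with hy
    have hyb : y ∈ block S.idx j := comp_mem S.idx j v
    have hd : a + y ∈ Unitary.centres q S.K := S.pair_all hn hk hkq hg hgm hij ha hyb (by
      simp only [H_add_left, H_add_right hF, H_block S.idx hF hij ha hyb, H_block S.idx hF hij.symm hyb ha, hNa]
      ring)
    obtain ⟨T, hT, hTx⟩ := Unitary.exists_tv hF hd.1 hl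
    have hTK := hd.2 T _ hl hTx
    have hvd : H v (a + y) = τ := by
      rw [H_add_right hF, H_comp_right S.idx hF ha, H_comp_right S.idx hF hyb, hHa, ← hy]
      ring
    have hTv : act T v = v - a - y := by
      rw [act, hTx, hvd, neg_mul, inv_mul_cancel₀ hτ0, neg_one_smul]
      abel
    have hiso : H (v - a - y) (v - a - y) = 0 := by rw [← hTv, GU_act hT.1]; exact hv
    have hlt : (Finset.univ.filter fun l => comp S.idx l (v - a - y) ≠ 0).card < w := by
      refine lt_of_lt_of_le (Finset.card_lt_card (t := A) ((Finset.ssubset_iff_of_subset fun l hl => ?_).2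
        ⟨j, (hmem j).2 hj, ?_⟩)) hw.le
      · simp only [Finset.mem_filter, Finset.mem_univ, true_and] at hl
        rw [hmem]
        intro h0
        refine hl ?_
        have hlj : l ≠ j := fun e => hj (by rw [hy, ← e, h0])
        have hli : l ≠ i := fun e => hi (by rw [← e, h0])
        rw [map_sub, map_sub, h0, comp_other S.idx ha hli, comp_other S.idx hyb hlj]
        simp
      · simp only [Finset.mem_filter, Finset.mem_univ, true_and, not_not]
        rw [map_sub, map_sub, ← hy, comp_other S.idx ha hij.symm, comp_self S.idx hyb, sub_zero, sub_self]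
    have := S.map (inv_mem hTK) (ih _ hlt hiso rfl)
    rwa [← hTv, act_inv_act] at this

/-- nothing lies between the block stabiliser and the special unitary group -/
theorem top (hn : 5 ≤ n) (hk : 2 ≤ k) (hkq : ¬ (k = 2 ∧ q = 2)) {g : GLn} (hg : g ∈ S.K)
    (hgm : ¬ BlockMon S.idx g) : SUn ≤ S.K :=
  Unitary.SUn_le_of_centres S.hF (by omega) fun _ hv => S.centre_all hn hk hkq hg hgm hv

end BlockSetup

end Cfsg.Agent.Forms.Max.HermFrame
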