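import Mathlib
import Cfsg.Agent.Lib.Forms.Max.HermFrame.Block
import Cfsg.Agent.Lib.Perm.AbelianEven.Bound

/-!
# Diagonal involutions conjugate to monomial ones

When no non-monomial member fixes a frame vector, a member carrying a diagonal involution to a monomial one is
monomial: otherwise the diagonal elements invariant under the permutation would give a large abelian permutation
group.
-/

set_option autoImplicit false
set_option linter.unusedSectionVars false

namespace Cfsg.Agent.Forms.Max.HermFrame

open Matrix Cfsg.Agent.Classical.Unitary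

theorem cube_le (m : ℕ) : m ^ 3 ≤ 3 ^ m := by
  induction m with
  | zero => simp
  | succ m ih =>
    rcases Nat.lt_or_ge m 3 with h | h
    · interval_cases m <;> norm_num
    · calc (m + 1) ^ 3 ≤ 3 * m ^ 3 := by
            nlinarith [Nat.mul_le_mul h h, Nat.mul_le_mul h (Nat.mul_le_mul h h)]
        _ ≤ 3 * 3 ^ m := Nat.mul_le_mul_left 3 ih
        _ = 3 ^ (m + 1) := by rw [pow_succ']

/-- an abelian permutation group on `m` points has order at most `3 ^ (m / 3)` -/
theorem card_abelian_cube {α : Type*} [Fintype α] [DecidableEq α] (A : Subgroup (Equiv.Perm α))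
    [IsMulCommutative A] : Nat.card A ^ 3 ≤ 3 ^ Fintype.card α := by
  classical
  refine (Nat.pow_le_pow_left (Perm.AbelianEven.card_le_prod A) 3).trans ?_
  rw [← Perm.AbelianEven.sum_card_fib A, ← Finset.prod_pow, ← Finset.prod_pow_eq_pow_sum]
  exact Finset.prod_le_prod' fun o _ => cube_le _

variable {F : Type*} [Field F] [Fintype F] {n q : ℕ}

local notation "Vec" => (Fin n → F)
local notation "GLn" => GL (Fin n) F

theorem det_mono (hF : Fintype.card F = q ^ 2) {g : GLn} (hg : g ∈ Cfsg.GU n F q) {p : Equiv.Perm (Fin n)}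
    {a : Vec} (h : IsMono g p a) :
    (g : Matrix (Fin n) (Fin n) F).det = ((Equiv.Perm.sign p : ℤ) : F) * ∏ i, a i := by
  obtain ⟨g', -, hm, hd⟩ := exists_mono hF p a (h.n1 hF hg)
  rw [show g = g' from ext_bas fun i => (h i).trans (hm i).symm, hd]

namespace Setup

variable (S : Setup F n q)

/-- a member carrying a diagonal involution to a monomial one is monomial -/
theorem mon_of_conj (hS : ¬ S.Goal) (h3 : 3 ≤ q) (h2 : (2 : F) ≠ 0) (hn : n = 6 ∨ 7 ≤ n) {g : GLn} (hg : g ∈ S.K)
    {t m : GLn} (htK : t ∈ S.K) {a : Vec} (ht : IsMono t 1 a) (hsq : ∀ i, a i * a i = 1) {i₀ i₁ : Fin n}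
    (hne : a i₁ ≠ a i₀) (hm : Mon m) (he : g * t = m * g) : Mon g := by
  classical
  by_contra hgm
  have hn5 : 5 ≤ n := by omega
  have hmeq : m = g * t * g⁻¹ := by rw [he]; group
  have hmK : m ∈ S.K := hmeq ▸ mul_mem (mul_mem hg htK) (inv_mem hg)
  obtain ⟨p, c, hpc, -⟩ := hm.exists_isMono
  have ht2 : t * t = 1 := ext_bas fun i => by
    rw [act_mul, ht, act, mulVec_smul, ← act, Equiv.Perm.one_apply, ht, smul_smul, hsq, one_smul, act_one]
    rfl
  have hm2 : m * m = 1 := by rw [hmeq, show g * t * g⁻¹ * (g * t * g⁻¹) = g * (t * t) * g⁻¹ by group, ht2]; group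
  obtain ⟨hp1, hc1⟩ := (hpc.mul hpc).unique (hm2.symm ▸ IsMono.one)
  have hpp : ∀ i, p (p i) = i := fun i => by rw [← Equiv.Perm.mul_apply, hp1]; rfl
  -- diagonal members commuting with the monomial involution
  let X : Subgroup GLn :=
    { carrier := {d | d ∈ S.K ∧ ∃ b : Vec, IsMono d 1 b ∧ ∀ i, b (p i) = b i}
      one_mem' := ⟨one_mem _, fun _ => 1, IsMono.one, fun _ => rfl⟩
      mul_mem' := by
        rintro d d' ⟨hd, b, hb, hbp⟩ ⟨hd', b', hb', hbp'⟩
        exact ⟨mul_mem hd hd', fun i => b' i * b i, by simpa using hb.mul hb',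
          fun i => by simp only [hbp, hbp']⟩
      inv_mem' := by
        rintro d ⟨hd, b, hb, hbp⟩
        refine ⟨inv_mem hd, fun i => (b i)⁻¹, fun i => ?_, fun i => by simp only [hbp]⟩
        refine mulVec_inj d ?_
        show act d (act d⁻¹ (bas i)) = act d _
        rw [act_act_inv, act, mulVec_smul, ← act, Equiv.Perm.one_apply, hb, smul_smul,
          inv_mul_cancel₀ (n1_ne_zero (hb.n1 S.hF (S.gu hd) i)), one_smul]
        rfl }
  have hcomm : ∀ d ∈ X, d * m = m * d := by
    rintro d ⟨hd, b, hb, hbp⟩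
    refine ext_bas fun i => ?_
    rw [act_mul, act_mul, hpc, hb, act, mulVec_smul, ← act, hb, act, mulVec_smul, ← act]
    simp only [Equiv.Perm.one_apply]
    rw [hpc, smul_smul, smul_smul, hbp, mul_comm]
  have habel : ∀ d ∈ X, ∀ d' ∈ X, d * d' = d' * d := by
    rintro d ⟨-, b, hb, -⟩ d' ⟨-, b', hb', -⟩
    refine ext_bas fun i => ?_
    rw [(hb.mul hb') i, (hb'.mul hb) i]
    simp [mul_comm]
  have hmon : ∀ d ∈ X, Mon (g⁻¹ * d * g) := by
    intro d hd
    by_contra hbad
    refine hS (S.goal_of_diag hn5 h3 (mul_mem (mul_mem (inv_mem hg) hd.1) hg) hbad ht ht hne ?_)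
    calc g⁻¹ * d * g * t = g⁻¹ * d * (g * t) := by group
      _ = g⁻¹ * d * (m * g) := by rw [he]
      _ = g⁻¹ * (d * m) * g := by group
      _ = g⁻¹ * (m * d) * g := by rw [hcomm d hd]
      _ = g⁻¹ * m * g * (g⁻¹ * d * g) := by group
      _ = t * (g⁻¹ * d * g) := by rw [show g⁻¹ * m * g = t by rw [hmeq]; group]
  choose π β hπ hβ0 using fun d : X => (hmon d d.2).exists_isMono
  let φ : X →* Equiv.Perm (Fin n) := MonoidHom.mk' π fun d d' => by
    have h := (hπ d).mul (hπ d')
    rw [show g⁻¹ * (d : GLn) * g * (g⁻¹ * (d' : GLn) * g) = g⁻¹ * ((d * d' : X) : GLn) * g by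
      rw [Subgroup.coe_mul]; group] at h
    exact ((hπ (d * d')).unique h).1
  -- the kernel consists of scalars
  have hker : ∀ d ∈ φ.ker, ∀ i, act ((d : X) : GLn) (bas i) = β d i₀ • bas i := by
    intro d hd i
    have hd1 : π d = 1 := MonoidHom.mem_ker.1 hd
    obtain ⟨b, hb, -⟩ := d.2.2
    have hD : IsMono (g⁻¹ * (d : GLn) * g) 1 (β d) := hd1 ▸ hπ d
    by_cases hconst : ∀ j, β d j = β d i₀
    · have key : ∀ x, act (g⁻¹ * (d : GLn) * g) x = β d i₀ • x := fun x => funext fun j => by
        rw [hD.eq_diag]; simp [hconst j]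
      calc act ((d : X) : GLn) (bas i) = act g (act (g⁻¹ * (d : GLn) * g) (act g⁻¹ (bas i))) := by
            rw [← act_mul, ← act_mul]; congr 1; group
        _ = β d i₀ • bas i := by rw [key, act, mulVec_smul, ← act, act_act_inv]
    · push Not at hconst
      obtain ⟨j, hj⟩ := hconst
      exact absurd (S.goal_of_diag hn5 h3 hg hgm hD hb hj (by group)) hS
  have hkercard : Nat.card φ.ker ≤ q + 1 := by
    have hmem : ∀ d : φ.ker, β (d : X) i₀ ^ (q + 1) = 1 := fun d =>
      (hπ (d : X)).n1 S.hF (S.gu (mul_mem (mul_mem (inv_mem hg) (d : X).2.1) hg)) i₀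
    have e := Nat.card_le_card_of_injective (α := φ.ker) (β := {z : F // z ^ (q + 1) = 1})
      (fun d => ⟨β (d : X) i₀, hmem d⟩) (fun d d' hdd => by
        refine Subtype.ext (Subtype.ext (ext_bas fun i => ?_))
        rw [hker d d.2 i, hker d' d'.2 i, show β (d : X) i₀ = β (d' : X) i₀ from congrArg Subtype.val hdd])
    refine e.trans (le_of_eq ?_)
    rw [Nat.card_eq_fintype_card, Fintype.card_subtype, card_n1 S.hF]
  have : IsMulCommutative φ.range := ⟨⟨by
    rintro ⟨x, d, rfl⟩ ⟨y, d', rfl⟩
    refine Subtype.ext ?_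
    show φ d * φ d' = φ d' * φ d
    rw [← map_mul, ← map_mul, show d * d' = d' * d from Subtype.ext (habel d d.2 d' d'.2)]⟩⟩
  have hrange := card_abelian_cube φ.range
  rw [Fintype.card_fin] at hrange
  have hXcard : Nat.card X ≤ (q + 1) * Nat.card φ.range := by
    rw [Subgroup.card_eq_card_quotient_mul_card_subgroup φ.ker,
      Nat.card_congr (QuotientGroup.quotientKerEquivRange φ).toEquiv, mul_comm]
    exact Nat.mul_le_mul_right _ hkercard
  -- representatives of the orbits
  set T := Finset.univ.filter fun i : Fin n => i ≤ p i with hT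
  have hcov : ∀ i, i ∈ T ∨ p i ∈ T := fun i => by
    simp only [hT, Finset.mem_filter, Finset.mem_univ, true_and, hpp]
    exact le_total _ _
  have huniv : (Finset.univ : Finset (Fin n)) = T ∪ T.image p := by
    ext i
    simp only [Finset.mem_univ, Finset.mem_union, Finset.mem_image, true_iff]
    exact (hcov i).imp_right fun h => ⟨p i, h, hpp i⟩
  have hTn : n ≤ 2 * T.card := by
    have h := Finset.card_union_le T (T.image p)
    rw [← huniv, Finset.card_univ, Fintype.card_fin] at h
    have := Finset.card_image_le (f := p) (s := T)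
    omega
  have hT6 : n = 6 → 4 ≤ T.card := by
    intro h6
    by_cases hfix : ∃ l, p l = l
    · obtain ⟨l, hl⟩ := hfix
      have hlT : l ∈ T := by simp [hT, hl]
      have h := Finset.card_union_add_card_inter T (T.image p)
      rw [← huniv, Finset.card_univ, Fintype.card_fin] at h
      have h1 : 0 < (T ∩ T.image p).card :=
        Finset.card_pos.2 ⟨l, Finset.mem_inter.2 ⟨hlT, Finset.mem_image.2 ⟨l, hlT, hl⟩⟩⟩
      have := Finset.card_image_le (f := p) (s := T)
      omega
    · exfalso
      push Not at hfix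
      subst h6
      have hsign : Equiv.Perm.sign p = -1 := by
        have key : ∀ r : Equiv.Perm (Fin 6), (∀ i, r (r i) = i) → (∀ i, r i ≠ i) → Equiv.Perm.sign r = -1 := by
          decide +kernel
        exact key p hpp hfix
      have hd := det_mono S.hF (S.gu hmK) hpc
      rw [S.det_one hmK, hsign] at hd
      have hprod : ∏ i, c i = 1 := by
        refine Finset.prod_involution (fun i _ => p i) (fun i _ => ?_) (fun i _ _ => hfix i)
          (fun i _ => Finset.mem_univ _) fun i _ => hpp i
        exact congrFun hc1 i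
      rw [hprod] at hd
      push_cast at hd
      exact h2 (by linear_combination hd)
  obtain ⟨l, hlT, hl⟩ : ∃ l ∈ T, p l = l ∨ ∀ i, p i ≠ i := by
    by_cases hfix : ∃ l, p l = l
    · obtain ⟨l, hl⟩ := hfix
      exact ⟨l, by simp [hT, hl], Or.inl hl⟩
    · push Not at hfix
      obtain ⟨l, hl⟩ := Finset.card_pos.1 (show 0 < T.card by omega)
      exact ⟨l, hl, Or.inr hfix⟩
  -- free values on all representatives but one
  let μ := {z : F // z ^ (q + 1) = 1}
  have hinj : Nat.card (↥(T.erase l) → μ) ≤ Nat.card X ∧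
      ((∀ i, p i ≠ i) → 2 * Nat.card (↥(T.erase l) → μ) ≤ Nat.card X) := by
    let rep : Fin n → Fin n := fun i => if i ∈ T then i else p i
    have hrepT : ∀ i, rep i ∈ T := fun i => by
      by_cases h : i ∈ T
      · simp [rep, h]
      · simp [rep, h, (hcov i).resolve_left h]
    have hrep : ∀ i, rep (p i) = rep i := fun i => by
      simp only [rep, hT, Finset.mem_filter, Finset.mem_univ, true_and, hpp]
      rcases lt_trichotomy i (p i) with h | h | h
      · rw [if_pos h.le, if_neg h.not_ge]
      · rw [← h]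
      · rw [if_neg h.not_ge, if_pos h.le]
    let val : (↥(T.erase l) → μ) → F → Fin n → F := fun x z i =>
      if h : rep i ∈ T.erase l then (x ⟨rep i, h⟩ : F) else z
    have hvalp : ∀ x z i, val x z (p i) = val x z i := fun x z i => by simp only [val, hrep]
    have hval : ∀ x z, z ^ (q + 1) = 1 → ∀ i, val x z i ^ (q + 1) = 1 := fun x z hz i => by
      simp only [val]; split
      · exact (x _).2
      · exact hz
    have hex : ∀ x (ε : F), ε * ε = 1 → ∃ d ∈ X, ∃ z, IsMono d 1 (val x z) ∧
        ((∀ i, p i ≠ i) → z = ε * (∏ i : ↥(T.erase l), (x i : F))⁻¹) := by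
      intro x ε hε
      rcases hl with hl | hl
      · obtain ⟨d, hd, z, hz, hdm⟩ := S.exists_K_mono 1 (val x 1) (hval x 1 (one_pow _)) l
        have hrl : ∀ i, rep i = l → i = l := fun i hi => by
          simp only [rep] at hi; split at hi
          · exact hi
          · rw [← hpp i, hi, hl]
        have e : Function.update (val x 1) l z = val x z := funext fun i => by
          by_cases hi : i = l
          · subst hi
            have : rep i = i := by simp [rep, hlT]
            rw [Function.update_self]; simp [val, this]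
          · rw [Function.update_of_ne hi]
            simp only [val, Finset.mem_erase, hrepT, and_true]
            rw [dif_pos (fun h => hi (hrl i h)), dif_pos (fun h => hi (hrl i h))]
        rw [e] at hdm
        exact ⟨d, ⟨hd, _, hdm, hvalp x z⟩, z, hdm, fun h => absurd hl (h l)⟩
      · set P := ∏ i : ↥(T.erase l), (x i : F) with hP
        have hP1 : P ^ (q + 1) = 1 := by
          rw [hP, ← Finset.prod_pow]; exact Finset.prod_eq_one fun i _ => (x i).2
        have hε1 : ε ^ (q + 1) = 1 := by
          rcases mul_self_eq_one_iff.1 hε with e | e <;> rw [e]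
          · exact one_pow _
          · exact n1_neg_one S.hF
        obtain ⟨d, hd, hdm, hdd⟩ := exists_mono S.hF 1 (val x (ε * P⁻¹))
          (hval x _ (by rw [mul_pow, hε1, n1_inv hP1, one_mul]))
        have hdisj : Disjoint T (T.image p) := Finset.disjoint_left.2 fun i hi hi' => by
          obtain ⟨k, hk, rfl⟩ := Finset.mem_image.1 hi'
          simp only [hT, Finset.mem_filter, Finset.mem_univ, true_and, hpp] at hi hk
          exact hl k (le_antisymm hi hk)
        have hone : ∏ i ∈ T, val x (ε * P⁻¹) i = ε := by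
          rw [← Finset.mul_prod_erase T _ hlT,
            show val x (ε * P⁻¹) l = ε * P⁻¹ by simp [val, rep, hlT],
            ← Finset.prod_coe_sort (T.erase l) (val x (ε * P⁻¹)),
            show ∏ i : ↥(T.erase l), val x (ε * P⁻¹) i = P from Finset.prod_congr rfl fun i _ => by
              have hi := i.2
              simp only [Finset.mem_erase] at hi
              simp [val, rep, hi.2, hi.1]]
          rw [mul_assoc, inv_mul_cancel₀ (n1_ne_zero hP1), mul_one]
        have hdet : (d : Matrix (Fin n) (Fin n) F).det = 1 := by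
          rw [hdd, huniv, Finset.prod_union hdisj, Finset.prod_image fun i _ j _ h => p.injective h,
            Finset.prod_congr rfl fun i _ => hvalp x (ε * P⁻¹) i, hone]
          simp [hε]
        exact ⟨d, ⟨S.mem_mono hd hdet hdm.mon, _, hdm, hvalp x (ε * P⁻¹)⟩, ε * P⁻¹, hdm, fun _ => rfl⟩
    choose dd hdd z hz hzε using hex
    have hkey : ∀ x y ε ε' (hε : ε * ε = 1) (hε' : ε' * ε' = 1), dd x ε hε = dd y ε' hε' →
        x = y ∧ z x ε hε = z y ε' hε' := by
      intro x y ε ε' hε hε' hxy
      have h := ((hz x ε hε).unique (show IsMono (dd x ε hε) 1 (val y (z y ε' hε')) by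
        rw [hxy]; exact hz y ε' hε')).2
      refine ⟨funext fun i => Subtype.ext ?_, by simpa [val, rep, hlT] using congrFun h l⟩
      have hi := i.2
      simp only [Finset.mem_erase] at hi
      simpa [val, rep, hi.1, hi.2] using congrFun h i
    refine ⟨Nat.card_le_card_of_injective (fun x => (⟨dd x 1 (one_mul 1), hdd x 1 (one_mul 1)⟩ : X)) fun x y hxy =>
      (hkey x y 1 1 _ _ (congrArg Subtype.val hxy)).1, fun hfree => ?_⟩
    have hsg : ∀ b : Bool, (cond b (-1 : F) 1) * (cond b (-1 : F) 1) = 1 := fun b => by cases b <;> simp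
    have e := Nat.card_le_card_of_injective
      (fun w : (↥(T.erase l) → μ) × Bool => (⟨dd w.1 _ (hsg w.2), hdd w.1 _ (hsg w.2)⟩ : X)) fun v w hvw => by
        obtain ⟨h1, h1'⟩ := hkey v.1 w.1 _ _ (hsg v.2) (hsg w.2) (congrArg Subtype.val hvw)
        rw [hzε _ _ _ hfree, hzε _ _ _ hfree, h1] at h1'
        have h3 := mul_right_cancel₀ (inv_ne_zero (Finset.prod_ne_zero_iff.2 fun i _ =>
          n1_ne_zero (w.1 i).2)) h1'
        refine Prod.ext h1 ?_
        have hne : (-1 : F) ≠ 1 := fun e => h2 (by linear_combination -e)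
        cases hv : v.2 <;> cases hw : w.2 <;> simp [hv, hw, hne, hne.symm] at h3 ⊢
    rwa [Nat.card_prod, show Nat.card Bool = 2 by simp, mul_comm] at e
  rw [Nat.card_fun, show Nat.card μ = q + 1 by rw [Nat.card_eq_fintype_card, Fintype.card_subtype, card_n1 S.hF],
    show Nat.card ↥(T.erase l) = T.card - 1 by
      rw [Nat.card_eq_fintype_card, Fintype.card_coe, Finset.card_erase_of_mem hlT]] at hinj
  -- the bound is violated
  obtain ⟨k, hk⟩ : ∃ k, T.card - 1 = k + 1 := ⟨T.card - 2, by omega⟩
  have h1 : (q + 1) ^ k ≤ Nat.card φ.range := by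
    refine Nat.le_of_mul_le_mul_left ?_ (Nat.succ_pos q)
    rw [← pow_succ', ← hk]
    exact hinj.1.trans hXcard
  have hfree : (∀ i, p i ≠ i) → 2 * (q + 1) ^ k ≤ Nat.card φ.range := fun hf => by
    refine Nat.le_of_mul_le_mul_left ?_ (Nat.succ_pos q)
    have := (hinj.2 hf).trans hXcard
    rw [hk, pow_succ] at this
    exact le_trans (le_of_eq (by rw [Nat.succ_eq_add_one]; ring)) this
  have h4 : 64 ^ k ≤ 3 ^ n := by
    refine le_trans ?_ ((Nat.pow_le_pow_left h1 3).trans hrange)
    rw [← pow_mul, mul_comm k 3, pow_mul]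
    exact Nat.pow_le_pow_left (Nat.pow_le_pow_left (show 4 ≤ q + 1 by omega) 3) k
  rcases hn with h6 | h7
  · have h2k : 2 ≤ k := by have := hT6 h6; omega
    have := (Nat.pow_le_pow_right (show 0 < 64 by omega) h2k).trans h4
    rw [h6] at this
    norm_num at this
  · rcases Nat.lt_or_ge k 3 with hlt | h3k
    · have h2k : k = 2 := by omega
      subst h2k
      have hn8 : n = 7 ∨ n = 8 := by omega
      rcases hn8 with rfl | rfl
      · norm_num at h4
      · have hfx : ∀ i, p i ≠ i := fun i hi => by
          have hiT : i ∈ T := by simp [hT, hi]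
          have h := Finset.card_union_add_card_inter T (T.image p)
          rw [← huniv, Finset.card_univ, Fintype.card_fin] at h
          have h5 : 0 < (T ∩ T.image p).card :=
            Finset.card_pos.2 ⟨i, Finset.mem_inter.2 ⟨hiT, Finset.mem_image.2 ⟨i, hiT, hi⟩⟩⟩
          have := Finset.card_image_le (f := p) (s := T)
          omega
        have h5 : 32 ≤ Nat.card φ.range := le_trans (by
          have : 4 ^ 2 ≤ (q + 1) ^ 2 := Nat.pow_le_pow_left (by omega) 2
          omega) (hfree hfx)
        have := (Nat.pow_le_pow_left h5 3).trans hrange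
        norm_num at this
    have h5 : 64 ^ k ≤ 81 * 9 ^ k := h4.trans (by
      rw [show (81 : ℕ) = 3 ^ 4 by norm_num, show (9 : ℕ) = 3 ^ 2 by norm_num, ← pow_mul, ← pow_add]
      exact Nat.pow_le_pow_right (by omega) (by omega))
    obtain ⟨j, rfl⟩ := Nat.exists_eq_add_of_le h3k
    have : 9 ^ j ≤ 64 ^ j := Nat.pow_le_pow_left (by omega) j
    have := Nat.one_le_pow j 9 (by omega)
    rw [pow_add, pow_add] at h5
    norm_num at h5
    omega

end Setup

end Cfsg.Agent.Forms.Max.HermFrame
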