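import Mathlib
import Cfsg.Agent.Lib.Forms.Max.HermFrame.Block

/-!
# Some non-monomial member fixes a frame vector, in characteristic two

The monomial transvections have as centres the isotropic vectors with two coordinates.  A centre with all
coordinates non-zero is moved, by the transvection of a monomial image of itself, to one with few coordinates.
-/

set_option autoImplicit false
set_option linter.unusedSectionVars false

namespace Cfsg.Agent.Forms.Max.HermFrame

open Matrix Cfsg.Agent.Classical.Unitary

variable {F : Type*} [Field F] [Fintype F] {n q : ℕ}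

local notation "Vec" => (Fin n → F)
local notation "GLn" => GL (Fin n) F
local notation "H" => Cfsg.hermForm n F q

/-- the traces from a circle are many -/
theorem card_traces [DecidableEq F] (hF : Fintype.card F = q ^ 2) (h2 : Even q) {r : F} (hr : r ≠ 0) :
    q + 2 ≤ 2 * ((Finset.univ.filter fun a : F => a ^ (q + 1) = 1).image fun a => a * r + (a * r) ^ q).card := by
  classical
  set μ := Finset.univ.filter fun a : F => a ^ (q + 1) = 1 with hμ
  set A := μ.image fun a => a * r + (a * r) ^ q with hA
  have hfib : ∀ y ∈ A, (μ.filter fun a => a * r + (a * r) ^ q = y).card ≤ 2 := by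
    intro y hy
    obtain ⟨a, ha, rfl⟩ := Finset.mem_image.1 hy
    simp only [hμ, Finset.mem_filter, Finset.mem_univ, true_and] at ha
    refine le_trans (Finset.card_le_card (t := ({a, a⁻¹ * r ^ q / r} : Finset F)) fun b hb => ?_) Finset.card_le_two
    simp only [hμ, Finset.mem_filter, Finset.mem_univ, true_and] at hb
    obtain ⟨hb1, hb⟩ := hb
    simp only [mul_pow, pow_q_eq_inv hF hb1, pow_q_eq_inv hF ha] at hb
    have ha0 := n1_ne_zero ha
    have hb0 := n1_ne_zero hb1
    have h0 : (b - a) * (a * b * r - r ^ q) = 0 := by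
      field_simp at hb
      linear_combination hb
    simp only [Finset.mem_insert, Finset.mem_singleton]
    rcases mul_eq_zero.1 h0 with h | h
    · exact Or.inl (sub_eq_zero.1 h)
    · refine Or.inr ?_
      field_simp
      linear_combination h
  have h := Finset.card_le_mul_card_image μ 2 hfib
  rw [show μ.card = q + 1 from card_n1 hF, ← hA] at h
  obtain ⟨k, hk⟩ := h2
  omega

theorem card_fix_le [DecidableEq F] (hF : Fintype.card F = q ^ 2) :
    (Finset.univ.filter fun x : F => x ^ q = x).card ≤ q := by
  classical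
  have hq := HermStd.one_lt_q hF
  have h0 : (Polynomial.X ^ q - Polynomial.X : Polynomial F) ≠ 0 := FiniteField.X_pow_card_sub_X_ne_zero F hq
  refine le_trans (Finset.card_le_card (t := (Polynomial.X ^ q - Polynomial.X : Polynomial F).roots.toFinset)
    fun x hx => ?_) ((Multiset.toFinset_card_le _).trans ((Polynomial.card_roots' _).trans
      (FiniteField.X_pow_card_sub_X_natDegree_eq F hq).le))
  simp only [Finset.mem_filter, Finset.mem_univ, true_and] at hx
  rw [Multiset.mem_toFinset, Polynomial.mem_roots h0]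
  simp [hx]

namespace Setup

variable (S : Setup F n q)

/-- centres of transvections in the subgroup, with scalar one -/
def Cen (u : Fin n → F) : Prop :=
  Cfsg.hermForm n F q u u = 0 ∧ ∃ t ∈ S.K, ∀ x, act t x = x + Cfsg.hermForm n F q x u • u

theorem Cen.map {u : Vec} (hu : S.Cen u) {g : GLn} (hg : g ∈ S.K) : S.Cen (act g u) := by
  obtain ⟨h0, t, ht, htx⟩ := hu
  refine ⟨by rw [GU_act (S.gu hg)]; exact h0, g * t * g⁻¹, mul_mem (mul_mem hg ht) (inv_mem hg), fun x => ?_⟩
  conv_rhs => rw [← act_act_inv g x]
  rw [GU_act (S.gu hg), act_mul, act_mul, htx, act, mulVec_add, mulVec_smul]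

theorem cen_base (h2 : (2 : F) = 0) {i j : Fin n} (hij : i ≠ j) {a : F} (ha : a ^ (q + 1) = 1) :
    S.Cen (bas i + a • bas j) := by
  have hqa : a ^ q * a = 1 := by rw [← pow_succ]; exact ha
  set u : Vec := bas i + a • bas j with hu
  have huu : H u u = 0 := by
    simp only [hu, H_add_left, H_add_right S.hF, H_smul_left, H_smul_right, H_bas S.hF, if_neg hij,
      if_neg (Ne.symm hij), if_true]
    linear_combination hqa + h2
  obtain ⟨t, ht, htx⟩ := Unitary.exists_tv S.hF huu (c := 1) (by rw [one_pow]; linear_combination h2)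
  refine ⟨huu, t, S.mono_mem t ht fun k => ?_, fun x => by rw [act, htx, one_mul]⟩
  have hk : act t (bas k) = bas k + H (bas k) u • u := by rw [act, htx, one_mul]
  rw [hk, hu, H_add_right S.hF, H_smul_right, H_bas S.hF, H_bas S.hF]
  by_cases h1 : k = i
  · subst h1
    refine ⟨j, a, ?_⟩
    rw [if_pos rfl, if_neg hij, mul_zero, add_zero, one_smul, ← add_assoc, ← two_smul F (bas k), h2, zero_smul,
      zero_add]
  · by_cases h1' : k = j
    · subst h1'
      refine ⟨i, a ^ q, ?_⟩
      rw [if_neg h1, if_pos rfl, mul_one, zero_add, smul_add, smul_smul, hqa, one_smul, add_comm (_ • _),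
        ← add_assoc, ← two_smul F (bas k), h2, zero_smul, zero_add]
    · exact ⟨k, 1, by rw [if_neg h1, if_neg h1', mul_zero, add_zero, zero_smul, add_zero, one_smul]⟩

/-- a centre avoiding a frame vector has two coordinates only -/
theorem Cen.small (hS : ¬ S.Goal) {u : Vec} (hu : S.Cen u) {l : Fin n} (hl : u l = 0) :
    (supp u).card ≤ 2 := by
  classical
  obtain ⟨-, t, ht, htx⟩ := hu
  by_contra h3
  push Not at h3
  obtain ⟨k, hk⟩ := Finset.card_pos.1 (show 0 < (supp u).card by omega)
  have htm : Mon t := by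
    by_contra hm
    refine hS ⟨t, ht, hm, l, ?_⟩
    rw [htx, H_bas_left S.hF, hl, zero_pow (q_ne_zero S.hF), zero_smul, add_zero]
  obtain ⟨m, c, hc⟩ := htm k
  obtain ⟨i, hi, j, hj, hij⟩ := Finset.one_lt_card.1 (show 1 < ((supp u).erase k).card by
    rw [Finset.card_erase_of_mem hk]; omega)
  rw [Finset.mem_erase, mem_supp] at hi hj
  have key : ∀ x, x ≠ k → u x ≠ 0 → x = m := fun x hx hux => by
    by_contra hxm
    have := congrFun hc x
    rw [htx, H_bas_left S.hF, Pi.add_apply, Pi.smul_apply, Pi.smul_apply, bas_ne hx, bas_ne hxm, smul_zero,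
      zero_add, smul_eq_mul] at this
    exact mul_ne_zero (pow_ne_zero _ (mem_supp.1 hk)) hux this
  exact hij ((key i hi.1 hi.2).trans (key j hj.1 hj.2).symm)

theorem Cen.full_or_small (hS : ¬ S.Goal) {u : Vec} (hu : S.Cen u) : (∀ l, u l ≠ 0) ∨ (supp u).card ≤ 2 := by
  by_cases h : ∃ l, u l = 0
  · obtain ⟨l, hl⟩ := h
    exact Or.inr (hu.small S hS hl)
  · push Not at h
    exact Or.inl h

/-- no centre has all coordinates non-zero, unequal norms -/
theorem not_full_ne (hS : ¬ S.Goal) (h2 : (2 : F) = 0) (hqe : Even q) (hn : 5 ≤ n) {u : Vec} (hu : S.Cen u)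
    (hfull : ∀ l, u l ≠ 0) {i j : Fin n} (hij : nrm q (u i) ≠ nrm q (u j)) : False := by
  classical
  have hne : i ≠ j := fun e => hij (by rw [e])
  obtain ⟨k, hk⟩ := Finset.card_pos.1 (show 0 < (Finset.univ \ {i, j}).card by
    rw [Finset.card_sdiff_of_subset (Finset.subset_univ _), Finset.card_univ, Fintype.card_fin, Finset.card_pair hne]
    omega)
  obtain ⟨l, hl⟩ := Finset.card_pos.1 (show 0 < (Finset.univ \ {i, j, k}).card by
    have := Finset.le_card_sdiff {i, j, k} (Finset.univ : Finset (Fin n))
    have := Finset.card_le_three (a := i) (b := j) (c := k)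
    rw [Finset.card_univ, Fintype.card_fin] at *
    omega)
  simp only [Finset.mem_sdiff, Finset.mem_univ, true_and, Finset.mem_insert, Finset.mem_singleton, not_or] at hk hl
  set μ := Finset.univ.filter fun a : F => a ^ (q + 1) = 1 with hμ
  set T : F := 1 + nrm q (u i) + nrm q (u j) + nrm q (u k) + nrm q (u l) with hT
  have hTfix : T ^ q = T := by
    rw [← HermStd.qHom_apply S.hF, hT]
    simp only [map_add, map_one, HermStd.qHom_apply, nrm_conj S.hF]
  have hr1 : u j * u i ^ q ≠ 0 := mul_ne_zero (hfull j) (pow_ne_zero _ (hfull i))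
  have hr2 : u l * u k ^ q ≠ 0 := mul_ne_zero (hfull l) (pow_ne_zero _ (hfull k))
  set A1 := μ.image fun a => a * (u j * u i ^ q) + (a * (u j * u i ^ q)) ^ q with hA1
  set A2 := μ.image fun a => T - (a * (u l * u k ^ q) + (a * (u l * u k ^ q)) ^ q) with hA2
  have c1 := card_traces S.hF hqe hr1
  have c2 : q + 2 ≤ 2 * A2.card := by
    have := card_traces S.hF hqe hr2
    rwa [← Finset.card_image_of_injective _ (sub_right_injective (b := T)), Finset.image_image] at this
  have hfix : A1 ∪ A2 ⊆ Finset.univ.filter fun x : F => x ^ q = x := by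
    intro x hx
    simp only [Finset.mem_filter, Finset.mem_univ, true_and]
    rcases Finset.mem_union.1 hx with h | h <;> obtain ⟨a, -, rfl⟩ := Finset.mem_image.1 h
    · rw [HermStd.add_pow_q S.hF, HermStd.pow_q_q S.hF, add_comm]
    · rw [← HermStd.qHom_apply S.hF, map_sub, HermStd.qHom_apply, HermStd.qHom_apply, hTfix,
        HermStd.add_pow_q S.hF, HermStd.pow_q_q S.hF, add_comm ((a * _) ^ q)]
  have c3 := (Finset.card_le_card hfix).trans (card_fix_le S.hF)
  have c4 := Finset.card_union_add_card_inter A1 A2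
  have c5 : 2 ≤ (A1 ∩ A2).card := by
    rw [← hA1] at c1
    omega
  obtain ⟨τ, hτ⟩ := Finset.card_pos.1 (show 0 < ((A1 ∩ A2).erase T).card by
    have := Finset.pred_card_le_card_erase (s := A1 ∩ A2) (a := T)
    omega)
  rw [Finset.mem_erase, Finset.mem_inter] at hτ
  obtain ⟨U, hU, hUτ⟩ := Finset.mem_image.1 hτ.2.1
  obtain ⟨W, hW, hWτ⟩ := Finset.mem_image.1 hτ.2.2
  simp only [hμ, Finset.mem_filter, Finset.mem_univ, true_and] at hU hW
  -- the monomial image
  set p : Equiv.Perm (Fin n) := Equiv.swap i j * Equiv.swap k l with hp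
  set c : Vec := fun x => if x = j then U else if x = i then U⁻¹ else if x = l then W else if x = k then W⁻¹
    else 1 with hc
  have hc1 : ∀ x, c x ^ (q + 1) = 1 := fun x => by
    simp only [hc]; split_ifs <;> first | exact hU | exact hW | exact n1_inv hU | exact n1_inv hW | exact one_pow _
  obtain ⟨m, hmG, hm, hmd⟩ := exists_mono S.hF p c hc1
  have hprod : ∏ x, c x = 1 := by
    rw [← Finset.prod_subset (Finset.subset_univ ({j, i, l, k} : Finset (Fin n))) fun x _ hx => ?_,
      Finset.prod_insert (by simp [Ne.symm hne, Ne.symm hk.2, Ne.symm hl.2.1]),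
      Finset.prod_insert (by simp [Ne.symm hk.1, Ne.symm hl.1]),
      Finset.prod_insert (by simp [hl.2.2]), Finset.prod_singleton]
    · simp [hc, hne, hl.1, hl.2.1, hk.1, hk.2, Ne.symm hl.2.2, n1_ne_zero hU, n1_ne_zero hW]
    · simp only [Finset.mem_insert, Finset.mem_singleton, not_or] at hx
      simp only [hc, if_neg hx.1, if_neg hx.2.1, if_neg hx.2.2.1, if_neg hx.2.2.2]
  have hmK : m ∈ S.K := S.mem_mono hmG (by
    rw [hmd, hprod, hp, map_mul, Equiv.Perm.sign_swap hne, Equiv.Perm.sign_swap (Ne.symm hl.2.2)]; simp) hm.mon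
  have hpsymm : ∀ x, p.symm x = Equiv.swap k l (Equiv.swap i j x) := fun x => by
    rw [hp, Equiv.Perm.mul_def, Equiv.symm_trans_apply, Equiv.symm_swap, Equiv.symm_swap]
  have ei : act m u i = U * u j := by
    rw [hm.apply, hpsymm, Equiv.swap_apply_left, Equiv.swap_apply_of_ne_of_ne (Ne.symm hk.2) (Ne.symm hl.2.1)]
    simp [hc]
  have ej : act m u j = U⁻¹ * u i := by
    rw [hm.apply, hpsymm, Equiv.swap_apply_right, Equiv.swap_apply_of_ne_of_ne (Ne.symm hk.1) (Ne.symm hl.1)]
    simp [hc, hne]
  have ek : act m u k = W * u l := by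
    rw [hm.apply, hpsymm, Equiv.swap_apply_of_ne_of_ne hk.1 hk.2, Equiv.swap_apply_left]
    simp [hc, hl.1, hl.2.1]
  have el : act m u l = W⁻¹ * u k := by
    rw [hm.apply, hpsymm, Equiv.swap_apply_of_ne_of_ne hl.1 hl.2.1, Equiv.swap_apply_right]
    simp [hc, hk.1, hk.2, Ne.symm hl.2.2]
  have eo : ∀ x, x ∉ ({i, j, k, l} : Finset (Fin n)) → act m u x = u x := fun x hx => by
    simp only [Finset.mem_insert, Finset.mem_singleton, not_or] at hx
    rw [hm.apply, hpsymm, Equiv.swap_apply_of_ne_of_ne hx.1 hx.2.1, Equiv.swap_apply_of_ne_of_ne hx.2.2.1 hx.2.2.2]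
    simp [hc, hx.1, hx.2.1, hx.2.2.1, hx.2.2.2]
  have hH : H (act m u) u = 1 := by
    have e0 : H (act m u) u - H u u = ∑ x ∈ ({i, j, k, l} : Finset (Fin n)),
        (act m u x * u x ^ q - u x * u x ^ q) := by
      unfold Cfsg.hermForm
      rw [← Finset.sum_sub_distrib]
      exact (Finset.sum_subset (Finset.subset_univ _) fun x _ hx => by rw [eo x hx, sub_self]).symm
    rw [hu.1, sub_zero, Finset.sum_insert (by simp [hne, Ne.symm hk.1, Ne.symm hl.1]),
      Finset.sum_insert (by simp [Ne.symm hk.2, Ne.symm hl.2.1]),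
      Finset.sum_insert (by simp [Ne.symm hl.2.2]), Finset.sum_singleton, ei, ej, ek, el] at e0
    rw [e0]
    simp only [mul_pow, pow_q_eq_inv S.hF hU, pow_q_eq_inv S.hF hW, pow_qq S.hF, nrm] at hUτ hWτ hT
    linear_combination hUτ - hWτ + hT
  obtain ⟨t, ht, htx⟩ := hu.2
  have hy : S.Cen (act m u + u) := by
    have := (hu.map S hmK).map S ht
    rwa [htx, hH, one_smul] at this
  have hyi : act m u i + u i ≠ 0 := fun e => hij (by
    rw [show u i = -(act m u i) from eq_neg_of_add_eq_zero_right e, ei,
      show -(U * u j) = (-U) * u j by ring, nrm_mul, nrm_eq (-U), neg_eq_neg_one_mul, mul_pow, hU,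
      n1_neg_one S.hF, one_mul, one_mul])
  have hyj : act m u j + u j ≠ 0 := fun e => hij (by
    rw [show u j = -(act m u j) from eq_neg_of_add_eq_zero_right e, ej,
      show -(U⁻¹ * u i) = (-U⁻¹) * u i by ring, nrm_mul, nrm_eq (-U⁻¹), neg_eq_neg_one_mul, mul_pow, n1_inv hU,
      n1_neg_one S.hF, one_mul, one_mul])
  have hyk : act m u k + u k ≠ 0 := fun e => hτ.1 (by
    have h1 : W * u l = -u k := ek ▸ eq_neg_of_add_eq_zero_left e
    rw [← hWτ, ← mul_assoc, h1, mul_pow, HermStd.pow_q_q S.hF, ← HermStd.qHom_apply S.hF (x := -u k), map_neg,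
      HermStd.qHom_apply]
    linear_combination (u k * u k ^ q) * h2)
  obtain ⟨z, hz⟩ : ∃ z, z ∉ ({i, j, k, l} : Finset (Fin n)) := by
    by_contra hcon
    push Not at hcon
    have := Finset.card_le_card (s := (Finset.univ : Finset (Fin n))) fun x _ => hcon x
    have := Finset.card_le_four (a := i) (b := j) (c := k) (d := l)
    rw [Finset.card_univ, Fintype.card_fin] at *
    omega
  have hz0 : (act m u + u) z = 0 := by rw [Pi.add_apply, eo z hz, ← two_mul, h2, zero_mul]
  have h3 : ({i, j, k} : Finset (Fin n)) ⊆ supp (act m u + u) := fun x hx => by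
    simp only [Finset.mem_insert, Finset.mem_singleton] at hx
    rw [mem_supp, Pi.add_apply]
    rcases hx with rfl | rfl | rfl <;> assumption
  have h4 := (Finset.card_le_card h3).trans (hy.small S hS hz0)
  rw [Finset.card_insert_of_notMem (by simp [hne, Ne.symm hk.1]), Finset.card_pair (Ne.symm hk.2)] at h4
  omega

/-- no centre has all coordinates non-zero -/
theorem not_full (hS : ¬ S.Goal) (h2 : (2 : F) = 0) (hqe : Even q) (hn : 7 ≤ n ∨ 5 ≤ n ∧ 3 ≤ q) {u : Vec}
    (hu : S.Cen u) (hfull : ∀ l, u l ≠ 0) : False := by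
  classical
  have hn5 : 5 ≤ n := by omega
  by_cases hne : ∃ i j, nrm q (u i) ≠ nrm q (u j)
  · obtain ⟨i, j, h⟩ := hne
    exact S.not_full_ne hS h2 hqe hn5 hu hfull h
  push Not at hne
  by_cases hq : 3 ≤ q
  · -- change the norms
    obtain ⟨e, he⟩ := hqe
    let i : Fin n := ⟨0, by omega⟩
    let j : Fin n := ⟨1, by omega⟩
    let k : Fin n := ⟨2, by omega⟩
    have hij : i ≠ j := by simp [i, j]
    have hki : k ≠ i := by simp [i, k]
    have hkj : k ≠ j := by simp [j, k]
    set r := u j ^ q * u i with hr
    have hr0 : r ≠ 0 := mul_ne_zero (pow_ne_zero _ (hfull j)) (hfull i)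
    set μ := Finset.univ.filter fun a : F => a ^ (q + 1) = 1 with hμ
    obtain ⟨a, ha⟩ := Finset.card_pos.1 (show 0 < (μ \ ((μ.filter fun a => a * r + (a * r) ^ q = 0) ∪
        (μ.filter fun a => a * r + (a * r) ^ q = 1))).card by
      have key : ∀ y : F, (μ.filter fun a => a * r + (a * r) ^ q = y).card ≤ 2 := by
        intro y
        by_cases hy : ∃ a ∈ μ, a * r + (a * r) ^ q = y
        · obtain ⟨a, ha, rfl⟩ := hy
          simp only [hμ, Finset.mem_filter, Finset.mem_univ, true_and] at ha
          refine le_trans (Finset.card_le_card (t := ({a, a⁻¹ * r ^ q / r} : Finset F)) fun b hb => ?_)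
            Finset.card_le_two
          simp only [hμ, Finset.mem_filter, Finset.mem_univ, true_and] at hb
          obtain ⟨hb1, hb⟩ := hb
          simp only [mul_pow, pow_q_eq_inv S.hF hb1, pow_q_eq_inv S.hF ha] at hb
          have ha0 := n1_ne_zero ha
          have hb0 := n1_ne_zero hb1
          have h0 : (b - a) * (a * b * r - r ^ q) = 0 := by
            field_simp at hb
            linear_combination hb
          simp only [Finset.mem_insert, Finset.mem_singleton]
          rcases mul_eq_zero.1 h0 with h | h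
          · exact Or.inl (sub_eq_zero.1 h)
          · refine Or.inr ?_
            field_simp
            linear_combination h
        · rw [Finset.filter_eq_empty_iff.2 fun a ha h => hy ⟨a, ha, h⟩, Finset.card_empty]
          omega
      have h1 := Finset.le_card_sdiff ((μ.filter fun a => a * r + (a * r) ^ q = 0) ∪
        (μ.filter fun a => a * r + (a * r) ^ q = 1)) μ
      have h3 := Finset.card_union_le (μ.filter fun a => a * r + (a * r) ^ q = 0)
        (μ.filter fun a => a * r + (a * r) ^ q = 1)
      have := key 0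
      have := key 1
      have : μ.card = q + 1 := card_n1 S.hF
      omega)
    simp only [hμ, Finset.mem_sdiff, Finset.mem_union, Finset.mem_filter, Finset.mem_univ, true_and, not_or,
      not_and] at ha
    obtain ⟨ha1, hτ0, hτ1⟩ := ha
    replace hτ0 := hτ0 ha1
    replace hτ1 := hτ1 ha1
    obtain ⟨t, ht, htx⟩ := hu.2
    set c : Vec := bas i + a • bas j with hc
    set γ := H c u with hγ
    have hy : S.Cen (c + γ • u) := by
      have := (S.cen_base h2 hij ha1).map S ht
      rwa [htx] at this
    have hγ' : γ = u i ^ q + a * u j ^ q := by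
      rw [hγ, hc, H_add_left, H_smul_left, H_bas_left S.hF, H_bas_left S.hF]
    have hγq : γ ^ q = u i + a⁻¹ * u j := by
      rw [hγ', HermStd.add_pow_q S.hF, mul_pow, pow_qq S.hF, pow_qq S.hF, pow_q_eq_inv S.hF ha1]
    have hN := hne i j
    simp only [nrm] at hN
    set τ := a * r + (a * r) ^ q with hτ
    have hτe : τ = a * (u j ^ q * u i) + a⁻¹ * (u j * u i ^ q) := by
      rw [hτ, hr, mul_pow, mul_pow, pow_qq S.hF, pow_q_eq_inv S.hF ha1]
    have haa : a * a⁻¹ = 1 := mul_inv_cancel₀ (n1_ne_zero ha1)
    have hρ : nrm q γ = τ := by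
      rw [nrm, hγq, hγ', hτe]
      linear_combination (u j ^ q * u j) * haa + hN + (u j * u j ^ q) * h2
    have hyk : (c + γ • u) k = γ * u k := by simp [hc, bas_ne hki, bas_ne hkj]
    have hyi : (c + γ • u) i = 1 + γ * u i := by simp [hc, bas_ne hij]
    have hdiff : nrm q ((c + γ • u) i) ≠ nrm q ((c + γ • u) k) := by
      rw [hyk, hyi, nrm_mul, hρ, ← hne i k, nrm, HermStd.add_pow_q S.hF, one_pow, mul_pow, nrm]
      intro h
      refine hτ1 ?_
      have e1 : γ * u i + γ ^ q * u i ^ q = 2 * (u i * u i ^ q) + τ := by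
        rw [hγq, hγ', hτe]; ring
      have e2 : γ * γ ^ q = τ := hρ
      linear_combination h - e1 - (u i * u i ^ q) * e2 - (1 + u i * u i ^ q) * h2
    rcases hy.full_or_small S hS with h | h
    · exact S.not_full_ne hS h2 ⟨e, he⟩ hn5 hy h hdiff
    · have hsub : Finset.univ \ {i, j} ⊆ supp (c + γ • u) := fun x hx => by
        simp only [Finset.mem_sdiff, Finset.mem_univ, true_and, Finset.mem_insert, Finset.mem_singleton,
          not_or] at hx
        have hγ0 : γ ≠ 0 := fun h0 => hτ0 (by rw [← hρ, h0, nrm, zero_mul])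
        rw [mem_supp]
        simp [hc, bas_ne hx.1, bas_ne hx.2, hγ0, hfull x]
      have := (Finset.card_le_card hsub).trans h
      rw [Finset.card_sdiff_of_subset (Finset.subset_univ _), Finset.card_univ, Fintype.card_fin,
        Finset.card_pair hij] at this
      omega
  · -- four elements
    have hq2 : q = 2 := by have := HermStd.one_lt_q S.hF; omega
    have hn7 : 7 ≤ n := by omega
    obtain ⟨w, hw, hgen⟩ := exists_gen S.hF
    have hw1 : w ≠ 1 := fun h => hgen 1 one_pos (by omega) (by rw [h, one_pow])
    have hw3 : w ^ 3 = 1 := by rw [hq2] at hw; exact hw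
    have hsum : w + w ^ 2 = 1 := by
      have h0 : (w - 1) * (w ^ 2 + w + 1) = 0 := by linear_combination hw3
      linear_combination (mul_eq_zero.1 h0).resolve_left (sub_ne_zero.2 hw1) - h2
    obtain ⟨P, -, hP⟩ := Finset.exists_subset_card_eq (s := (Finset.univ : Finset (Fin n))) (n := 3)
      (by rw [Finset.card_univ, Fintype.card_fin]; omega)
    obtain ⟨R, hR, hRc⟩ := Finset.exists_subset_card_eq (s := Finset.univ \ P) (n := 3)
      (by rw [Finset.card_sdiff_of_subset (Finset.subset_univ P), Finset.card_univ, Fintype.card_fin]; omega)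
    have hPR : Disjoint P R := Finset.disjoint_left.2 fun x hx hx' => (Finset.mem_sdiff.1 (hR hx')).2 hx
    set c : Vec := fun x => if x ∈ P then w else if x ∈ R then w ^ 2 else 1 with hc
    have hc1 : ∀ x, c x ^ (q + 1) = 1 := fun x => by
      simp only [hc]; split_ifs
      · exact hw
      · rw [← pow_mul, mul_comm, pow_mul, hw, one_pow]
      · exact one_pow _
    obtain ⟨m, hmG, hm, hmd⟩ := exists_mono S.hF 1 c hc1
    have hprod : ∏ x, c x = 1 := by
      rw [← Finset.prod_subset (Finset.subset_univ (P ∪ R)) fun x _ hx => ?_, Finset.prod_union hPR,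
        Finset.prod_congr (s₁ := P) rfl (g := fun _ => w) fun x hx => if_pos hx,
        Finset.prod_congr (s₁ := R) rfl (g := fun _ => w ^ 2) fun x hx => ?_, Finset.prod_const, Finset.prod_const, hP, hRc]
      · rw [hw3, one_mul, ← pow_mul, show 2 * 3 = 3 * 2 from rfl, pow_mul, hw3, one_pow]
      · simp only [hc, if_neg fun h => Finset.disjoint_left.1 hPR h hx, if_pos hx]
      · simp only [Finset.mem_union, not_or] at hx
        simp only [hc, if_neg hx.1, if_neg hx.2]
    have hmK : m ∈ S.K := S.mem_mono hmG (by rw [hmd, hprod]; simp) hm.mon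
    have hnrm : ∀ x, nrm q (u x) = 1 := fun x => by
      have h0 := FiniteField.pow_card_sub_one_eq_one (u x) (hfull x)
      rw [S.hF, hq2] at h0
      rw [nrm, hq2, ← pow_succ']
      exact h0
    have hH : H (act m u) u = 1 := by
      have e0 : H (act m u) u - H u u = ∑ x ∈ P ∪ R, (c x - 1) := by
        unfold Cfsg.hermForm
        rw [← Finset.sum_sub_distrib, Finset.sum_subset (Finset.subset_univ (P ∪ R)) fun x _ hx => ?_]
        · refine Finset.sum_congr rfl fun x _ => ?_
          rw [hm.eq_diag]
          have := hnrm x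
          rw [nrm] at this
          linear_combination (c x - 1) * this
        · simp only [Finset.mem_union, not_or] at hx
          simp only [hc, if_neg hx.1, if_neg hx.2, sub_self]
      rw [hu.1, sub_zero, Finset.sum_union hPR,
        Finset.sum_congr (s₁ := P) rfl (g := fun _ => w - 1) fun x hx => ?_,
        Finset.sum_congr (s₁ := R) rfl (g := fun _ => w ^ 2 - 1) fun x hx => ?_, Finset.sum_const, Finset.sum_const,
        hP, hRc] at e0
      · rw [e0]
        simp only [nsmul_eq_mul]
        push_cast
        linear_combination 3 * hsum - 2 * h2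
      · simp only [hc, if_neg fun h => Finset.disjoint_left.1 hPR h hx, if_pos hx]
      · simp only [hc, if_pos hx]
    obtain ⟨t, ht, htx⟩ := hu.2
    have hy : S.Cen (act m u + u) := by
      have := (hu.map S hmK).map S ht
      rwa [htx, hH, one_smul] at this
    have hsupp : P ∪ R ⊆ supp (act m u + u) := fun x hx => by
      rw [mem_supp, Pi.add_apply, hm.eq_diag]
      show c x * u x + u x ≠ 0
      rw [show c x * u x + u x = (c x + 1) * u x by ring]
      refine mul_ne_zero ?_ (hfull x)
      simp only [hc]; split_ifs with h1 h3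
      · exact fun e => hw1 (by linear_combination e - h2)
      · exact fun e => hgen 2 two_pos (by omega) (by linear_combination e - h2)
      · exact absurd hx (by simp [h1, h3])
    obtain ⟨z, hz⟩ := Finset.card_pos.1 (show 0 < (Finset.univ \ (P ∪ R)).card by
      rw [Finset.card_sdiff_of_subset (Finset.subset_univ _), Finset.card_univ, Fintype.card_fin,
        Finset.card_union_of_disjoint hPR, hP, hRc]
      omega)
    simp only [Finset.mem_sdiff, Finset.mem_union, not_or] at hz
    have h4 := (Finset.card_le_card hsupp).trans (hy.small S hS (l := z) (by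
      rw [Pi.add_apply, hm.eq_diag]
      show c z * u z + u z = 0
      simp only [hc, if_neg hz.2.1, if_neg hz.2.2, one_mul]
      rw [← two_mul, h2, zero_mul]))
    rw [Finset.card_union_of_disjoint hPR, hP, hRc] at h4
    omega

/-- some non-monomial member fixes a frame vector, given that no centre has all coordinates non-zero -/
theorem goal_even_of (h2 : (2 : F) = 0) (hn : 4 ≤ n)
    (hnf : ¬ S.Goal → ∀ {u : Vec}, S.Cen u → (∀ l, u l ≠ 0) → False) {g : GLn} (hg : g ∈ S.K)
    (hgm : ¬ Mon g) : S.Goal := by
  classical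
  by_contra hS
  have hcol : ∀ i, 2 ≤ (supp (act g (bas i))).card := by
    intro i
    by_contra h
    obtain ⟨m, hm⟩ : ∃ m, supp (act g (bas i)) ⊆ {m} := by
      rcases Finset.eq_empty_or_nonempty (supp (act g (bas i))) with he | ⟨m, hm⟩
      · exact ⟨i, by rw [he]; exact Finset.empty_subset _⟩
      · exact ⟨m, fun x hx => Finset.mem_singleton.2 (Finset.card_le_one.1 (by omega) x hx m hm)⟩
    refine hS (S.goal_of_col (by omega) hg hgm (k := i) (m := m) (c := act g (bas i) m) (funext fun x => ?_))
    by_cases hx : x = m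
    · subst hx; simp [bas]
    · rw [Pi.smul_apply, bas_ne hx, smul_zero]
      exact not_mem_supp.1 fun h => hx (Finset.mem_singleton.1 (hm h))
  -- two columns share at most three coordinates
  have hU : ∀ i j, i ≠ j → (supp (act g (bas i)) ∪ supp (act g (bas j))).card ≤ 3 := by
    intro i j hij
    set U := supp (act g (bas i)) ∪ supp (act g (bas j)) with hUdef
    set μ := Finset.univ.filter fun a : F => a ^ (q + 1) = 1 with hμ
    have key : ∀ a ∈ μ, U.card ≤ (U.filter fun x => act g (bas i) x + a * act g (bas j) x = 0).card + 2 := by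
      intro a ha
      simp only [hμ, Finset.mem_filter, Finset.mem_univ, true_and] at ha
      have hy := (S.cen_base h2 hij ha).map S hg
      have hval : ∀ x, act g (bas i + a • bas j) x = act g (bas i) x + a * act g (bas j) x := fun x => by
        simp [act, mulVec_add, mulVec_smul]
      have hsmall := (hy.full_or_small S hS).resolve_left fun hf => hnf hS hy hf
      have h3 : (U.filter fun x => ¬ (act g (bas i) x + a * act g (bas j) x = 0)).card ≤ 2 :=
        le_trans (Finset.card_le_card fun x hx => mem_supp.2 (by rw [hval]; exact (Finset.mem_filter.1 hx).2))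
          hsmall
      have := Finset.card_filter_add_card_filter_not (s := U) (fun x => act g (bas i) x + a * act g (bas j) x = 0)
      omega
    have hsum : ∑ a ∈ μ, (U.filter fun x => act g (bas i) x + a * act g (bas j) x = 0).card ≤ U.card := by
      rw [← Finset.card_biUnion fun a _ b _ hab => Finset.disjoint_left.2 fun x hxa hxb => ?_]
      · exact Finset.card_le_card (Finset.biUnion_subset.2 fun a _ => Finset.filter_subset _ _)
      · simp only [Finset.mem_filter] at hxa hxb
        have h0 : (a - b) * act g (bas j) x = 0 := by linear_combination hxa.2 - hxb.2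
        have hj0 := (mul_eq_zero.1 h0).resolve_left (sub_ne_zero.2 hab)
        have hi0 : act g (bas i) x = 0 := by
          have := hxa.2; rwa [hj0, mul_zero, add_zero] at this
        rw [hUdef, Finset.mem_union, mem_supp, mem_supp] at hxa
        exact hxa.1.elim (fun h => h hi0) (fun h => h hj0)
    have h4 : μ.card * U.card ≤ U.card + μ.card * 2 := by
      calc μ.card * U.card = ∑ a ∈ μ, U.card := by rw [Finset.sum_const, smul_eq_mul]
        _ ≤ ∑ a ∈ μ, ((U.filter fun x => act g (bas i) x + a * act g (bas j) x = 0).card + 2) :=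
          Finset.sum_le_sum key
        _ ≤ U.card + μ.card * 2 := by rw [Finset.sum_add_distrib, Finset.sum_const, smul_eq_mul]; omega
    rw [show μ.card = q + 1 from card_n1 S.hF] at h4
    by_contra hc
    nlinarith [HermStd.one_lt_q S.hF]
  -- supports of orthogonal columns do not meet in one coordinate
  have hone : ∀ i j, i ≠ j → (supp (act g (bas i)) ∩ supp (act g (bas j))).card ≠ 1 := by
    intro i j hij h1
    obtain ⟨x, hx⟩ := Finset.card_eq_one.1 h1
    have h0 : H (act g (bas i)) (act g (bas j)) = 0 := by rw [GU_act (S.gu hg), H_bas S.hF, if_neg hij]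
    rw [Cfsg.hermForm, Finset.sum_eq_single x (fun y _ hy => ?_) fun h => absurd (Finset.mem_univ x) h] at h0
    · have hx' : x ∈ supp (act g (bas i)) ∩ supp (act g (bas j)) := hx ▸ Finset.mem_singleton_self x
      rw [Finset.mem_inter, mem_supp, mem_supp] at hx'
      exact mul_ne_zero hx'.1 (pow_ne_zero _ hx'.2) h0
    · by_contra hne
      refine hy (Finset.mem_singleton.1 (hx ▸ Finset.mem_inter.2 ⟨mem_supp.2 fun e => hne (by rw [e, zero_mul]),
        mem_supp.2 fun e => hne (by rw [e, zero_pow (q_ne_zero S.hF), mul_zero])⟩))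
  obtain ⟨i₀, -, hmax⟩ := Finset.exists_max_image (Finset.univ : Finset (Fin n))
    (fun i => (supp (act g (bas i))).card) ⟨⟨0, by omega⟩, Finset.mem_univ _⟩
  have hsub : ∀ i ∈ (Finset.univ : Finset (Fin n)), supp (act g (bas i)) ⊆ supp (act g (bas i₀)) := by
    intro i _
    rcases eq_or_ne i i₀ with rfl | hi
    · exact Finset.Subset.refl _
    have h1 := hU i₀ i (Ne.symm hi)
    have h3 := hone i₀ i (Ne.symm hi)
    have h4 := Finset.card_union_add_card_inter (supp (act g (bas i₀))) (supp (act g (bas i)))
    have h5 := hmax i (Finset.mem_univ i)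
    have h6 := hcol i
    have h7 := hcol i₀
    have : supp (act g (bas i₀)) = supp (act g (bas i₀)) ∪ supp (act g (bas i)) :=
      Finset.eq_of_subset_of_card_le Finset.subset_union_left (by omega)
    rw [this]
    exact Finset.subset_union_right
  have h1 := card_le_of_supp (g := g) hsub
  rw [Finset.card_univ, Fintype.card_fin] at h1
  have h2' : (supp (act g (bas i₀))).card ≤ 3 := by
    obtain ⟨j, hj⟩ := Finset.card_pos.1 (show 0 < ((Finset.univ : Finset (Fin n)).erase i₀).card by
      rw [Finset.card_erase_of_mem (Finset.mem_univ _), Finset.card_univ, Fintype.card_fin]; omega)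
    exact (Finset.card_le_card Finset.subset_union_left).trans (hU i₀ j (Ne.symm (Finset.mem_erase.1 hj).1))
  omega

/-- some non-monomial member fixes a frame vector -/
theorem goal_even (h2 : (2 : F) = 0) (hqe : Even q) (hn : 7 ≤ n ∨ 5 ≤ n ∧ 3 ≤ q) {g : GLn} (hg : g ∈ S.K)
    (hgm : ¬ Mon g) : S.Goal :=
  S.goal_even_of h2 (by omega) (fun hS _ hy hf => S.not_full hS h2 hqe hn hy hf) hg hgm

end Setup

end Cfsg.Agent.Forms.Max.HermFrame
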