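import Mathlib
import Cfsg.Agent.Lib.Forms.Max.HermFrame.Conj
import Cfsg.Agent.Lib.Forms.Max.UnitFrame.Trick

/-!
# Some non-monomial member fixes a frame vector, in odd characteristic

Two non-conjugate monomial involutions generate a dihedral group whose central involution is monomial, and so
transfers monomiality to the conjugating element.
-/

set_option autoImplicit false
set_option linter.unusedSectionVars false

namespace Cfsg.Agent.Forms.Max.HermFrame

open Matrix Cfsg.Agent.Classical.Unitary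

variable {F : Type*} [Field F] [Fintype F] {n q : ℕ}

local notation "Vec" => (Fin n → F)
local notation "GLn" => GL (Fin n) F

/-- signs, negative on a set -/
def sgn (X : Finset (Fin n)) : Fin n → F := fun i => if i ∈ X then -1 else 1

theorem sgn_sq (X : Finset (Fin n)) (i : Fin n) : (sgn X i : F) * sgn X i = 1 := by
  unfold sgn; split <;> ring

theorem sgn_neg (h2 : (2 : F) ≠ 0) (X : Finset (Fin n)) (i : Fin n) : (sgn X i : F) = -1 ↔ i ∈ X := by
  unfold sgn; split
  · simp_all
  · rename_i h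
    simp only [h, iff_false]
    exact fun e => h2 (by linear_combination e)

/-- the scalars are carried along by a monomial map -/
theorem mono_transport {g t t' : GLn} {a a' : Vec} {σ : Equiv.Perm (Fin n)} {c : Vec} (hg : IsMono g σ c)
    (hc : ∀ i, c i ≠ 0) (ht : IsMono t 1 a) (ht' : IsMono t' 1 a') (he : g * t = t' * g) (i : Fin n) :
    a' (σ i) = a i := by
  have h1 := ((hg.mul ht).unique (he.symm ▸ ht'.mul hg)).2
  have h2 := congrFun h1 i
  simp only [Equiv.Perm.one_apply] at h2
  exact mul_left_cancel₀ (hc i) (h2.symm.trans (mul_comm _ _))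

theorem mono_card [DecidableEq F] {g t t' : GLn} {a a' : Vec} (hg : Mon g) (ht : IsMono t 1 a)
    (ht' : IsMono t' 1 a') (he : g * t = t' * g) (x : F) :
    (Finset.univ.filter fun i => a i = x).card = (Finset.univ.filter fun i => a' i = x).card := by
  obtain ⟨σ, c, hg, hc⟩ := hg.exists_isMono
  have key := mono_transport hg hc ht ht' he
  refine Finset.card_bij (fun i _ => σ i) (fun i hi => ?_) (fun i _ j _ h => σ.injective h) fun j hj => ?_
  · simp only [Finset.mem_filter, Finset.mem_univ, true_and] at hi ⊢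
    rw [key, hi]
  · simp only [Finset.mem_filter, Finset.mem_univ, true_and] at hj ⊢
    exact ⟨σ.symm j, by rw [← key, σ.apply_symm_apply, hj], σ.apply_symm_apply j⟩

theorem card_sgn [DecidableEq F] (h2 : (2 : F) ≠ 0) (X : Finset (Fin n)) :
    (Finset.univ.filter fun i => (sgn X i : F) = -1).card = X.card := by
  congr 1; ext i; simp [sgn_neg h2]

theorem card_neg_sgn [DecidableEq F] (h2 : (2 : F) ≠ 0) (X : Finset (Fin n)) :
    (Finset.univ.filter fun i => -(sgn X i : F) = -1).card = n - X.card := by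
  rw [show (Finset.univ.filter fun i => -(sgn X i : F) = -1) = Finset.univ \ X by
    ext i
    simp only [neg_inj, Finset.mem_filter, Finset.mem_univ, true_and, Finset.mem_sdiff]
    unfold sgn; split
    · rename_i h
      simp only [h, not_true_eq_false, iff_false]
      exact fun e => h2 (by linear_combination -e)
    · rename_i h
      simp [h]]
  rw [Finset.card_sdiff_of_subset (Finset.subset_univ X), Finset.card_univ, Fintype.card_fin]

namespace Setup

variable (S : Setup F n q)

theorem exists_eps {X : Finset (Fin n)} (hX : Even X.card) : ∃ t ∈ S.K, IsMono t 1 (sgn X : Vec) := by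
  classical
  obtain ⟨t, ht, htm, htd⟩ := exists_mono S.hF 1 (sgn X) fun i => by
    unfold sgn; split
    · exact n1_neg_one S.hF
    · exact one_pow _
  refine ⟨t, S.mem_mono ht ?_ htm.mon, htm⟩
  rw [htd, Equiv.Perm.sign_one]
  unfold sgn
  rw [Finset.prod_ite_mem, Finset.univ_inter, Finset.prod_const, hX.neg_one_pow]
  simp

/-- a member commuting with a diagonal element which is not scalar is monomial -/
theorem mon_of_comm (hS : ¬ S.Goal) (hn : 5 ≤ n) (h3 : 3 ≤ q) {g : GLn} (hg : g ∈ S.K) {t : GLn} {a : Vec}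
    (ht : IsMono t 1 a) {i₀ i₁ : Fin n} (hne : a i₁ ≠ a i₀) (he : g * t = t * g) : Mon g := by
  by_contra hm
  exact hS (S.goal_of_diag hn h3 hg hm ht ht hne he)

theorem dihedral_le {e f : GLn} (he : e ∈ S.K) (hf : f ∈ S.K) : Subgroup.closure {e, f} ≤ S.K :=
  (Subgroup.closure_le _).2 (by intro y hy; simp at hy; rcases hy with rfl | rfl <;> assumption)

theorem sq_eq_one {t : GLn} {X : Finset (Fin n)} (ht : IsMono t 1 (sgn X : Vec)) : t * t = 1 :=
  ext_bas fun i => by
    rw [(ht.mul ht) i, act_one]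
    simp [sgn_sq]

/-- the dihedral group of two sign changes of different weight -/
theorem mon_of_dihedral (hS : ¬ S.Goal) (h3 : 3 ≤ q) (h2 : (2 : F) ≠ 0) (hn : n = 6 ∨ 7 ≤ n)
    {A B : Finset (Fin n)} (hA0 : 0 < A.card) (hB0 : 0 < B.card)
    (hA' : A.card + B.card ≠ n) (hB' : B.card + B.card ≠ n) {g : GLn} (hg : g ∈ S.K)
    {e t : GLn} (he : IsMono e 1 (sgn A : Vec)) (ht : IsMono t 1 (sgn B : Vec)) (heK : e ∈ S.K) (htK : t ∈ S.K)
    (hAn : A.card < n) (hBn : B.card < n)
    (hodd : ∀ u ∈ Subgroup.closure {e, g * t * g⁻¹}, Mon (u * g) → u * g * t = e * (u * g) → False) : Mon g := by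
  classical
  have hn5 : 5 ≤ n := by omega
  set f := g * t * g⁻¹ with hf
  have hfK : f ∈ S.K := mul_mem (mul_mem hg htK) (inv_mem hg)
  have hf2 : f * f = 1 := by
    rw [hf, show g * t * g⁻¹ * (g * t * g⁻¹) = g * (t * t) * g⁻¹ by group, sq_eq_one ht]; group
  have split : ∀ {X : Finset (Fin n)}, 0 < X.card → X.card < n → ∃ i₀ i₁, (sgn X i₁ : F) ≠ sgn X i₀ := by
    intro X h0 h1
    obtain ⟨i, hi⟩ := Finset.card_pos.1 h0
    obtain ⟨j, hj⟩ : ∃ j, j ∉ X := by
      by_contra hc
      push Not at hc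
      rw [Finset.eq_univ_iff_forall.2 hc, Finset.card_univ, Fintype.card_fin] at h1
      omega
    refine ⟨j, i, ?_⟩
    simp only [sgn, hi, hj, if_true, if_false]
    exact fun e => h2 (by linear_combination -e)
  obtain ⟨eA0, eA1, hneA⟩ := split hA0 hAn
  obtain ⟨eB0, eB1, hneB⟩ := split hB0 hBn
  rcases UnitFrame.dihedral (sq_eq_one he) hf2 with ⟨u, hu, hue⟩ | ⟨d, hdD, u, huD, hd2, hd1, hde, hdf, hu⟩
  · exfalso
    have heq : u * g * t = e * (u * g) := by rw [hue, hf]; group
    exact hodd u hu (S.mon_of_conj hS h3 h2 hn (mul_mem (S.dihedral_le heK hfK hu) hg) htK ht (sgn_sq B) hneB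
      he.mon heq) heq
  have hdK := S.dihedral_le heK hfK hdD
  have huK := S.dihedral_le heK hfK huD
  have hdm : Mon d := S.mon_of_comm hS hn5 h3 hdK he hneA hde
  set d' := g⁻¹ * d * g with hd'
  have hd'K : d' ∈ S.K := mul_mem (mul_mem (inv_mem hg) hdK) hg
  have hd'm : Mon d' := S.mon_of_comm hS hn5 h3 hd'K ht hneB (by
    rw [hd', show g⁻¹ * d * g * t = g⁻¹ * (d * f) * g by rw [hf]; group, hdf, hf]; group)
  -- the other involution is diagonal
  obtain ⟨X, hXc, w, hwK, hwm, s, hsK, hs, hsv⟩ : ∃ X : Finset (Fin n), (X.card + B.card ≠ n) ∧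
      ∃ w ∈ S.K, Mon w ∧ ∃ s ∈ S.K, IsMono s 1 (sgn X : Vec) ∧ w * s = d' * t * w := by
    rcases hu with hu | hu
    · have hwK : g⁻¹ * u * g ∈ S.K := mul_mem (mul_mem (inv_mem hg) huK) hg
      have heq : g⁻¹ * u * g * t = d' * t * (g⁻¹ * u * g) := by
        calc g⁻¹ * u * g * t = g⁻¹ * (u * f * u⁻¹) * u * g := by rw [hf]; group
          _ = d' * t * (g⁻¹ * u * g) := by rw [hu, hd', hf]; group
      exact ⟨B, hB', _, hwK, S.mon_of_conj hS h3 h2 hn hwK htK ht (sgn_sq B) hneB (hd'm.mul ht.mon) heq, t,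
        htK, ht, heq⟩
    · have hwK : g⁻¹ * u⁻¹ ∈ S.K := mul_mem (inv_mem hg) (inv_mem huK)
      have heq : g⁻¹ * u⁻¹ * e = d' * t * (g⁻¹ * u⁻¹) := by rw [← hu, hd', hf]; group
      exact ⟨A, hA', _, hwK, S.mon_of_conj hS h3 h2 hn hwK heK he (sgn_sq A) hneA (hd'm.mul ht.mon) heq, e,
        heK, he, heq⟩
  obtain ⟨σ, c, hwσ, hc⟩ := hwm.exists_isMono
  set x : Vec := fun i => sgn X (σ.symm i) * sgn B i with hx
  have hdt : IsMono (d' * t) 1 (fun i => (sgn X (σ.symm i) : F)) := fun j => by
    have h1 := congrArg (fun z : GLn => act z (bas (σ.symm j))) hsv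
    simp only [act_mul] at h1
    rw [hs, act, mulVec_smul, ← act, Equiv.Perm.one_apply, hwσ, act, act, mulVec_smul, mulVec_smul, ← act,
      ← act, σ.apply_symm_apply, ← act_mul, smul_smul] at h1
    refine smul_right_injective _ (hc (σ.symm j)) ?_
    simp only
    rw [← h1, smul_smul, Equiv.Perm.one_apply, mul_comm]
  have hd'x : IsMono d' 1 x := by
    rw [show d' = d' * t * t by rw [mul_assoc, sq_eq_one ht, mul_one]]
    intro i
    rw [(hdt.mul ht) i]
    simp [hx, mul_comm]
  have hxsq : ∀ i, x i * x i = 1 := fun i => by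
    simp only [hx]
    linear_combination ((sgn B i : F) * (sgn B i : F)) * sgn_sq (F := F) X (σ.symm i) + sgn_sq (F := F) B i
  by_cases hconst : ∀ i j, x i = x j
  · exfalso
    let i₀ : Fin n := ⟨0, by omega⟩
    rcases mul_self_eq_one_iff.1 (hxsq i₀) with h1 | h1
    · refine hd1 ?_
      have : d' = 1 := ext_bas fun i => by rw [hd'x, hconst i i₀, h1, one_smul, act_one]; rfl
      rw [show d = g * d' * g⁻¹ by rw [hd']; group, this]; group
    · have hneg : IsMono (d' * t) 1 (fun i => -(sgn B i : F)) := fun i => by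
        rw [(hd'x.mul ht) i]
        simp [hconst i i₀, h1]
      have h4 := mono_card hwσ.mon hs hneg hsv (-1)
      rw [card_sgn h2, card_neg_sgn h2] at h4
      omega
  push Not at hconst
  obtain ⟨i, j, hij⟩ := hconst
  exact S.mon_of_conj hS h3 h2 hn hg hd'K hd'x hxsq hij hdm (by rw [hd']; group)

/-- members centralising a monomial involution which is not diagonal, in dimension six -/
theorem mon_of_comm_six (hS : ¬ S.Goal) (h3 : 3 ≤ q) (h2 : (2 : F) ≠ 0) (hn : n = 6) {y : GLn} (hy : y ∈ S.K)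
    {p : Equiv.Perm (Fin n)} {c : Vec} (hyp : IsMono y p c) (hy2 : y * y = 1) (hp : p ≠ 1) {g : GLn}
    (hg : g ∈ S.K) (hgy : g * y = y * g) : Mon g := by
  classical
  obtain ⟨hp1, hc1⟩ := (hyp.mul hyp).unique (hy2.symm ▸ IsMono.one)
  have hpp : ∀ i, p (p i) = i := fun i => by rw [← Equiv.Perm.mul_apply, hp1]; rfl
  have hcc : ∀ i, c i * c (p i) = 1 := fun i => congrFun hc1 i
  obtain ⟨k, hk⟩ : ∃ k, p k ≠ k := by
    by_contra hc
    push Not at hc
    exact hp (Equiv.ext hc)
  obtain ⟨l, l', hll, hl, hl', hcl⟩ : ∃ l l', l ≠ l' ∧ p l = l ∧ p l' = l' ∧ c l = c l' := by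
    have hdet := det_mono S.hF (S.gu hy) hyp
    rw [S.det_one hy] at hdet
    subst hn
    set Fx := Finset.univ.filter fun i => p i = i with hFx
    have key : ∀ r : Equiv.Perm (Fin 6), (∀ i, r (r i) = i) → (∃ i, r i ≠ i) →
        ((Finset.univ.filter fun i => r i = i).card = 4) ∨
        ((Finset.univ.filter fun i => r i = i).card = 2 ∧ Equiv.Perm.sign r = 1) ∨
        ((Finset.univ.filter fun i => r i = i).card = 0 ∧ Equiv.Perm.sign r = -1) := by decide +kernel
    have hsq : ∀ i ∈ Fx, c i = 1 ∨ c i = -1 := fun i hi => by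
      simp only [hFx, Finset.mem_filter, Finset.mem_univ, true_and] at hi
      have := hcc i
      rw [hi] at this
      exact mul_self_eq_one_iff.1 this
    have hprod : ∏ i, c i = ∏ i ∈ Fx, c i := by
      rw [← Finset.prod_filter_mul_prod_filter_not Finset.univ (fun i => p i = i) c, hFx]
      suffices h : ∏ i ∈ Finset.univ.filter (fun i => ¬ p i = i), c i = 1 by rw [h, mul_one]
      refine Finset.prod_involution (fun i _ => p i) (fun i _ => hcc i) (fun i hi _ => (Finset.mem_filter.1 hi).2)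
        (fun i hi => ?_) fun i _ => hpp i
      simp only [Finset.mem_filter, Finset.mem_univ, true_and] at hi ⊢
      exact fun e => hi (p.injective e)
    have hmem : ∀ i, i ∈ Fx → p i = i := fun i hi => by
      simpa [hFx] using hi
    rcases key p hpp ⟨k, hk⟩ with h4 | ⟨h4, hs⟩ | ⟨h4, hs⟩
    · obtain ⟨x, hx, y', hy', hne, hxy⟩ : ∃ x ∈ Fx, ∃ y' ∈ Fx, x ≠ y' ∧ c x = c y' := by
        refine Finset.exists_ne_map_eq_of_card_lt_of_maps_to (t := ({1, -1} : Finset F)) ?_ ?_
        · have := Finset.card_le_two (a := (1 : F)) (b := -1)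
          have hFx4 : Fx.card = 4 := h4
          omega
        · intro i hi
          rcases hsq i hi with h | h <;> simp [h]
      exact ⟨x, y', hne, hmem x hx, hmem y' hy', hxy⟩
    · obtain ⟨x, y', hne, hxy⟩ := Finset.card_eq_two.1 h4
      rw [hs, hprod, hFx, hxy, Finset.prod_pair hne] at hdet
      have hxF : x ∈ Fx := by rw [hFx, hxy]; simp
      have hyF : y' ∈ Fx := by rw [hFx, hxy]; simp
      refine ⟨x, y', hne, hmem x hxF, hmem y' hyF, ?_⟩
      have hne0 : c y' * c y' = 1 := by have := hcc y'; rwa [hmem y' hyF] at this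
      push_cast at hdet
      linear_combination (-(c y')) * hdet - c x * hne0
    · rw [hs, hprod, hFx, Finset.card_eq_zero.1 h4, Finset.prod_empty] at hdet
      push_cast at hdet
      exact absurd (by linear_combination hdet) h2
  obtain ⟨e, heK, he⟩ := S.exists_eps (X := {k, p k}) (by rw [Finset.card_pair (Ne.symm hk)]; exact even_two)
  obtain ⟨t, htK, ht⟩ := S.exists_eps (X := {l, l'}) (by rw [Finset.card_pair hll]; exact even_two)
  have invA : ∀ {X : Finset (Fin n)} {z : GLn}, IsMono z 1 (sgn X : Vec) → (∀ i, p i ∈ X ↔ i ∈ X) →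
      y * z = z * y := fun {X z} hz hX => ext_bas fun i => by
    rw [(hyp.mul hz) i, (hz.mul hyp) i]
    simp [sgn, hX, mul_comm]
  have hye : y * e = e * y := invA he fun i => by
    simp only [Finset.mem_insert, Finset.mem_singleton]
    refine ⟨fun h => h.symm.imp (fun h => p.injective h) (fun h => ?_), fun h => ?_⟩
    · rw [← hpp i, h]
    · rcases h with rfl | rfl
      · exact Or.inr rfl
      · exact Or.inl (hpp _)
  have hyt : y * t = t * y := invA ht fun i => by
    simp only [Finset.mem_insert, Finset.mem_singleton]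
    refine ⟨fun h => ?_, fun h => ?_⟩
    · rcases h with h | h
      · exact Or.inl (p.injective (h.trans hl.symm))
      · exact Or.inr (p.injective (h.trans hl'.symm))
    · rcases h with rfl | rfl
      · exact Or.inl hl
      · exact Or.inr hl'
  refine S.mon_of_dihedral hS h3 h2 (Or.inl hn) (A := {k, p k}) (B := {l, l'}) ?_ ?_ ?_ ?_ hg he ht heK
    htK ?_ ?_ ?_ <;>
    first | (rw [Finset.card_pair (Ne.symm hk)]; first | exact even_two | omega) |
      (rw [Finset.card_pair hll]; first | exact even_two | omega) |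
      (rw [Finset.card_pair (Ne.symm hk), Finset.card_pair hll]; omega) | skip
  intro u hu hm heq
  obtain ⟨σ, b, hσ, hb⟩ := hm.exists_isMono
  have hcentral : ∀ z ∈ Subgroup.closure {e, g * t * g⁻¹}, Commute y z := fun z hz => by
    induction hz using Subgroup.closure_induction with
    | mem z hz =>
      simp only [Set.mem_insert_iff, Set.mem_singleton_iff] at hz
      rcases hz with rfl | rfl
      · exact hye
      · exact ((Commute.mul_right (show Commute y g from hgy.symm) hyt).mul_right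
          (show Commute y g from hgy.symm).inv_right)
    | one => exact Commute.one_right y
    | mul a b _ _ ha hb => exact ha.mul_right hb
    | inv a _ ha => exact ha.inv_right
  have huy : Commute y (u * g) := (hcentral u hu).mul_right hgy.symm
  have hperm := ((hyp.mul hσ).unique (huy.eq.symm ▸ hσ.mul hyp)).1
  have h1 := mono_transport hσ hb ht he heq l
  have h3' : σ l ∈ ({k, p k} : Finset (Fin n)) := (sgn_neg h2 _ _).1 (by rw [h1]; simp [sgn])
  have h4 : p (σ l) = σ l := by
    have := congrFun (congrArg DFunLike.coe hperm) l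
    simpa [hl] using this
  simp only [Finset.mem_insert, Finset.mem_singleton] at h3'
  rcases h3' with h | h <;> rw [h] at h4
  · exact hk h4
  · rw [hpp] at h4; exact hk h4.symm

/-- some non-monomial member fixes a frame vector -/
theorem goal_odd (h3 : 3 ≤ q) (h2 : (2 : F) ≠ 0) (hn : n = 6 ∨ 7 ≤ n) {g : GLn} (hg : g ∈ S.K) (hgm : ¬ Mon g) :
    S.Goal := by
  classical
  by_contra hS
  refine hgm ?_
  rcases hn with hn | hn
  swap
  · obtain ⟨A, -, hA⟩ := Finset.exists_subset_card_eq (s := (Finset.univ : Finset (Fin n))) (n := 4)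
      (by rw [Finset.card_univ, Fintype.card_fin]; omega)
    obtain ⟨B, -, hB⟩ := Finset.exists_subset_card_eq (s := (Finset.univ : Finset (Fin n))) (n := 2)
      (by rw [Finset.card_univ, Fintype.card_fin]; omega)
    obtain ⟨e, heK, he⟩ := S.exists_eps (X := A) (by rw [hA]; decide)
    obtain ⟨t, htK, ht⟩ := S.exists_eps (X := B) (by rw [hB]; decide)
    refine S.mon_of_dihedral hS h3 h2 (Or.inr hn) (by omega) (by omega)
      (by omega) (by omega) hg he ht heK htK (by omega) (by omega) fun u _ hm heq => ?_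
    have := mono_card hm ht he heq (-1)
    rw [card_sgn h2, card_sgn h2] at this
    omega
  subst hn
  have hn5 : 5 ≤ 6 := by omega
  obtain ⟨y, hyG, hy, hyd⟩ := exists_mono S.hF (Equiv.swap (0 : Fin 6) 1 * Equiv.swap 2 3) (fun _ => (1 : F))
    (fun _ => one_pow _)
  have hyK : y ∈ S.K := S.mem_mono hyG (by
    rw [hyd, map_mul, Equiv.Perm.sign_swap (by decide), Equiv.Perm.sign_swap (by decide)]; simp) hy.mon
  have hp : Equiv.swap (0 : Fin 6) 1 * Equiv.swap 2 3 ≠ 1 := by decide
  have hy2 : y * y = 1 := ext_bas fun i => by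
    rw [(hy.mul hy) i, act_one,
      show Equiv.swap (0 : Fin 6) 1 * Equiv.swap 2 3 * (Equiv.swap 0 1 * Equiv.swap 2 3) = 1 by decide]
    simp
  have not_diag : ∀ {w s : GL (Fin 6) F} {z : Fin 6 → F}, Mon w → IsMono s 1 z → w * s = y * w → False := by
    intro w s z hw hs he
    obtain ⟨σ, b, hσ, -⟩ := hw.exists_isMono
    have h := ((hσ.mul hs).unique (he.symm ▸ hy.mul hσ)).1
    rw [mul_one] at h
    exact hp (mul_eq_right.1 h.symm)
  obtain ⟨t, htK, ht⟩ := S.exists_eps (X := ({0, 1} : Finset (Fin 6))) (by decide)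
  have hneB : (sgn ({0, 1} : Finset (Fin 6)) 0 : F) ≠ sgn ({0, 1} : Finset (Fin 6)) 2 := by
    simp only [sgn, show (0 : Fin 6) ∈ ({0, 1} : Finset (Fin 6)) by decide,
      show ¬ (2 : Fin 6) ∈ ({0, 1} : Finset (Fin 6)) by decide, if_true, if_false]
    exact fun e => h2 (by linear_combination -e)
  set f := g * t * g⁻¹ with hf
  have hfK : f ∈ S.K := mul_mem (mul_mem hg htK) (inv_mem hg)
  have hf2 : f * f = 1 := by
    rw [hf, show g * t * g⁻¹ * (g * t * g⁻¹) = g * (t * t) * g⁻¹ by group, sq_eq_one ht]; group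
  rcases UnitFrame.dihedral hy2 hf2 with ⟨u, hu, hue⟩ | ⟨d, hdD, u, huD, hd2, hd1, hde, hdf, hu⟩
  · exfalso
    have heq : u * g * t = y * (u * g) := by rw [hue, hf]; group
    exact not_diag (S.mon_of_conj hS h3 h2 (Or.inl rfl) (mul_mem (S.dihedral_le hyK hfK hu) hg) htK ht
      (sgn_sq _) hneB hy.mon heq) ht heq
  have hdK := S.dihedral_le hyK hfK hdD
  have huK := S.dihedral_le hyK hfK huD
  have hdm : Mon d := S.mon_of_comm_six hS h3 h2 rfl hyK hy hy2 hp hdK hde
  set d' := g⁻¹ * d * g with hd'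
  have hd'K : d' ∈ S.K := mul_mem (mul_mem (inv_mem hg) hdK) hg
  have hd'2 : d' * d' = 1 := by
    rw [hd', show g⁻¹ * d * g * (g⁻¹ * d * g) = g⁻¹ * (d * d) * g by group, hd2]; group
  have hd'm : Mon d' := S.mon_of_comm hS hn5 h3 hd'K ht hneB (by
    rw [hd', show g⁻¹ * d * g * t = g⁻¹ * (d * f) * g by rw [hf]; group, hdf, hf]; group)
  have hgd : g * d' = d * g := by rw [hd']; group
  have invol : ∀ {z : GL (Fin 6) F} {x : Fin 6 → F}, IsMono z 1 x → z * z = 1 → ∀ i, x i * x i = 1 :=
    fun {z x} hz hz2 i => by simpa using congrFun ((hz.mul hz).unique (hz2.symm ▸ IsMono.one (n := 6) (F := F))).2 i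
  -- a scalar central involution is impossible
  have hscal : ∀ {x : Fin 6 → F}, IsMono d' 1 x → ¬ ∀ i, x i = x 0 := by
    intro x hx hconst
    rcases mul_self_eq_one_iff.1 (invol hx hd'2 0) with h1 | h1
    · refine hd1 ?_
      have : d' = 1 := ext_bas fun i => by rw [hx, hconst i, h1, one_smul, act_one]; rfl
      rw [show d = g * d' * g⁻¹ by rw [hd']; group, this]; group
    have hneg : IsMono (d' * t) 1 (fun i => -(sgn ({0, 1} : Finset (Fin 6)) i : F)) := fun i => by
      rw [(hx.mul ht) i]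
      simp [hconst i, h1]
    rcases hu with hu | hu
    · have hwK : g⁻¹ * u * g ∈ S.K := mul_mem (mul_mem (inv_mem hg) huK) hg
      have heq : g⁻¹ * u * g * t = d' * t * (g⁻¹ * u * g) := by
        calc g⁻¹ * u * g * t = g⁻¹ * (u * f * u⁻¹) * u * g := by rw [hf]; group
          _ = d' * t * (g⁻¹ * u * g) := by rw [hu, hd', hf]; group
      have h4 := mono_card (S.mon_of_conj hS h3 h2 (Or.inl rfl) hwK htK ht (sgn_sq _) hneB hneg.mon heq) ht hneg
        heq (-1)
      rw [card_sgn h2, card_neg_sgn h2] at h4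
      exact absurd h4 (by decide)
    · have hwK : u * g ∈ S.K := mul_mem huK hg
      have heq : u * g * (d' * t) = y * (u * g) := by rw [← hu, hd', hf]; group
      refine not_diag (S.mon_of_conj hS h3 h2 (Or.inl rfl) hwK (mul_mem hd'K htK) hneg (i₀ := 2) (i₁ := 0)
        (fun i => by rw [neg_mul_neg, sgn_sq]) (fun e => hneB (neg_injective e)) hy.mon heq) hneg heq
  obtain ⟨r, x, hx, -⟩ := hd'm.exists_isMono
  obtain ⟨r', x', hx', -⟩ := hdm.exists_isMono
  by_cases hr : r = 1
  · subst hr
    obtain ⟨i, hi⟩ : ∃ i, x i ≠ x 0 := by simpa using hscal hx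
    exact S.mon_of_conj hS h3 h2 (Or.inl rfl) hg hd'K hx (invol hx hd'2) hi hdm hgd
  by_cases hr' : r' = 1
  · subst hr'
    obtain ⟨i, hi⟩ : ∃ i, x' i ≠ x' 0 := by
      by_contra hc
      push Not at hc
      have : d' = d := by
        refine ext_bas fun i => ?_
        have hsc : ∀ v, act d v = x' 0 • v := fun v => funext fun j => by rw [hx'.eq_diag]; simp [hc j]
        rw [hd', act_mul, act_mul, hsc, act, mulVec_smul, ← act, act_inv_act, hsc]
      exact hscal (this ▸ hx') hc
    have := S.mon_of_conj hS h3 h2 (Or.inl rfl) (inv_mem hg) hdK hx' (invol hx' hd2) hi hd'm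
      (by rw [hd']; group)
    simpa using this.inv
  obtain ⟨k, hk⟩ : ∃ k, r k ≠ k := by
    by_contra hc
    push Not at hc
    exact hr (Equiv.ext hc)
  have hrr : ∀ i, r (r i) = i := fun i => by
    rw [← Equiv.Perm.mul_apply, ((hx.mul hx).unique (hd'2.symm ▸ IsMono.one)).1]; rfl
  obtain ⟨s, hsK, hs⟩ := S.exists_eps (X := {k, r k}) (by rw [Finset.card_pair (Ne.symm hk)]; exact even_two)
  have hsd : s * d' = d' * s := ext_bas fun i => by
    rw [(hs.mul hx) i, (hx.mul hs) i]
    have hiff : r i ∈ ({k, r k} : Finset (Fin 6)) ↔ i ∈ ({k, r k} : Finset (Fin 6)) := by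
      simp only [Finset.mem_insert, Finset.mem_singleton]
      refine ⟨fun h => h.symm.imp (fun h => r.injective h) (fun h => by rw [← hrr i, h]), fun h => ?_⟩
      rcases h with rfl | rfl
      · exact Or.inr rfl
      · exact Or.inl (hrr _)
    simp [sgn, hiff, mul_comm]
  have hxK : g * s * g⁻¹ ∈ S.K := mul_mem (mul_mem hg hsK) (inv_mem hg)
  have hxm : Mon (g * s * g⁻¹) := S.mon_of_comm_six hS h3 h2 rfl hdK hx' hd2 hr' hxK (by
    rw [show d = g * d' * g⁻¹ by rw [hd']; group,
      show g * s * g⁻¹ * (g * d' * g⁻¹) = g * (s * d') * g⁻¹ by group, hsd]; group)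
  obtain ⟨j, hj⟩ : ∃ j, j ∉ ({k, r k} : Finset (Fin 6)) := by
    by_contra hc
    push Not at hc
    have := Finset.card_le_card (s := (Finset.univ : Finset (Fin 6))) fun i _ => hc i
    rw [Finset.card_pair (Ne.symm hk)] at this
    simp at this
  refine S.mon_of_conj hS h3 h2 (Or.inl rfl) hg hsK hs (sgn_sq _) (i₀ := j) (i₁ := k) ?_ hxm (by group)
  simp only [sgn, hj, Finset.mem_insert_self, if_true, if_false]
  exact fun e => h2 (by linear_combination -e)

end Setup

end Cfsg.Agent.Forms.Max.HermFrame
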