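import Mathlib
import Cfsg.Agent.Lib.Forms.Max.HermFrame.Basic

/-!
# Quasi-reflections in vectors with few coordinates

From a non-monomial member fixing a frame vector, the quasi-reflections in all unit vectors with at most two
(three over four elements) coordinates are obtained, up to a compensating frame quasi-reflection.
-/

set_option autoImplicit false
set_option linter.unusedSectionVars false

namespace Cfsg.Agent.Forms.Max.HermFrame

open Matrix Cfsg.Agent.Classical.Unitary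

variable {F : Type*} [Field F] [Fintype F] {n q : ℕ}

local notation "Vec" => (Fin n → F)
local notation "GLn" => GL (Fin n) F
local notation "H" => Cfsg.hermForm n F q

/-- a permutation with three prescribed values and a fixed point -/
theorem exists_perm {i j k i' j' k' l : Fin n} (h₁ : i ≠ j) (h₂ : i ≠ k) (h₃ : j ≠ k) (h₁' : i' ≠ j')
    (h₂' : i' ≠ k') (h₃' : j' ≠ k') (hi : i ≠ l) (hj : j ≠ l) (hk : k ≠ l) (hi' : i' ≠ l) (hj' : j' ≠ l)
    (hk' : k' ≠ l) : ∃ p : Equiv.Perm (Fin n), p i = i' ∧ p j = j' ∧ p k = k' ∧ p l = l := by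
  classical
  set σ := Equiv.swap i i' with hσ
  set σ' := Equiv.swap (σ j) j' * σ with hσ'
  have ei : σ i = i' := Equiv.swap_apply_left _ _
  have el : σ l = l := Equiv.swap_apply_of_ne_of_ne (Ne.symm hi) (Ne.symm hi')
  have eji : σ j ≠ i' := fun e => h₁ (σ.injective (ei.trans e.symm))
  have ejl : σ j ≠ l := fun e => hj (σ.injective (e.trans el.symm))
  have ei' : σ' i = i' := by
    rw [hσ', Equiv.Perm.mul_apply, ei, Equiv.swap_apply_of_ne_of_ne (Ne.symm eji) h₁']
  have el' : σ' l = l := by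
    rw [hσ', Equiv.Perm.mul_apply, el, Equiv.swap_apply_of_ne_of_ne (Ne.symm ejl) (Ne.symm hj')]
  have ej' : σ' j = j' := by rw [hσ', Equiv.Perm.mul_apply, Equiv.swap_apply_left]
  have eki : σ' k ≠ i' := fun e => h₂ (σ'.injective (ei'.trans e.symm))
  have ekj : σ' k ≠ j' := fun e => h₃ (σ'.injective (ej'.trans e.symm))
  have ekl : σ' k ≠ l := fun e => hk (σ'.injective (e.trans el'.symm))
  refine ⟨Equiv.swap (σ' k) k' * σ', ?_, ?_, ?_, ?_⟩
  · rw [Equiv.Perm.mul_apply, ei', Equiv.swap_apply_of_ne_of_ne (Ne.symm eki) h₂']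
  · rw [Equiv.Perm.mul_apply, ej', Equiv.swap_apply_of_ne_of_ne (Ne.symm ekj) h₃']
  · rw [Equiv.Perm.mul_apply, Equiv.swap_apply_left]
  · rw [Equiv.Perm.mul_apply, el', Equiv.swap_apply_of_ne_of_ne (Ne.symm ekl) (Ne.symm hk')]

/-- the fixed field has at most `q` elements -/
theorem card_le_fix [DecidableEq F] (hF : Fintype.card F = q ^ 2) {s : Finset F} (h : ∀ x ∈ s, x ^ q = x) :
    s.card ≤ q := by
  classical
  have hq := HermStd.one_lt_q hF
  have h0 : (Polynomial.X ^ q - Polynomial.X : Polynomial F) ≠ 0 := FiniteField.X_pow_card_sub_X_ne_zero F hq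
  refine le_trans (Finset.card_le_card (t := (Polynomial.X ^ q - Polynomial.X : Polynomial F).roots.toFinset)
    fun x hx => ?_) ((Multiset.toFinset_card_le _).trans ((Polynomial.card_roots' _).trans
      (FiniteField.X_pow_card_sub_X_natDegree_eq F hq).le))
  rw [Multiset.mem_toFinset, Polynomial.mem_roots h0]
  simp [h x hx]

/-- the norm of one less than a scalar of norm one -/
def dist2 (a : F) : F := 2 - a - a⁻¹

section field

variable (hF : Fintype.card F = q ^ 2)
include hF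

theorem nrm_sub_one {a : F} (ha : a ^ (q + 1) = 1) : nrm q (a - 1) = dist2 a := by
  rw [nrm, ← HermStd.qHom_apply hF, map_sub, map_one, HermStd.qHom_apply, pow_q_eq_inv hF ha, dist2]
  have := mul_inv_cancel₀ (n1_ne_zero ha)
  linear_combination this

theorem dist2_fix {a : F} (ha : a ^ (q + 1) = 1) : dist2 a ^ q = dist2 a := by
  rw [← nrm_sub_one hF ha, nrm_conj hF]

theorem dist2_ne {a : F} (ha : a ^ (q + 1) = 1) (h1 : a ≠ 1) : dist2 a ≠ 0 := by
  rw [← nrm_sub_one hF ha, Ne, nrm_eq_zero, sub_eq_zero]; exact h1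

theorem nrm_one_add {a : F} (ha : a ^ (q + 1) = 1) {N : F} (hN : N ^ q = N) :
    nrm q (1 + (a - 1) * N) = 1 - N * (1 - N) * dist2 a := by
  rw [nrm, HermStd.add_pow_q hF, one_pow, mul_pow, hN, ← HermStd.qHom_apply hF, map_sub, map_one,
    HermStd.qHom_apply, pow_q_eq_inv hF ha, dist2]
  have := mul_inv_cancel₀ (n1_ne_zero ha)
  linear_combination N * N * this

theorem card_dist2 [DecidableEq F] {c : F} (hc : c ≠ 0) :
    q + 1 ≤ 2 * ((Finset.univ.filter fun a : F => a ^ (q + 1) = 1).image fun a => c * dist2 a).card ∧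
    q ≤ 2 * (((Finset.univ.filter fun a : F => a ^ (q + 1) = 1).erase 1).image fun a => c * dist2 a).card := by
  classical
  set μ := Finset.univ.filter fun a : F => a ^ (q + 1) = 1 with hμ
  have key : ∀ s : Finset F, s ⊆ μ → s.card ≤ 2 * (s.image fun a => c * dist2 a).card := by
    intro s hs
    refine Finset.card_le_mul_card_image _ 2 fun y hy => ?_
    obtain ⟨a, ha, rfl⟩ := Finset.mem_image.1 hy
    refine le_trans (Finset.card_le_card (t := ({a, a⁻¹} : Finset F)) fun b hb => ?_) Finset.card_le_two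
    obtain ⟨hb1, hb2⟩ := Finset.mem_filter.1 hb
    have h1 := (Finset.mem_filter.1 (hs hb1)).2
    have h2 := (Finset.mem_filter.1 (hs ha)).2
    have h3 := mul_left_cancel₀ hc hb2
    simp only [dist2] at h3
    simpa using trace_eq (n1_ne_zero h1) (n1_ne_zero h2) (by linear_combination -h3)
  have h := key μ Finset.Subset.rfl
  have h' := key (μ.erase 1) (Finset.erase_subset _ _)
  rw [show μ.card = q + 1 from card_n1 hF] at h
  rw [Finset.card_erase_of_mem (by simp [hμ]), show μ.card = q + 1 from card_n1 hF] at h'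
  exact ⟨h, by omega⟩

end field

theorem det_n1 (hF : Fintype.card F = q ^ 2) {u : GLn} (hu : u ∈ Cfsg.GU n F q) :
    (u : Matrix (Fin n) (Fin n) F).det ^ (q + 1) = 1 := HermStd.det_norm hF _ hu

namespace Setup

variable (S : Setup F n q)

/-- members of the full unitary group fixing a frame vector and lying in the subgroup after correcting the
determinant there -/
def L (l : Fin n) : Subgroup (GL (Fin n) F) where
  carrier := {u | u ∈ Cfsg.GU n F q ∧ act u (bas l) = bas l ∧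
    u * qr q (bas l) (u : Matrix (Fin n) (Fin n) F).det⁻¹ ∈ S.K}
  one_mem' := ⟨one_mem _, act_one _, by
    rw [one_mul, Units.val_one, Matrix.det_one, inv_one, qr_one S.hF (H_bas_self S.hF l)]; exact one_mem _⟩
  mul_mem' {u v} hu hv := by
    obtain ⟨huG, hul, huK⟩ := hu
    obtain ⟨hvG, hvl, hvK⟩ := hv
    have hun := n1_inv (det_n1 S.hF huG)
    have hvn := n1_inv (det_n1 S.hF hvG)
    refine ⟨mul_mem huG hvG, by rw [act_mul, hvl, hul], ?_⟩
    have hc : v * qr q (bas l) (u : Matrix (Fin n) (Fin n) F).det⁻¹ =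
        qr q (bas l) (u : Matrix (Fin n) (Fin n) F).det⁻¹ * v := by
      rw [← mul_inv_eq_iff_eq_mul, qr_conj S.hF (H_bas_self S.hF l) hun hvG, hvl]
    have h := mul_mem huK hvK
    rw [show u * qr q (bas l) (u : Matrix (Fin n) (Fin n) F).det⁻¹ *
        (v * qr q (bas l) (v : Matrix (Fin n) (Fin n) F).det⁻¹) =
        u * (qr q (bas l) (u : Matrix (Fin n) (Fin n) F).det⁻¹ * v) *
          qr q (bas l) (v : Matrix (Fin n) (Fin n) F).det⁻¹ by group, ← hc, ← mul_assoc, mul_assoc (u * v),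
      qr_mul S.hF (H_bas_self S.hF l) hun hvn, ← mul_inv] at h
    rw [Units.val_mul, det_mul]
    exact h
  inv_mem' {u} hu := by
    obtain ⟨huG, hul, huK⟩ := hu
    have hun := det_n1 S.hF huG
    have hl' : act u⁻¹ (bas l) = bas l := by conv_lhs => rw [← hul, act_inv_act]
    refine ⟨inv_mem huG, hl', ?_⟩
    have h := inv_mem huK
    rw [_root_.mul_inv_rev, qr_inv S.hF (H_bas_self S.hF l) (n1_inv hun), inv_inv,
      show qr q (bas l) (u : Matrix (Fin n) (Fin n) F).det * u⁻¹ =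
        u⁻¹ * qr q (bas l) (u : Matrix (Fin n) (Fin n) F).det by
        rw [eq_comm, ← mul_inv_eq_iff_eq_mul, qr_conj S.hF (H_bas_self S.hF l) hun (inv_mem huG), hl']] at h
    have hd : ((u⁻¹ : GLn) : Matrix (Fin n) (Fin n) F).det = (u : Matrix (Fin n) (Fin n) F).det⁻¹ := by
      refine eq_inv_of_mul_eq_one_left ?_
      rw [← det_mul, ← Units.val_mul, inv_mul_cancel, Units.val_one, Matrix.det_one]
    rw [hd, inv_inv]
    exact h

variable {l : Fin n}

theorem mono_L {g : GLn} (hg : g ∈ Cfsg.GU n F q) {p : Equiv.Perm (Fin n)} {a : Vec} (h : IsMono g p a)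
    (hp : p l = l) (ha : a l = 1) : g ∈ S.L l := by
  refine ⟨hg, by rw [h, hp, ha, one_smul], S.mem_mono (mul_mem hg (qr_mem S.hF (H_bas_self S.hF l)
    (n1_inv (det_n1 S.hF hg)))) ?_
    (h.mon.mul (qr_bas S.hF l (n1_inv (det_n1 S.hF hg))).mon)⟩
  rw [Units.val_mul, det_mul, det_qr S.hF (H_bas_self S.hF l) (n1_inv (det_n1 S.hF hg)),
    mul_inv_cancel₀ (n1_ne_zero (det_n1 S.hF hg))]

/-- images of frame vectors under those members -/
def R (l : Fin n) (x : Fin n → F) : Prop := ∃ u ∈ S.L l, ∃ i, i ≠ l ∧ x = act u (bas i)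

theorem R.bas {i : Fin n} (hi : i ≠ l) : S.R l (bas i) := ⟨1, one_mem _, i, hi, (act_one _).symm⟩

theorem R.unit {x : Vec} (hx : S.R l x) : H x x = 1 := by
  obtain ⟨u, hu, i, -, rfl⟩ := hx
  rw [GU_act hu.1, H_bas_self S.hF]

theorem R.zero {x : Vec} (hx : S.R l x) : x l = 0 := by
  obtain ⟨u, hu, i, hi, rfl⟩ := hx
  rw [← H_bas_right S.hF (act u (HermFrame.bas i)) l]
  conv_lhs => rw [← hu.2.1]
  rw [GU_act hu.1, H_bas S.hF, if_neg hi]

theorem R.map {x : Vec} (hx : S.R l x) {u : GLn} (hu : u ∈ S.L l) : S.R l (act u x) := by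
  obtain ⟨v, hv, i, hi, rfl⟩ := hx
  exact ⟨u * v, mul_mem hu hv, i, hi, (act_mul u v _).symm⟩

theorem R.qr {x : Vec} (hx : S.R l x) {a : F} (ha : a ^ (q + 1) = 1) : qr q x a ∈ S.L l := by
  obtain ⟨u, hu, i, hi, rfl⟩ := hx
  rw [← qr_conj S.hF (H_bas_self S.hF i) ha hu.1]
  refine mul_mem (mul_mem hu (S.mono_L (qr_mem S.hF (H_bas_self S.hF i) ha) (qr_bas S.hF i ha) rfl ?_)) (inv_mem hu)
  rw [Function.update_of_ne (Ne.symm hi)]

/-- one coordinate is removed inside the plane with a frame vector -/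
theorem plane {x : Vec} (hx : S.R l x) {k : Fin n} (hkl : k ≠ l) (hk : x k ≠ 0) (hN : nrm q (x k) ≠ 1) :
    ∃ y t, S.R l y ∧ y k = 0 ∧ t ≠ 0 ∧ ∀ m, m ≠ k → y m = t * x m := by
  classical
  have hxx := hx.unit S
  set N := nrm q (x k) with hNdef
  have hNfix : N ^ q = N := nrm_conj S.hF _
  set κ := N * (1 - N) with hκ
  have hκ0 : κ ≠ 0 := mul_ne_zero (fun e => hk (nrm_eq_zero.1 e)) (sub_ne_zero.2 (Ne.symm hN))
  have hκfix : κ ^ q = κ := by rw [← HermStd.qHom_apply S.hF, hκ, map_mul, map_sub, map_one, HermStd.qHom_apply, hNfix]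
  have hXX : x k ^ q * x k = N := mul_comm _ _
  have finish : ∀ y : Vec, S.R l y → y k = 0 → (∃ t, ∀ m, m ≠ k → y m = t * x m) →
      ∃ y t, S.R l y ∧ y k = 0 ∧ t ≠ 0 ∧ ∀ m, m ≠ k → y m = t * x m := by
    rintro y hy hyk ⟨t, ht⟩
    refine ⟨y, t, hy, hyk, fun h0 => ?_, ht⟩
    have hy0 : y = 0 := funext fun m => by
      by_cases hm : m = k
      · rw [hm, hyk]; rfl
      · rw [ht m hm, h0, zero_mul]; rfl
    have := hy.unit S
    rw [hy0, H_zero_left] at this
    exact zero_ne_one this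
  have single : ∀ a, a ^ (q + 1) = 1 → κ * dist2 a = 1 →
      ∃ y t, S.R l y ∧ y k = 0 ∧ t ≠ 0 ∧ ∀ m, m ≠ k → y m = t * x m := by
    intro a ha hka
    refine finish _ ((R.bas S hkl).map S (hx.qr S ha)) ?_ ⟨(a - 1) * x k ^ q, fun m hm => ?_⟩
    · rw [act_qr S.hF hxx ha, H_bas_left S.hF, Pi.add_apply, Pi.smul_apply, bas_self, smul_eq_mul, mul_assoc, hXX]
      refine nrm_eq_zero (q := q).1 ?_
      rw [nrm_one_add S.hF ha hNfix, ← hκ, hka, sub_self]
    · rw [act_qr S.hF hxx ha, H_bas_left S.hF, Pi.add_apply, Pi.smul_apply, bas_ne hm, smul_eq_mul, zero_add]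
  -- two admissible values with sum one
  set μ := Finset.univ.filter fun a : F => a ^ (q + 1) = 1 with hμ
  set A := μ.image fun a => κ * dist2 a with hA
  have hA2 : (A.image fun z => 1 - z).card = A.card := Finset.card_image_of_injective _ sub_right_injective
  have hfix : ∀ z ∈ A ∪ A.image (fun z => 1 - z), z ^ q = z := by
    intro z hz
    have key : ∀ z ∈ A, z ^ q = z := fun z hz => by
      obtain ⟨a, ha, rfl⟩ := Finset.mem_image.1 hz
      rw [mul_pow, hκfix, dist2_fix S.hF (Finset.mem_filter.1 ha).2]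
    rcases Finset.mem_union.1 hz with h | h
    · exact key z h
    · obtain ⟨w, hw, rfl⟩ := Finset.mem_image.1 h
      rw [← HermStd.qHom_apply S.hF, map_sub, map_one, HermStd.qHom_apply, key w hw]
  have c1 : q + 1 ≤ 2 * A.card := (card_dist2 S.hF hκ0).1
  have c2 := card_le_fix S.hF hfix
  have c3 := Finset.card_union_add_card_inter A (A.image fun z => 1 - z)
  obtain ⟨z, hz⟩ := Finset.card_pos.1 (show 0 < (A ∩ A.image fun z => 1 - z).card by omega)
  rw [Finset.mem_inter] at hz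
  obtain ⟨a₁, ha₁, rfl⟩ := Finset.mem_image.1 hz.1
  obtain ⟨w, hw, hsum⟩ := Finset.mem_image.1 hz.2
  obtain ⟨a₃, ha₃, rfl⟩ := Finset.mem_image.1 hw
  simp only [hμ, Finset.mem_filter, Finset.mem_univ, true_and] at ha₁ ha₃
  by_cases h1 : κ * dist2 a₁ = 1
  · exact single a₁ ha₁ h1
  by_cases h3 : κ * dist2 a₃ = 1
  · exact single a₃ ha₃ h3
  set u₁ := 1 + (a₁ - 1) * N with hu₁
  set u₃ := 1 + (a₃ - 1) * N with hu₃
  have hn1 : nrm q u₁ = 1 - κ * dist2 a₁ := nrm_one_add S.hF ha₁ hNfix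
  have hn3 : nrm q u₃ = 1 - κ * dist2 a₃ := nrm_one_add S.hF ha₃ hNfix
  have hu1 : u₁ ≠ 0 := fun e => h1 (by rw [e, nrm, zero_mul] at hn1; linear_combination hn1)
  have hu3 : u₃ ≠ 0 := fun e => h3 (by rw [e, nrm, zero_mul] at hn3; linear_combination hn3)
  set b := -(κ * (a₁ - 1) * (a₃ - 1)) / (u₁ * u₃) with hb
  have hb1 : b ^ (q + 1) = 1 := by
    have hκn : nrm q κ = κ * κ := by rw [nrm, hκfix]
    rw [← nrm_eq, hb, nrm_div, neg_eq_neg_one_mul, nrm_mul (-1 : F), nrm_mul (κ * (a₁ - 1)),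
      nrm_mul κ (a₁ - 1), nrm_mul u₁ u₃, nrm_eq (-1 : F),
      n1_neg_one S.hF, one_mul, hκn, nrm_sub_one S.hF ha₁, nrm_sub_one S.hF ha₃, hn1, hn3,
      div_eq_one_iff_eq (mul_ne_zero (sub_ne_zero.2 (Ne.symm h1)) (sub_ne_zero.2 (Ne.symm h3)))]
    linear_combination -hsum
  have hbub : b * (u₁ * u₃) = -(κ * (a₁ - 1) * (a₃ - 1)) := div_mul_cancel₀ _ (mul_ne_zero hu1 hu3)
  have hke := H_bas_self S.hF (q := q) k
  have hH : act (qr q x a₁) (act (qr q (bas k) b) (act (qr q x a₃) (bas k))) =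
      (bas k + ((b - 1) * u₃) • bas k) + ((a₃ - 1) * x k ^ q + (a₁ - 1) * (x k ^ q * (1 + (a₃ - 1) + (b - 1) * u₃))) • x := by
    rw [act_qr S.hF hxx ha₃, H_bas_left S.hF, act_qr S.hF hke hb1, act_qr S.hF hxx ha₁]
    simp only [H_add_left, H_smul_left, H_bas_right S.hF, H_bas_left S.hF, Pi.add_apply, Pi.smul_apply, bas_self,
      hxx, smul_eq_mul]
    rw [show 1 + (a₃ - 1) * x k ^ q * x k = u₃ by rw [hu₃, mul_assoc, hXX]]
    module
  refine finish _ ((((R.bas S hkl).map S (hx.qr S ha₃)).map S ((R.bas S hkl).qr S hb1)).map S (hx.qr S ha₁)) ?_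
    ⟨(a₃ - 1) * x k ^ q + (a₁ - 1) * (x k ^ q * (1 + (a₃ - 1) + (b - 1) * u₃)), fun m hm => ?_⟩
  · rw [hH, Pi.add_apply, Pi.add_apply, Pi.smul_apply, Pi.smul_apply, bas_self, smul_eq_mul, smul_eq_mul, mul_one]
    rw [hu₁, hu₃, hκ] at hbub
    rw [hu₃]
    linear_combination hbub + ((a₃ - 1) + (a₁ - 1) * (1 + (a₃ - 1) + (b - 1) * (1 + (a₃ - 1) * N))) * hXX
  · rw [hH, Pi.add_apply, Pi.add_apply, Pi.smul_apply, Pi.smul_apply, bas_ne hm, smul_eq_mul, smul_eq_mul,
      mul_zero, add_zero, zero_add]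

/-- a member with two coordinates -/
theorem exists_two (h3 : 3 ≤ q) {x : Vec} (hx : S.R l x) (hc : 2 ≤ (supp x).card) :
    ∃ y, S.R l y ∧ (supp y).card = 2 := by
  classical
  induction hw : (supp x).card using Nat.strong_induction_on generalizing x with
  | _ w ih =>
    by_cases h2 : w = 2
    · exact ⟨x, hx, hw.trans h2⟩
    have hne_l : ∀ k ∈ supp x, k ≠ l := fun k hk e => mem_supp.1 hk (e ▸ hx.zero S)
    have reduce : ∀ z, S.R l z → (supp z).card = w → (∃ k ∈ supp z, nrm q (z k) ≠ 1) →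
        ∃ y, S.R l y ∧ (supp y).card = 2 := by
      intro z hz hzw hk
      obtain ⟨k, hk, hN⟩ := hk
      obtain ⟨y, t, hy, hyk, ht, hym⟩ :=
        S.plane hz (fun e => mem_supp.1 hk (by rw [e]; exact hz.zero S)) (mem_supp.1 hk) hN
      have hs : supp y = (supp z).erase k := by
        ext m
        rw [mem_supp, Finset.mem_erase, mem_supp]
        by_cases hm : m = k
        · simp [hm, hyk]
        · simp [hm, hym m hm, ht]
      exact ih _ (by rw [hs, Finset.card_erase_of_mem hk, hzw]; omega) hy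
        (by rw [hs, Finset.card_erase_of_mem hk, hzw]; omega) rfl
    by_cases hex : ∃ k ∈ supp x, nrm q (x k) ≠ 1
    · exact reduce x hx hw hex
    push Not at hex
    obtain ⟨m, hm⟩ := Finset.card_pos.1 (show 0 < (supp x).card by omega)
    obtain ⟨a, ha, ha1, htr⟩ := exists_trace_avoid S.hF h3 1
    set z := act (HermFrame.qr q x a) (bas m) with hzdef
    have hzR : S.R l z := (R.bas S (hne_l m hm)).map S (hx.qr S ha)
    have hzv : ∀ i, i ≠ m → z i = (a - 1) * x m ^ q * x i := fun i hi => by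
      rw [hzdef, act_qr S.hF (hx.unit S) ha, H_bas_left S.hF, Pi.add_apply, Pi.smul_apply, bas_ne hi, zero_add,
        smul_eq_mul]
    have hsub : supp z ⊆ supp x := fun i hi => by
      by_cases him : i = m
      · exact him ▸ hm
      · rw [mem_supp, hzv i him] at hi
        exact mem_supp.2 (right_ne_zero_of_mul hi)
    have hsup : (supp x).erase m ⊆ supp z := fun i hi => by
      rw [Finset.mem_erase] at hi
      rw [mem_supp, hzv i hi.1]
      exact mul_ne_zero (mul_ne_zero (sub_ne_zero.2 ha1) (pow_ne_zero _ (mem_supp.1 hm))) (mem_supp.1 hi.2)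
    have hle := Finset.card_le_card hsup
    rw [Finset.card_erase_of_mem hm] at hle
    rcases lt_or_eq_of_le ((Finset.card_le_card hsub).trans_eq hw) with hlt | heq
    · exact ih _ hlt hzR (by omega) rfl
    obtain ⟨i, hi⟩ := Finset.card_pos.1 (show 0 < ((supp x).erase m).card by
      rw [Finset.card_erase_of_mem hm]; omega)
    refine reduce z hzR heq ⟨i, hsup hi, ?_⟩
    rw [Finset.mem_erase] at hi
    have hm1 := hex m hm
    rw [hzv i hi.1, nrm_mul, nrm_mul, nrm_sub_one S.hF ha, hex i hi.2, nrm_eq (x m ^ q), ← pow_mul, mul_comm q,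
      pow_mul, ← nrm_eq (x m), hm1, one_pow, mul_one, mul_one, dist2]
    exact fun e => htr (by linear_combination -e)

/-- a ratio of the norms of a member with two coordinates -/
def Rat (l : Fin n) (ρ : F) : Prop :=
  ρ ≠ 0 ∧ ∀ i j : Fin n, i ≠ j → i ≠ l → j ≠ l → ∀ x : Fin n → F, Cfsg.hermForm n F q x x = 1 →
    supp x ⊆ {i, j} → nrm q (x j) = ρ * nrm q (x i) → S.R l x

include S in
theorem sum_two {x : Vec} {i j : Fin n} (hij : i ≠ j) (h : supp x ⊆ {i, j}) :
    H x x = nrm q (x i) + nrm q (x j) := by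
  classical
  rw [H_self_supp, Finset.sum_subset h fun m _ hm => by rw [not_mem_supp.1 hm, nrm, zero_mul],
    Finset.sum_pair hij]

theorem rat_of_mem {x : Vec} (hx : S.R l x) {i j : Fin n} (hij : i ≠ j) (hs : supp x = {i, j})
    (hn : 4 ≤ n) : S.Rat l (nrm q (x j) / nrm q (x i)) := by
  classical
  have hi : x i ≠ 0 := mem_supp.1 (hs ▸ by simp)
  have hj : x j ≠ 0 := mem_supp.1 (hs ▸ by simp)
  have hil : i ≠ l := fun e => hi (e ▸ hx.zero S)
  have hjl : j ≠ l := fun e => hj (e ▸ hx.zero S)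
  have hNi : nrm q (x i) ≠ 0 := fun e => hi (nrm_eq_zero.1 e)
  refine ⟨div_ne_zero (fun e => hj (nrm_eq_zero.1 e)) hNi, fun i' j' hij' hi' hj' y hy hsy hyr => ?_⟩
  have hyy := S.sum_two hij' hsy
  have hxx := S.sum_two hij (hs.le)
  rw [hy, hyr] at hyy
  rw [hx.unit S] at hxx
  have e1 : nrm q (y i') = nrm q (x i) := by
    field_simp at hyy
    linear_combination -hyy + nrm q (y i') * hxx
  have e2 : nrm q (y j') = nrm q (x j) := by
    rw [hyr, e1, div_mul_cancel₀ _ hNi]
  obtain ⟨k, hk⟩ : ∃ k, k ≠ i ∧ k ≠ j ∧ k ≠ l := by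
    by_contra hc
    push Not at hc
    have := Finset.card_le_card (s := (Finset.univ : Finset (Fin n))) (t := {i, j, l}) fun k _ => by
      by_cases a : k = i <;> by_cases b : k = j <;> simp [a, b]
      exact hc k a b
    have := Finset.card_le_three (a := i) (b := j) (c := l)
    rw [Finset.card_univ, Fintype.card_fin] at *
    omega
  obtain ⟨k', hk'⟩ : ∃ k, k ≠ i' ∧ k ≠ j' ∧ k ≠ l := by
    by_contra hc
    push Not at hc
    have := Finset.card_le_card (s := (Finset.univ : Finset (Fin n))) (t := {i', j', l}) fun k _ => by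
      by_cases a : k = i' <;> by_cases b : k = j' <;> simp [a, b]
      exact hc k a b
    have := Finset.card_le_three (a := i') (b := j') (c := l)
    rw [Finset.card_univ, Fintype.card_fin] at *
    omega
  obtain ⟨p, hpi, hpj, -, hpl⟩ := exists_perm hij (Ne.symm hk.1) (Ne.symm hk.2.1) hij' (Ne.symm hk'.1)
    (Ne.symm hk'.2.1) hil hjl hk.2.2 hi' hj' hk'.2.2
  set c : Vec := fun m => if m = i then y i' / x i else if m = j then y j' / x j else 1 with hc
  have hc1 : ∀ m, c m ^ (q + 1) = 1 := fun m => by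
    rw [← nrm_eq]; simp only [hc]; split_ifs
    · rw [nrm_div, e1, div_self hNi]
    · rw [nrm_div, e2, div_self (fun e => hj (nrm_eq_zero.1 e))]
    · rw [nrm_eq, one_pow]
  obtain ⟨g, hg, hgm, -⟩ := exists_mono S.hF p c hc1
  have hgx : act g x = y := funext fun m => by
    rw [hgm.apply]
    by_cases h1 : m = i'
    · subst h1
      have : p.symm m = i := by rw [← hpi]; simp
      rw [this]
      simp [hc, hi]
    by_cases h2 : m = j'
    · subst h2
      have : p.symm m = j := by rw [← hpj]; simp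
      rw [this]
      simp [hc, Ne.symm hij, hj]
    · have hnotin : p.symm m ∉ supp x := by
        rw [hs]
        simp only [Finset.mem_insert, Finset.mem_singleton, not_or]
        exact ⟨fun e => h1 (by rw [← hpi, ← e, p.apply_symm_apply]), fun e => h2 (by rw [← hpj, ← e, p.apply_symm_apply])⟩
      rw [not_mem_supp.1 hnotin, mul_zero]
      exact (not_mem_supp.1 fun h => by simpa [h1, h2] using hsy h).symm
  exact hgx ▸ hx.map S (S.mono_L hg hgm hpl (by simp [hc, Ne.symm hil, Ne.symm hjl]))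

include S in
theorem exists_rat_vec {ρ : F} (hρ : ρ ^ q = ρ) (hρ1 : ρ ≠ -1) {i j : Fin n} (hij : i ≠ j) :
    ∃ x : Fin n → F, Cfsg.hermForm n F q x x = 1 ∧ supp x ⊆ {i, j} ∧ nrm q (x j) = ρ * nrm q (x i) := by
  classical
  have h1 : 1 + ρ ≠ 0 := fun e => hρ1 (eq_neg_of_add_eq_zero_right e)
  obtain ⟨c, hc⟩ := Unitary.exists_norm S.hF (d := 1 / (1 + ρ)) (by
    rw [← HermStd.qHom_apply S.hF, map_div₀, map_add, map_one, HermStd.qHom_apply, hρ])
  obtain ⟨d, hd⟩ := Unitary.exists_norm S.hF (d := ρ / (1 + ρ)) (by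
    rw [← HermStd.qHom_apply S.hF, map_div₀, map_add, map_one, HermStd.qHom_apply, hρ])
  refine ⟨fun m => if m = i then c else if m = j then d else 0, ?_, fun m hm => ?_, ?_⟩
  · rw [S.sum_two hij (fun m hm => ?_)]
    · simp only [if_true, Ne.symm hij, if_false, nrm]
      rw [mul_comm c, hc, mul_comm d, hd, ← add_div, div_self h1]
    · rw [mem_supp] at hm
      by_cases a : m = i <;> by_cases b : m = j <;> simp_all
  · rw [mem_supp] at hm
    by_cases a : m = i <;> by_cases b : m = j <;> simp_all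
  · simp only [if_true, Ne.symm hij, if_false, nrm]
    rw [mul_comm c, hc, mul_comm d, hd]
    ring

/-- ratios multiply -/
theorem rat_step (hn : 4 ≤ n) {ρ ρ₀ a : F} (hρ : S.Rat l ρ) (hρ₀ : S.Rat l ρ₀) (hf : ρ ^ q = ρ) (hf₀ : ρ₀ ^ q = ρ₀)
    (h1 : ρ ≠ -1) (h₀ : ρ₀ ≠ -1) (ha : a ^ (q + 1) = 1) (ha1 : a ≠ 1)
    (hnew : ρ * (ρ₀ / (1 + ρ₀) ^ 2 * dist2 a) ≠ -1) : S.Rat l (ρ * (ρ₀ / (1 + ρ₀) ^ 2 * dist2 a)) := by
  classical
  obtain ⟨i, j, k, hij, hik, hjk, hil, hjl, hkl⟩ : ∃ i j k : Fin n, i ≠ j ∧ i ≠ k ∧ j ≠ k ∧ i ≠ l ∧ j ≠ l ∧ k ≠ l := by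
    obtain ⟨i, hi, j, hj, k, hk, h1, h2, h3⟩ := Finset.two_lt_card.1 (show 2 < (Finset.univ.erase l).card by
      rw [Finset.card_erase_of_mem (Finset.mem_univ l), Finset.card_univ, Fintype.card_fin]; omega)
    exact ⟨i, j, k, h1, h2, h3, (Finset.mem_erase.1 hi).1, (Finset.mem_erase.1 hj).1, (Finset.mem_erase.1 hk).1⟩
  obtain ⟨x, hx, hxs, hxr⟩ := S.exists_rat_vec hf h1 hij
  obtain ⟨z, hz, hzs, hzr⟩ := S.exists_rat_vec hf₀ h₀ hjk
  have hxR := hρ.2 i j hij hil hjl x hx hxs hxr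
  have hzR := hρ₀.2 j k hjk hjl hkl z hz hzs hzr
  have hxx := S.sum_two hij hxs
  have hzz := S.sum_two hjk hzs
  rw [hx, hxr] at hxx
  rw [hz, hzr] at hzz
  have hxi : x i ≠ 0 := fun e => one_ne_zero (α := F) (by rw [hxx, e, nrm, zero_mul, mul_zero, add_zero])
  have hzj : z j ≠ 0 := fun e => one_ne_zero (α := F) (by rw [hzz, e, nrm, zero_mul, mul_zero, add_zero])
  have hxj : x j ≠ 0 := fun e => mul_ne_zero hρ.1 (fun h => hxi (nrm_eq_zero.1 h)) (by rw [← hxr, e, nrm, zero_mul])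
  have hzk : z k ≠ 0 := fun e => mul_ne_zero hρ₀.1 (fun h => hzj (nrm_eq_zero.1 h)) (by rw [← hzr, e, nrm, zero_mul])
  have hxk : x k = 0 := not_mem_supp.1 fun h => by simpa [Ne.symm hik, Ne.symm hjk] using hxs h
  have hzi : z i = 0 := not_mem_supp.1 fun h => by simpa [hij, hik] using hzs h
  have hHxz : H x z = x j * z j ^ q := by
    rw [Cfsg.hermForm, Finset.sum_eq_single j (fun m _ hm => ?_) fun h => absurd (Finset.mem_univ j) h]
    by_cases hmk : m = k
    · rw [hmk, hxk, zero_mul]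
    · rw [not_mem_supp.1 fun h : m ∈ supp z => by simpa [hm, hmk] using hzs h, zero_pow (q_ne_zero S.hF), mul_zero]
  set y := act (HermFrame.qr q z a) x with hy
  have hyR : S.R l y := hxR.map S (hzR.qr S ha)
  have hyv : ∀ m, y m = x m + (a - 1) * (x j * z j ^ q) * z m := fun m => by
    rw [hy, act_qr S.hF hz ha, hHxz]; rfl
  have hyi : y i = x i := by rw [hyv, hzi, mul_zero, add_zero]
  have hyj : y j = x j * (1 + (a - 1) * nrm q (z j)) := by rw [hyv, nrm]; ring
  have hyk : y k = (a - 1) * (x j * z j ^ q) * z k := by rw [hyv, hxk, zero_add]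
  set κ := ρ₀ / (1 + ρ₀) ^ 2 with hκ
  have h1ρ : 1 + ρ₀ ≠ 0 := fun e => h₀ (eq_neg_of_add_eq_zero_right e)
  have hnzj : nrm q (z j) = 1 / (1 + ρ₀) := by field_simp; linear_combination -hzz
  have hκ' : nrm q (z j) * (1 - nrm q (z j)) = κ := by rw [hnzj, hκ]; field_simp; ring
  have hnk : nrm q (y k) = ρ * nrm q (x i) * (κ * dist2 a) := by
    have hzq : nrm q (z j ^ q) = nrm q (z j) := by rw [nrm, pow_qq S.hF, mul_comm]; rfl
    rw [hyk, nrm_mul, nrm_mul, nrm_mul, nrm_sub_one S.hF ha, hxr, hzr, hzq, ← hκ', hnzj]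
    field_simp
    ring
  have hnj : nrm q (y j) = ρ * nrm q (x i) * (1 - κ * dist2 a) := by
    rw [hyj, nrm_mul, nrm_one_add S.hF ha (nrm_conj S.hF _), hκ', hxr]
  have hys : supp y ⊆ {i, j, k} := fun m hm => by
    rw [mem_supp, hyv] at hm
    by_contra hc
    simp only [Finset.mem_insert, Finset.mem_singleton, not_or] at hc
    have e1 : x m = 0 := not_mem_supp.1 fun h => by simpa [hc.1, hc.2.1] using hxs h
    have e2 : z m = 0 := not_mem_supp.1 fun h => by simpa [hc.2.1, hc.2.2] using hzs h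
    exact hm (by rw [e1, e2, mul_zero, add_zero])
  have hyk0 : y k ≠ 0 := by
    rw [hyk]; exact mul_ne_zero (mul_ne_zero (sub_ne_zero.2 ha1) (mul_ne_zero hxj (pow_ne_zero _ hzj))) hzk
  have hNi : nrm q (x i) ≠ 0 := fun h => hxi (nrm_eq_zero.1 h)
  by_cases hyj0 : y j = 0
  · have hs : supp y = {i, k} := by
      refine Finset.Subset.antisymm (fun m hm => ?_) fun m hm => ?_
      · have := hys hm
        simp only [Finset.mem_insert, Finset.mem_singleton] at this ⊢
        rcases this with h | h | h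
        exacts [Or.inl h, absurd hyj0 (h ▸ mem_supp.1 hm), Or.inr h]
      · simp only [Finset.mem_insert, Finset.mem_singleton] at hm
        rcases hm with rfl | rfl
        exacts [mem_supp.2 (hyi ▸ hxi), mem_supp.2 hyk0]
    have := S.rat_of_mem hyR hik hs hn
    rwa [hnk, hyi, mul_comm (ρ * nrm q (x i)), ← mul_assoc, mul_div_assoc, div_self hNi, mul_one, mul_comm] at this
  · obtain ⟨w, t, hw, hwj, ht, hwm⟩ := S.plane hyR hjl hyj0 fun e => hnew (by
      rw [hnj] at e
      have : nrm q (x i) * (1 + ρ * (κ * dist2 a)) = 0 := by linear_combination -hxx - e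
      exact eq_neg_of_add_eq_zero_right ((mul_eq_zero.1 this).resolve_left hNi))
    have hs : supp w = {i, k} := by
      refine Finset.Subset.antisymm (fun m hm => ?_) fun m hm => ?_
      · have hmj : m ≠ j := fun e => mem_supp.1 hm (e ▸ hwj)
        have := hys (mem_supp.2 (right_ne_zero_of_mul (hwm m hmj ▸ mem_supp.1 hm)))
        simp only [Finset.mem_insert, Finset.mem_singleton] at this ⊢
        rcases this with h | h | h
        exacts [Or.inl h, absurd h hmj, Or.inr h]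
      · simp only [Finset.mem_insert, Finset.mem_singleton] at hm
        rcases hm with rfl | rfl
        · exact mem_supp.2 (by rw [hwm _ hij, hyi]; exact mul_ne_zero ht hxi)
        · exact mem_supp.2 (by rw [hwm _ (Ne.symm hjk)]; exact mul_ne_zero ht hyk0)
    have := S.rat_of_mem hw hik hs hn
    have hnt : nrm q t ≠ 0 := fun h => ht (nrm_eq_zero.1 h)
    rwa [hwm i hij, hwm k (Ne.symm hjk), nrm_mul, nrm_mul, hnk, hyi, mul_div_mul_left _ _ hnt,
      mul_comm (ρ * nrm q (x i)), ← mul_assoc, mul_div_assoc, div_self hNi, mul_one, mul_comm] at this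

theorem rat_inv {ρ : F} (hρ : S.Rat l ρ) : S.Rat l ρ⁻¹ :=
  ⟨inv_ne_zero hρ.1, fun i j hij hi hj x hx hs hr => hρ.2 j i (Ne.symm hij) hj hi x hx
    (by rwa [Finset.pair_comm]) (by rw [hr, ← mul_assoc, mul_inv_cancel₀ hρ.1, one_mul])⟩

/-- every ratio occurs -/
theorem rat_all (h3 : 3 ≤ q) (hn : 4 ≤ n) {x : Vec} (hx : S.R l x) (hc : 2 ≤ (supp x).card) {T : F}
    (hT : T ^ q = T) (hT0 : T ≠ 0) (hT1 : T ≠ -1) : S.Rat l T := by
  classical
  obtain ⟨x, hx, hc⟩ := S.exists_two h3 hx hc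
  obtain ⟨i, j, hij, hs⟩ := Finset.card_eq_two.1 hc
  have hi : x i ≠ 0 := mem_supp.1 (hs ▸ by simp)
  have hρ := S.rat_of_mem hx hij hs hn
  set ρ := nrm q (x j) / nrm q (x i) with hρd
  have hf : ρ ^ q = ρ := by rw [hρd, div_pow, nrm_conj S.hF, nrm_conj S.hF]
  have hρ1 : ρ ≠ -1 := fun e => by
    have hxx := S.sum_two hij hs.le
    rw [hx.unit S, show nrm q (x j) = ρ * nrm q (x i) by
      rw [hρd, div_mul_cancel₀ _ (fun h => hi (nrm_eq_zero.1 h))], e] at hxx
    exact one_ne_zero (α := F) (by linear_combination hxx)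
  set κ := ρ / (1 + ρ) ^ 2 with hκ
  have hκ0 : κ ≠ 0 := div_ne_zero hρ.1 (pow_ne_zero _ fun e => hρ1 (eq_neg_of_add_eq_zero_right e))
  have hκf : κ ^ q = κ := by
    rw [← HermStd.qHom_apply S.hF, hκ, map_div₀, map_pow, map_add, map_one, HermStd.qHom_apply, hf]
  set μ := (Finset.univ.filter fun a : F => a ^ (q + 1) = 1).erase 1 with hμ
  have hmem : ∀ a ∈ μ, a ^ (q + 1) = 1 ∧ a ≠ 1 := fun a ha => by
    rw [hμ, Finset.mem_erase, Finset.mem_filter] at ha; exact ⟨ha.2.2, ha.1⟩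
  set A := μ.image fun a => ρ * κ * dist2 a with hA
  set A' := (μ.image fun a => κ * dist2 a).image fun z => T / z with hA'
  have hnz : ∀ a ∈ μ, κ * dist2 a ≠ 0 := fun a ha => mul_ne_zero hκ0 (dist2_ne S.hF (hmem a ha).1 (hmem a ha).2)
  have hfix : ∀ z ∈ insert (0 : F) (A ∪ A'), z ^ q = z := by
    intro z hz
    rcases Finset.mem_insert.1 hz with rfl | hz
    · exact zero_pow (q_ne_zero S.hF)
    rcases Finset.mem_union.1 hz with h | h
    · obtain ⟨a, ha, rfl⟩ := Finset.mem_image.1 h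
      rw [mul_pow, mul_pow, hf, hκf, dist2_fix S.hF (hmem a ha).1]
    · obtain ⟨w, hw, rfl⟩ := Finset.mem_image.1 h
      obtain ⟨a, ha, rfl⟩ := Finset.mem_image.1 hw
      rw [div_pow, mul_pow, hT, hκf, dist2_fix S.hF (hmem a ha).1]
  have h0 : (0 : F) ∉ A ∪ A' := fun h => by
    rcases Finset.mem_union.1 h with h | h
    · obtain ⟨a, ha, he⟩ := Finset.mem_image.1 h
      exact hnz a ha ((mul_eq_zero.1 (show ρ * (κ * dist2 a) = 0 by rw [← mul_assoc]; exact he)).resolve_left hρ.1)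
    · obtain ⟨w, hw, he⟩ := Finset.mem_image.1 h
      obtain ⟨a, ha, rfl⟩ := Finset.mem_image.1 hw
      exact div_ne_zero hT0 (hnz a ha) he
  have c0 := card_le_fix S.hF hfix
  rw [Finset.card_insert_of_notMem h0] at c0
  have c1 : q ≤ 2 * A.card := (card_dist2 S.hF (mul_ne_zero hρ.1 hκ0)).2
  have c2 : q ≤ 2 * A'.card := by
    rw [hA', Finset.card_image_of_injective _ fun u v (h : T / u = T / v) =>
      inv_injective (mul_left_cancel₀ hT0 (by rwa [div_eq_mul_inv, div_eq_mul_inv] at h))]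
    exact (card_dist2 S.hF hκ0).2
  have c3 := Finset.card_union_add_card_inter A A'
  obtain ⟨m, hm⟩ := Finset.card_pos.1 (show 0 < (A ∩ A').card by omega)
  rw [Finset.mem_inter] at hm
  obtain ⟨a, ha, rfl⟩ := Finset.mem_image.1 hm.1
  obtain ⟨w, hw, he⟩ := Finset.mem_image.1 hm.2
  obtain ⟨a', ha', rfl⟩ := Finset.mem_image.1 hw
  rw [div_eq_iff (hnz a' ha')] at he
  have hfm : ∀ b ∈ μ, (ρ * (κ * dist2 b)) ^ q = ρ * (κ * dist2 b) := fun b hb => by
    rw [mul_pow, mul_pow, hf, hκf, dist2_fix S.hF (hmem b hb).1]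
  by_cases hm1 : ρ * (κ * dist2 a) = -1
  · -- the other order
    by_cases hm2 : ρ * (κ * dist2 a') = -1
    · have hT' : T = ρ⁻¹ := by
        refine mul_left_cancel₀ hρ.1 ?_
        rw [mul_inv_cancel₀ hρ.1, he]
        linear_combination (ρ * (κ * dist2 a')) * hm1 - hm2
      exact hT' ▸ S.rat_inv hρ
    · have h1 := S.rat_step hn hρ hρ hf hf hρ1 hρ1 (hmem a' ha').1 (hmem a' ha').2 hm2
      have e : T = ρ * (κ * dist2 a') * (κ * dist2 a) := by rw [he]; ring
      rw [e] at hT1 ⊢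
      exact S.rat_step hn h1 hρ (hfm a' ha') hf hm2 hρ1 (hmem a ha).1 (hmem a ha).2 hT1
  · have h1 := S.rat_step hn hρ hρ hf hf hρ1 hρ1 (hmem a ha).1 (hmem a ha).2 hm1
    have e : T = ρ * (κ * dist2 a) * (κ * dist2 a') := by rw [he]; ring
    rw [e] at hT1 ⊢
    exact S.rat_step hn h1 hρ (hfm a ha) hf hm1 hρ1 (hmem a' ha').1 (hmem a' ha').2 hT1

/-- every unit vector with two coordinates is a member -/
theorem two_mem (h3 : 3 ≤ q) (hn : 4 ≤ n) {x₀ : Vec} (hx₀ : S.R l x₀) (hc : 2 ≤ (supp x₀).card) {x : Vec}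
    (hx : H x x = 1) (hxl : x l = 0) {i j : Fin n} (hij : i ≠ j) (hs : supp x = {i, j}) : S.R l x := by
  classical
  have hi : x i ≠ 0 := mem_supp.1 (hs ▸ by simp)
  have hj : x j ≠ 0 := mem_supp.1 (hs ▸ by simp)
  have hNi : nrm q (x i) ≠ 0 := fun h => hi (nrm_eq_zero.1 h)
  refine (S.rat_all h3 hn hx₀ hc (T := nrm q (x j) / nrm q (x i)) (by rw [div_pow, nrm_conj S.hF, nrm_conj S.hF])
    (div_ne_zero (fun h => hj (nrm_eq_zero.1 h)) hNi) fun e => ?_).2 i j hij (fun e => hi (e ▸ hxl))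
    (fun e => hj (e ▸ hxl)) x hx hs.le (div_mul_cancel₀ _ hNi).symm
  have hxx := S.sum_two hij hs.le
  rw [div_eq_iff hNi] at e
  rw [hx, e] at hxx
  exact one_ne_zero (α := F) (by linear_combination hxx)

/-- over four elements every unit vector with three coordinates is a member -/
theorem three_mem (hq : q = 2) {x₀ : Vec} (hx₀ : S.R l x₀) (hc : 2 ≤ (supp x₀).card) {x : Vec}
    (hxl : x l = 0) (hx3 : (supp x).card = 3) : S.R l x := by
  classical
  have h4 : (4 : F) = 0 := by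
    have := Nat.cast_card_eq_zero F
    rw [S.hF, hq] at this
    exact_mod_cast this
  have h2 : (2 : F) = 0 := by
    have : (2 : F) * 2 = 0 := by linear_combination h4
    exact mul_self_eq_zero.1 this
  have hnrm : ∀ z : F, z ≠ 0 → nrm q z = 1 := fun z hz => by
    have h0 := FiniteField.pow_card_sub_one_eq_one z hz
    rw [S.hF, hq] at h0
    rw [nrm, hq, ← pow_succ']
    exact h0
  obtain ⟨w, hw, hgen⟩ := exists_gen S.hF
  have hw1 : w ≠ 1 := fun h => hgen 1 one_pos (by omega) (by rw [h, one_pow])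
  have hsum : w + w ^ 2 = 1 := by
    have hw3 : w ^ 3 = 1 := by rw [hq] at hw; exact hw
    have h0 : (w - 1) * (w ^ 2 + w + 1) = 0 := by linear_combination hw3
    linear_combination (mul_eq_zero.1 h0).resolve_left (sub_ne_zero.2 hw1) - h2
  have hxx := hx₀.unit S
  have hcount : ((supp x₀).card : F) = 1 := by
    rw [← hxx, H_self_supp, Finset.sum_congr rfl fun i hi => hnrm _ (mem_supp.1 hi), Finset.sum_const, nsmul_one]
  have hc3 : 3 ≤ (supp x₀).card := by
    by_contra h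
    have e : (supp x₀).card = 2 := by omega
    rw [e] at hcount
    push_cast at hcount
    exact zero_ne_one (h2 ▸ hcount)
  obtain ⟨P, hP, hPc⟩ := Finset.exists_subset_card_eq hc3
  set c : Vec := fun m => if m ∈ P then w else 1 with hcdef
  obtain ⟨g, hg, hgm, -⟩ := exists_mono S.hF 1 c fun m => by
    simp only [hcdef]; split_ifs
    · exact hw
    · exact one_pow _
  have hgL : g ∈ S.L l := S.mono_L hg hgm rfl
    (by simp only [hcdef]; rw [if_neg fun h => mem_supp.1 (hP h) (hx₀.zero S)])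
  have hH : H (act g x₀) x₀ = w := by
    have e : H (act g x₀) x₀ - H x₀ x₀ = ∑ m ∈ P, (w - 1) := by
      unfold Cfsg.hermForm
      rw [← Finset.sum_sub_distrib]
      refine ((Finset.sum_subset (Finset.subset_univ P) fun m _ hm => ?_).symm).trans
        (Finset.sum_congr rfl fun m hm => ?_)
      · rw [hgm.eq_diag]
        simp [hcdef, hm]
      · rw [hgm.eq_diag]
        simp only [hcdef, if_pos hm]
        have h1 := hnrm _ (mem_supp.1 (hP hm))
        rw [nrm] at h1
        linear_combination (w - 1) * h1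
    rw [hxx, Finset.sum_const, hPc, nsmul_eq_mul] at e
    push_cast at e
    linear_combination e + (w - 1) * h2
  set y := act (HermFrame.qr q x₀ w) (act g x₀) with hy
  have hyR : S.R l y := (hx₀.map S hgL).map S (hx₀.qr S hw)
  have hyv : ∀ m, y m = (c m + 1) * x₀ m := fun m => by
    rw [hy, act_qr S.hF hxx hw, hH, Pi.add_apply, Pi.smul_apply, hgm.eq_diag, smul_eq_mul]
    linear_combination (x₀ m) * hsum - w * x₀ m * h2
  have hys : supp y = P := by
    ext m
    rw [mem_supp, hyv]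
    by_cases hm : m ∈ P
    · simp only [hm, iff_true, hcdef, if_true]
      exact mul_ne_zero (fun e => hw1 (by linear_combination e - h2)) (mem_supp.1 (hP hm))
    · simp only [hm, iff_false, not_not, hcdef, if_false]
      rw [show (1 : F) + 1 = 2 by norm_num, h2, zero_mul]
  obtain ⟨i, j, k, hij, hik, hjk, hPe⟩ := Finset.card_eq_three.1 hPc
  obtain ⟨i', j', k', hij', hik', hjk', hxe⟩ := Finset.card_eq_three.1 hx3
  have hyl : ∀ m ∈ P, m ≠ l := fun m hm e => mem_supp.1 (hys ▸ hm) (e ▸ hyR.zero S)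
  have hxl' : ∀ m ∈ supp x, m ≠ l := fun m hm e => mem_supp.1 hm (e ▸ hxl)
  obtain ⟨p, hpi, hpj, hpk, hpl⟩ := exists_perm hij hik hjk hij' hik' hjk'
    (hyl i (hPe ▸ by simp)) (hyl j (hPe ▸ by simp)) (hyl k (hPe ▸ by simp))
    (hxl' i' (hxe ▸ by simp)) (hxl' j' (hxe ▸ by simp)) (hxl' k' (hxe ▸ by simp))
  have hmap : ∀ m, p m ∈ supp x ↔ m ∈ P := fun m => by
    rw [hxe, hPe]
    simp [← hpi, ← hpj, ← hpk]
  obtain ⟨g', hg', hgm', -⟩ := exists_mono S.hF p (fun m => if m ∈ P then x (p m) / y m else 1) fun m => by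
    rw [← nrm_eq]; split_ifs with h
    · rw [nrm_div, hnrm _ (mem_supp.1 ((hmap m).2 h)), hnrm _ (mem_supp.1 (hys.symm ▸ h)), div_one]
    · rw [nrm_eq, one_pow]
  have e : act g' y = x := funext fun m => by
    rw [hgm'.apply]
    by_cases h : p.symm m ∈ P
    · rw [if_pos h, p.apply_symm_apply, div_mul_cancel₀ _ (mem_supp.1 (hys.symm ▸ h))]
    · rw [if_neg h, one_mul, not_mem_supp.1 (fun h' => h (hys ▸ h')),
        not_mem_supp.1 (fun h' : m ∈ supp x => h ((hmap _).1 (by rw [p.apply_symm_apply]; exact h')))]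
  exact e ▸ hyR.map S (S.mono_L hg' hgm' hpl (if_neg fun h => hyl l h rfl))

end Setup

end Cfsg.Agent.Forms.Max.HermFrame
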