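import Mathlib
import Cfsg.Agent.Lib.Forms.Max.HermFrame.Odd
import Cfsg.Agent.Lib.Forms.Max.HermFrame.Even
import Cfsg.Agent.Lib.Forms.Max.HermFrame.Plane

/-!
# Subgroups containing the monomial special unitary maps

A non-monomial member makes the subgroup the whole special unitary group: every isotropic vector becomes a centre
of transvections.
-/

set_option autoImplicit false
set_option linter.unusedSectionVars false

namespace Cfsg.Agent.Forms.Max.HermFrame

open Matrix Cfsg.Agent.Classical.Unitary

variable {F : Type*} [Field F] [Fintype F] {n q : ℕ}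

local notation "Vec" => (Fin n → F)
local notation "GLn" => GL (Fin n) F
local notation "H" => Cfsg.hermForm n F q
local notation "SUn" => (Cfsg.GU n F q ⊓ Cfsg.Geo.specialLinear (Fin n) F)

/-- monomial in all columns but one -/
theorem mon_of_all_but_one (hF : Fintype.card F = q ^ 2) {g : GLn} (hg : g ∈ Cfsg.GU n F q) (j : Fin n)
    (h : ∀ k, k ≠ j → ∃ m, ∃ c : F, act g (bas k) = c • bas m) : Mon g := by
  classical
  intro k
  by_cases hk : k = j
  swap
  · exact h k hk
  subst hk
  choose p c hpc using h
  have hnz : ∀ i (hi : i ≠ k), c i hi ≠ 0 := fun i hi e => by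
    have := GU_act hg (bas i) (bas i)
    rw [hpc i hi, e, zero_smul, H_zero_left, H_bas_self hF] at this
    exact zero_ne_one this
  have hzero : ∀ i (hi : i ≠ k), act g (bas k) (p i hi) = 0 := fun i hi => by
    have := GU_act hg (bas k) (bas i)
    rw [hpc i hi, H_smul_right, H_bas_right hF, H_bas hF, if_neg (Ne.symm hi)] at this
    exact (mul_eq_zero.1 this).resolve_left (pow_ne_zero _ (hnz i hi))
  let f : {i // i ≠ k} → Fin n := fun i => p i.1 i.2
  have hf : Function.Injective f := by
    rintro ⟨a, ha⟩ ⟨b, hb⟩ hab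
    by_contra hne
    have := GU_act hg (bas a) (bas b)
    rw [hpc a ha, hpc b hb, show p a ha = p b hb from hab, H_smul_left, H_smul_right, H_bas_self hF, H_bas hF,
      if_neg fun e => hne (Subtype.ext e)] at this
    exact mul_ne_zero (hnz a ha) (mul_ne_zero (pow_ne_zero _ (hnz b hb)) one_ne_zero) this
  obtain ⟨m, hm⟩ := Finset.card_eq_one.1 (show (Finset.univ \ Finset.univ.image f).card = 1 by
    rw [Finset.card_sdiff_of_subset (Finset.subset_univ _), Finset.card_image_of_injective _ hf, Finset.card_univ,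
      Finset.card_univ, Fintype.card_fin, Fintype.card_subtype_compl, Fintype.card_subtype_eq, Fintype.card_fin]
    have := k.2
    omega)
  refine ⟨m, act g (bas k) m, funext fun x => ?_⟩
  by_cases hx : x = m
  · subst hx; simp [bas]
  · rw [Pi.smul_apply, bas_ne hx, smul_zero]
    have : x ∈ Finset.univ.image f := by
      by_contra hc
      exact hx (Finset.mem_singleton.1 (hm ▸ Finset.mem_sdiff.2 ⟨Finset.mem_univ x, hc⟩))
    obtain ⟨⟨i, hi⟩, -, rfl⟩ := Finset.mem_image.1 this
    exact hzero i hi

namespace Setup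

variable (S : Setup F n q)

/-- the sizes of the supports of the vectors used -/
def Few (q w : ℕ) : Prop := 3 ≤ q ∧ w = 2 ∨ q = 2 ∧ w = 3

theorem pair_mem (hn : 4 ≤ n) (hG : S.Goal) {x : Vec} (hx : H x x = 1) (hw : Few q (supp x).card) {l : Fin n}
    (hl : x l = 0) {a : F} (ha : a ^ (q + 1) = 1) : qr q x a * qr q (bas l) a⁻¹ ∈ S.K := by
  classical
  obtain ⟨h, hh, hhm, l₀, hl₀⟩ := hG
  have hL : h ∈ S.L l₀ := ⟨S.gu hh, hl₀, by
    rw [S.det_one hh, inv_one, qr_one S.hF (H_bas_self S.hF l₀), mul_one]; exact hh⟩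
  obtain ⟨i, hil, hi⟩ : ∃ i, i ≠ l₀ ∧ 2 ≤ (supp (act h (bas i))).card := by
    by_contra hc
    push Not at hc
    refine hhm (mon_of_all_but_one S.hF (S.gu hh) l₀ fun k hk => ?_)
    obtain ⟨m, hm⟩ : ∃ m, supp (act h (bas k)) ⊆ {m} := by
      rcases Finset.eq_empty_or_nonempty (supp (act h (bas k))) with he | ⟨m, hm⟩
      · exact ⟨k, by rw [he]; exact Finset.empty_subset _⟩
      · exact ⟨m, fun y hy => Finset.mem_singleton.2 (Finset.card_le_one.1 (by have := hc k hk; omega) y hy m hm)⟩
    refine ⟨m, act h (bas k) m, funext fun y => ?_⟩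
    by_cases hy : y = m
    · subst hy; simp [bas]
    · rw [Pi.smul_apply, bas_ne hy, smul_zero]
      exact not_mem_supp.1 fun h => hy (Finset.mem_singleton.1 (hm h))
  have hx₀ : S.R l₀ (act h (bas i)) := (R.bas S hil).map S hL
  have key : ∀ y : Vec, H y y = 1 → Few q (supp y).card → y l₀ = 0 →
      qr q y a * qr q (bas l₀) a⁻¹ ∈ S.K := by
    intro y hy hyw hyl
    have hR : S.R l₀ y := by
      rcases hyw with ⟨h3, h2⟩ | ⟨h2, h3⟩
      · obtain ⟨j, k, hjk, hs⟩ := Finset.card_eq_two.1 h2
        exact S.two_mem h3 hn hx₀ hi hy hyl hjk hs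
      · exact S.three_mem h2 hx₀ hi hyl h3
    have := (hR.qr S ha).2.2
    rwa [det_qr S.hF hy ha] at this
  by_cases h0 : x l₀ = 0
  · have := mul_mem (key x hx hw h0) (S.bip_mem l₀ l ha)
    rwa [mul_assoc, ← mul_assoc (qr q (bas l₀) a⁻¹), qr_mul S.hF (H_bas_self S.hF l₀) (n1_inv ha) ha,
      inv_mul_cancel₀ (n1_ne_zero ha), qr_one S.hF (H_bas_self S.hF l₀), one_mul] at this
  · obtain ⟨π, hπ, c, hc, hπm⟩ := S.exists_K_mono (Equiv.swap l l₀) (fun _ => (1 : F)) (fun _ => one_pow _) l
    have hπu := S.gu hπ
    have happly : ∀ y, act π x y = Function.update (fun _ => (1 : F)) l c (Equiv.swap l l₀ y) * x (Equiv.swap l l₀ y) :=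
      fun y => by rw [hπm.apply, Equiv.symm_swap]
    have hsupp : (supp (act π x)).card = (supp x).card := by
      refine Finset.card_bij (fun y _ => Equiv.swap l l₀ y) (fun y hy => ?_) (fun y _ z _ e => Equiv.injective _ e)
        fun y hy => ⟨Equiv.swap l l₀ y, ?_, by simp⟩
      · rw [mem_supp, happly] at hy
        exact mem_supp.2 (right_ne_zero_of_mul hy)
      · rw [mem_supp, happly, Equiv.swap_apply_self]
        refine mul_ne_zero ?_ (mem_supp.1 hy)
        by_cases h : y = l
        · subst h; rw [Function.update_self]; exact n1_ne_zero hc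
        · rw [Function.update_of_ne h]; exact one_ne_zero
    have hk := key (act π x) (by rw [GU_act hπu]; exact hx) (hsupp.symm ▸ hw)
      (by rw [happly, Equiv.swap_apply_right, hl, mul_zero])
    have hbl : act π (bas l) = c • bas l₀ := by rw [hπm, Equiv.swap_apply_left, Function.update_self]
    rw [← qr_conj S.hF hx ha hπu, ← qr_smul S.hF (H_bas_self S.hF l₀) (n1_inv ha) hc, ← hbl,
      ← qr_conj S.hF (H_bas_self S.hF l) (n1_inv ha) hπu] at hk
    have := mul_mem (mul_mem (inv_mem hπ) hk) hπ
    convert this using 1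
    group

/-- a member moving a frame vector to a given vector with few coordinates -/
theorem exists_move_to (hn : 4 ≤ n) (hG : S.Goal) {x : Vec} (hx : H x x = 1) (hw : Few q (supp x).card) {i l : Fin n}
    (hi : x i ≠ 0) (hl : x l = 0) : ∃ u ∈ S.K, ∃ ζ : F, ζ ^ (q + 1) = 1 ∧ act u (bas i) = ζ • x ∧
      (∀ k, x k = 0 → k ≠ l → act u (bas k) = bas k) ∧ ∃ c : F, act u (bas l) = c • bas l := by
  classical
  set μ := Finset.univ.filter fun a : F => a ^ (q + 1) = 1 with hμ
  -- a phase with non-isotropic difference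
  obtain ⟨ζ, hζ, hd⟩ : ∃ ζ : F, ζ ^ (q + 1) = 1 ∧ 2 - ζ * x i - (ζ * x i) ^ q ≠ 0 := by
    by_contra hc
    push Not at hc
    obtain ⟨a, ha⟩ := Finset.card_pos.1 (show 0 < μ.card by rw [hμ, card_n1 S.hF]; omega)
    simp only [hμ, Finset.mem_filter, Finset.mem_univ, true_and] at ha
    have hsub : μ ⊆ {a, a⁻¹ * x i ^ q / x i} := fun b hb => by
      simp only [hμ, Finset.mem_filter, Finset.mem_univ, true_and] at hb
      have h1 := hc b hb
      have h2 := hc a ha
      simp only [mul_pow, pow_q_eq_inv S.hF hb, pow_q_eq_inv S.hF ha] at h1 h2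
      have ha0 := n1_ne_zero ha
      have hb0 := n1_ne_zero hb
      have h0 : (b - a) * (a * b * x i - x i ^ q) = 0 := by
        field_simp at h1 h2
        linear_combination b * h2 - a * h1
      simp only [Finset.mem_insert, Finset.mem_singleton]
      rcases mul_eq_zero.1 h0 with h | h
      · exact Or.inl (sub_eq_zero.1 h)
      · refine Or.inr ?_
        field_simp
        linear_combination h
    have := (Finset.card_le_card hsub).trans Finset.card_le_two
    rw [hμ, card_n1 S.hF] at this
    have := HermStd.one_lt_q S.hF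
    omega
  set X := ζ * x i with hX
  have hX1 : X ^ q ≠ 1 := fun e => hd (by
    have : X = 1 := by rw [← pow_qq S.hF X, e, one_pow]
    rw [this, one_pow]; ring)
  set v : Vec := ζ • x - bas i with hv
  have hzz : ζ * ζ ^ q = 1 := by rw [← pow_succ']; exact hζ
  have hvv : H v v = 2 - X - X ^ q := by
    rw [hv, H_sub_left, H_sub_right S.hF, H_sub_right S.hF, H_smul_left, H_smul_left, H_smul_right, H_smul_right,
      hx, H_bas_self S.hF, H_bas_right S.hF, H_bas_left S.hF, hX, mul_pow]
    linear_combination hzz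
  obtain ⟨c, hc⟩ := Unitary.exists_norm S.hF (d := 2 - X - X ^ q) (by rw [← hvv]; exact H_conj S.hF v v)
  have hc0 : c ≠ 0 := fun e => hd (by rw [← hc, e, mul_zero])
  set z : Vec := c⁻¹ • v with hz
  have hz1 : H z z = 1 := by
    rw [hz, H_smul_left, H_smul_right, hvv, ← hc, inv_pow]
    field_simp
  have hzv : ∀ k, z k = c⁻¹ * (ζ * x k - (bas i : Vec) k) := fun k => by simp [hz, hv]
  have hzs : supp z = supp x := by
    ext k
    rw [mem_supp, mem_supp, hzv]
    by_cases hk : k = i
    · subst hk
      refine iff_of_true (mul_ne_zero (inv_ne_zero hc0) ?_) hi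
      rw [bas_self, sub_ne_zero]
      exact fun e => hX1 (by rw [hX, e, one_pow])
    · simp [bas_ne hk, hc0, n1_ne_zero hζ]
  have hX1' : 1 - X ^ q ≠ 0 := sub_ne_zero.2 (Ne.symm hX1)
  set a := -(1 - X) / (1 - X ^ q) with ha
  have ha1 : a ^ (q + 1) = 1 := by
    have hne : (1 : F) - X ≠ 0 := fun e => hX1 (by rw [← sub_eq_zero.1 e, one_pow])
    have hq' : (1 - X ^ q) ^ q = 1 - X := by
      rw [← HermStd.qHom_apply S.hF, map_sub, map_one, HermStd.qHom_apply, pow_qq S.hF]
    have hq'' : (-(1 - X)) ^ q = -(1 - X ^ q) := by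
      rw [← HermStd.qHom_apply S.hF, map_neg, map_sub, map_one, HermStd.qHom_apply]
    rw [pow_succ, ha, div_pow, hq', hq'']
    field_simp
  have hK := S.pair_mem hn hG hz1 (hzs.symm ▸ hw) (show z l = 0 from not_mem_supp.1 (by
    rw [hzs]; exact not_mem_supp.2 hl)) ha1
  have hle := H_bas_self S.hF (q := q) l
  have hil : i ≠ l := fun e => hi (e ▸ hl)
  refine ⟨_, hK, ζ, hζ, ?_, fun k hk hkl => ?_, a⁻¹, ?_⟩
  · rw [act_mul, qr_fix S.hF hle (n1_inv ha1) (by rw [H_bas S.hF, if_neg hil]), act_qr S.hF hz1 ha1, hz,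
      H_smul_right, smul_smul]
    have hH : H (bas i) v = X ^ q - 1 := by
      rw [H_bas_left S.hF, hv, hX]
      simp only [Pi.sub_apply, Pi.smul_apply, bas_self, smul_eq_mul]
      rw [← HermStd.qHom_apply S.hF, map_sub, map_one, HermStd.qHom_apply]
    have key : (a - 1) * (X ^ q - 1) = c ^ q * c := by
      rw [hc, show a - 1 = (-(1 - X) - (1 - X ^ q)) / (1 - X ^ q) by rw [ha, sub_div, div_self hX1'],
        div_mul_eq_mul_div, div_eq_iff hX1']
      ring
    rw [hH, show (a - 1) * (c⁻¹ ^ q * (X ^ q - 1)) * c⁻¹ = 1 by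
      rw [show (a - 1) * (c⁻¹ ^ q * (X ^ q - 1)) * c⁻¹ = (a - 1) * (X ^ q - 1) * ((c ^ q)⁻¹ * c⁻¹) by
        rw [inv_pow]; ring, key, ← mul_inv, mul_inv_cancel₀ (mul_ne_zero (pow_ne_zero _ hc0) hc0)], one_smul, hv]
    abel
  · rw [act_mul, qr_fix S.hF hle (n1_inv ha1) (by rw [H_bas S.hF, if_neg hkl]), qr_fix S.hF hz1 ha1]
    rw [H_bas_left S.hF, not_mem_supp.1 (by rw [hzs]; exact not_mem_supp.2 hk : k ∉ supp z),
      zero_pow (q_ne_zero S.hF)]
  · rw [act_mul, act_qr S.hF hle (n1_inv ha1), hle, mul_one,
      show bas l + (a⁻¹ - 1) • (bas l : Vec) = a⁻¹ • bas l by rw [sub_smul, one_smul, add_sub_cancel]]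
    rw [act, mulVec_smul, ← act, qr_fix S.hF hz1 ha1]
    rw [H_bas_left S.hF, not_mem_supp.1 (by rw [hzs]; exact not_mem_supp.2 hl : l ∉ supp z),
      zero_pow (q_ne_zero S.hF)]

/-- isotropic vectors with two coordinates are centres -/
theorem centre_two (hn : 4 ≤ n) (hG : S.Goal) {v : Vec} (hv : H v v = 0) (hc : (supp v).card = 2) :
    v ∈ Unitary.centres q S.K := by
  classical
  refine ⟨hv, fun t c hc' ht => ?_⟩
  obtain ⟨i, j, hij, hs⟩ := Finset.card_eq_two.1 hc
  obtain ⟨g, hg, hgx⟩ := Unitary.exists_tv S.hF hv hc'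
  obtain rfl : t = g := gl_ext fun x => by rw [ht, hgx]
  have htfix : ∀ k, k ≠ i → k ≠ j → act t (bas k) = bas k := fun k h1 h2 => by
    rw [act, ht, H_bas_left S.hF, not_mem_supp.1 (show k ∉ supp v by simp [hs, h1, h2]),
      zero_pow (q_ne_zero S.hF), mul_zero, zero_smul, add_zero]
  set x := act t (bas i) with hx
  have hxx : H x x = 1 := by rw [hx, GU_act hg.1, H_bas_self S.hF]
  have hxs : supp x ⊆ {i, j} := fun k hk => by
    rw [mem_supp, hx, act, ht, Pi.add_apply, Pi.smul_apply] at hk
    by_contra hc2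
    simp only [Finset.mem_insert, Finset.mem_singleton, not_or] at hc2
    rw [bas_ne hc2.1, not_mem_supp.1 (show k ∉ supp v by simp [hs, hc2.1, hc2.2]), smul_zero, add_zero] at hk
    exact hk rfl
  obtain ⟨l, hl⟩ := Finset.card_pos.1 (show 0 < (Finset.univ \ {i, j}).card by
    rw [Finset.card_sdiff_of_subset (Finset.subset_univ _), Finset.card_univ, Fintype.card_fin, Finset.card_pair hij]
    omega)
  simp only [Finset.mem_sdiff, Finset.mem_univ, true_and, Finset.mem_insert, Finset.mem_singleton, not_or] at hl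
  have hxk : ∀ k, k ≠ i → k ≠ j → x k = 0 := fun k h1 h2 => not_mem_supp.1 fun h => by
    simpa [h1, h2] using hxs h
  by_cases hone : (supp x).card ≤ 1
  · refine S.mono_mem t hg (mon_of_all_but_one S.hF hg.1 j fun k hk => ?_)
    by_cases hki : k = i
    · subst hki
      obtain ⟨m, hm⟩ : ∃ m, supp x ⊆ {m} := by
        rcases Finset.eq_empty_or_nonempty (supp x) with he | ⟨m, hm⟩
        · exact ⟨k, by rw [he]; exact Finset.empty_subset _⟩
        · exact ⟨m, fun y hy => Finset.mem_singleton.2 (Finset.card_le_one.1 hone y hy m hm)⟩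
      refine ⟨m, x m, funext fun y => ?_⟩
      by_cases hy : y = m
      · subst hy; simp [bas, hx]
      · rw [Pi.smul_apply, bas_ne hy, smul_zero, ← hx]
        exact not_mem_supp.1 fun h => hy (Finset.mem_singleton.1 (hm h))
    · exact ⟨k, 1, by rw [htfix k hki hk, one_smul]⟩
  have h2 : (supp x).card = 2 := by
    have := (Finset.card_le_card hxs).trans Finset.card_le_two
    omega
  have hq : 3 ≤ q := by
    by_contra h
    have hq2 : q = 2 := by have := HermStd.one_lt_q S.hF; omega
    have hN : ∀ z : F, z ≠ 0 → nrm q z = 1 := fun z hz => by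
      have h0 := FiniteField.pow_card_sub_one_eq_one z hz
      rw [S.hF, hq2] at h0
      rw [nrm, hq2, ← pow_succ']
      exact h0
    have h4 : (4 : F) = 0 := by
      have := Nat.cast_card_eq_zero F
      rw [S.hF, hq2] at this
      exact_mod_cast this
    rw [H_self_supp, Finset.sum_congr rfl fun k hk => hN _ (mem_supp.1 hk), Finset.sum_const, h2] at hxx
    exact one_ne_zero (α := F) (by simp only [nsmul_one] at hxx; push_cast at hxx; linear_combination h4 - 3 * hxx)
  have hi : x i ≠ 0 := mem_supp.1 (by
    by_contra h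
    have := Finset.card_le_card (show supp x ⊆ {j} from fun k hk => by
      have := hxs hk
      simp only [Finset.mem_insert, Finset.mem_singleton] at this ⊢
      exact this.resolve_left fun e => h (e ▸ hk))
    rw [Finset.card_singleton] at this
    omega)
  obtain ⟨u, hu, ζ, hζ, hui, hufix, c₁, hul⟩ := S.exists_move_to hn hG hxx (Or.inl ⟨hq, h2⟩) hi (hxk l hl.1 hl.2)
  have hm : Mon (u⁻¹ * t) := by
    refine mon_of_all_but_one S.hF (mul_mem (inv_mem (S.gu hu)) hg.1) j fun k hk => ?_
    by_cases hki : k = i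
    · subst hki
      refine ⟨k, ζ⁻¹, mulVec_inj u ?_⟩
      show act u (act (u⁻¹ * t) (bas k)) = act u (ζ⁻¹ • bas k)
      rw [act_mul, act_act_inv, ← hx]
      conv_rhs => rw [act, mulVec_smul, ← act, hui, smul_smul, inv_mul_cancel₀ (n1_ne_zero hζ), one_smul]
    · by_cases hkl : k = l
      · subst hkl
        refine ⟨k, c₁⁻¹, mulVec_inj u ?_⟩
        show act u (act (u⁻¹ * t) (bas k)) = act u (c₁⁻¹ • bas k)
        rw [act_mul, act_act_inv, htfix k hki hk]
        have hc₁ : c₁ ≠ 0 := fun e => mulVec_ne_zero u (bas_ne_zero k) (by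
          show act u (bas k) = 0
          rw [hul, e, zero_smul])
        conv_rhs => rw [act, mulVec_smul, ← act, hul, smul_smul, inv_mul_cancel₀ hc₁, one_smul]
      · refine ⟨k, 1, mulVec_inj u ?_⟩
        show act u (act (u⁻¹ * t) (bas k)) = act u ((1 : F) • bas k)
        rw [act_mul, act_act_inv, htfix k hki hk, one_smul, hufix k (hxk k hki hk) hkl]
  have := mul_mem hu (S.mono_mem _ (mul_mem (inv_mem (S.le hu)) hg) hm)
  rwa [mul_inv_cancel_left] at this

/-- every isotropic vector is a centre -/
theorem centre_all (hn : 4 ≤ n) (hG : S.Goal) {v : Vec} (hv : H v v = 0) : v ∈ Unitary.centres q S.K := by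
  classical
  induction hw : (supp v).card using Nat.strong_induction_on generalizing v with
  | _ w ih =>
    have hsum := hv
    rw [H_self_supp] at hsum
    by_cases hw0 : w = 0
    · have : v = 0 := funext fun k => not_mem_supp.1 (by rw [Finset.card_eq_zero.1 (hw.trans hw0)]; simp)
      refine ⟨hv, fun t c _ ht => ?_⟩
      rw [show t = 1 from gl_ext fun x => by rw [ht, this, smul_zero, add_zero, Units.val_one, one_mulVec]]
      exact one_mem _
    by_cases hw1 : w = 1
    · obtain ⟨k, hk⟩ := Finset.card_eq_one.1 (hw.trans hw1)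
      rw [hk, Finset.sum_singleton, nrm_eq_zero] at hsum
      exact absurd hsum (mem_supp.1 (hk ▸ Finset.mem_singleton_self k))
    by_cases hw2 : w = 2
    · exact S.centre_two hn hG hv (hw.trans hw2)
    -- a reducible part of the support
    have reduce : ∀ {v : Vec}, H v v = 0 → (supp v).card ≤ w → ∀ T : Finset (Fin n), T ⊆ supp v →
        Few q T.card → ∑ k ∈ T, nrm q (v k) ≠ 0 → v ∈ Unitary.centres q S.K := by
      intro v hv hle T hT hT2 hN
      obtain ⟨c, hc⟩ := Unitary.exists_norm S.hF (d := ∑ k ∈ T, nrm q (v k)) (by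
        rw [← HermStd.qHom_apply S.hF, map_sum]
        exact Finset.sum_congr rfl fun k _ => nrm_conj S.hF _)
      have hc0 : c ≠ 0 := fun e => hN (by rw [← hc, e, mul_zero])
      set x : Vec := fun k => if k ∈ T then c⁻¹ * v k else 0 with hxdef
      have hxs : supp x = T := by
        ext k
        rw [mem_supp]
        by_cases hk : k ∈ T
        · simp only [hxdef, hk, if_true, iff_true]; exact mul_ne_zero (inv_ne_zero hc0) (mem_supp.1 (hT hk))
        · simp [hxdef, hk]
      have hx1 : H x x = 1 := by
        rw [H_self_supp, hxs, Finset.sum_congr rfl (g := fun k => nrm q c⁻¹ * nrm q (v k)) fun k hk => by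
          simp only [hxdef, hk, if_true, nrm_mul], ← Finset.mul_sum, ← hc, nrm, inv_pow]
        field_simp
      have hTc : T.card = 2 ∨ T.card = 3 := hT2.imp (·.2) (·.2)
      obtain ⟨i, hi⟩ := Finset.card_pos.1 (show 0 < T.card by omega)
      obtain ⟨l, hl⟩ := Finset.card_pos.1 (show 0 < (Finset.univ \ T).card by
        rw [Finset.card_sdiff_of_subset (Finset.subset_univ _), Finset.card_univ, Fintype.card_fin]; omega)
      simp only [Finset.mem_sdiff, Finset.mem_univ, true_and] at hl
      obtain ⟨u, hu, ζ, hζ, hui, hufix, c₁, hul⟩ := S.exists_move_to hn hG hx1 (hxs.symm ▸ hT2)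
        (mem_supp.1 (hxs.symm ▸ hi)) (show x l = 0 from not_mem_supp.1 (hxs.symm ▸ hl))
      have hug := S.gu hu
      set v' := act u⁻¹ v with hv'
      have hval : ∀ k, v' k = H v (act u (bas k)) := fun k => by
        rw [← H_bas_right S.hF v' k, ← GU_act hug v' (bas k), hv', act_act_inv]
      have hsub : supp v' ⊆ insert i (supp v \ T) := fun k hk => by
        rw [mem_supp, hval] at hk
        by_contra hc2
        rw [Finset.mem_insert, not_or, Finset.mem_sdiff, not_and_not_right] at hc2
        refine hk ?_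
        by_cases hkT : k ∈ T
        · -- orthogonal to the new vector
          have hperp : H x (act u (bas k)) = 0 := by
            have h := GU_act hug (bas i) (bas k)
            rw [hui, H_smul_left, H_bas S.hF, if_neg (Ne.symm hc2.1)] at h
            exact (mul_eq_zero.1 h).resolve_left (n1_ne_zero hζ)
          have hout : ∀ m, m ∉ T → act u (bas k) m = 0 := fun m hm => by
            have hxm : x m = 0 := not_mem_supp.1 (hxs.symm ▸ hm)
            have hmk : k ≠ m := fun e => hm (e ▸ hkT)
            have h := GU_act hug (bas k) (bas m)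
            rw [H_bas S.hF, if_neg hmk] at h
            by_cases hml : m = l
            · subst hml
              rw [hul, H_smul_right, H_bas_right S.hF] at h
              refine (mul_eq_zero.1 h).resolve_left (pow_ne_zero _ fun e => mulVec_ne_zero u (bas_ne_zero m) ?_)
              show act u (bas m) = 0
              rw [hul, e, zero_smul]
            · rwa [hufix m hxm hml, H_bas_right S.hF] at h
          calc H v (act u (bas k)) = c * H x (act u (bas k)) := by
                rw [Cfsg.hermForm, Cfsg.hermForm, Finset.mul_sum]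
                refine Finset.sum_congr rfl fun m _ => ?_
                by_cases hm : m ∈ T
                · simp only [hxdef, hm, if_true]; field_simp
                · rw [hout m hm, zero_pow (q_ne_zero S.hF)]; ring
            _ = 0 := by rw [hperp, mul_zero]
        · have hvk : v k = 0 := not_mem_supp.1 fun h => hkT (hc2.2 h)
          by_cases hkl : k = l
          · subst hkl; rw [hul, H_smul_right, H_bas_right S.hF, hvk, mul_zero]
          · rw [hufix k (not_mem_supp.1 (hxs.symm ▸ hkT)) hkl, H_bas_right S.hF, hvk]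
      have hlt : (supp v').card < w := by
        have h1 := (Finset.card_le_card hsub).trans (Finset.card_insert_le _ _)
        rw [Finset.card_sdiff_of_subset hT] at h1
        have := Finset.card_le_card hT
        omega
      have hc' := ih _ hlt (by rw [hv', GU_act (inv_mem hug)]; exact hv) rfl
      have := Unitary.centres_map S.hF S.le hu hc'
      rwa [hv', ← act, act_act_inv] at this
    by_cases hq : 3 ≤ q
    swap
    · have hq2 : q = 2 := by have := HermStd.one_lt_q S.hF; omega
      have hN : ∀ z : F, z ≠ 0 → nrm q z = 1 := fun z hz => by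
        have h0 := FiniteField.pow_card_sub_one_eq_one z hz
        rw [S.hF, hq2] at h0
        rw [nrm, hq2, ← pow_succ']
        exact h0
      obtain ⟨T, hT, hTc⟩ := Finset.exists_subset_card_eq (s := supp v) (n := 3) (by omega)
      refine reduce hv hw.le T hT (Or.inr ⟨hq2, hTc⟩) ?_
      rw [Finset.sum_congr rfl fun k hk => hN _ (mem_supp.1 (hT hk)), Finset.sum_const, hTc, nsmul_one]
      have h4 : (4 : F) = 0 := by
        have := Nat.cast_card_eq_zero F
        rw [S.hF, hq2] at this
        exact_mod_cast this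
      exact fun e => one_ne_zero (α := F) (by push_cast at e; linear_combination h4 - e)
    by_cases hpair : ∃ i ∈ supp v, ∃ j ∈ supp v, i ≠ j ∧ nrm q (v i) + nrm q (v j) ≠ 0
    · obtain ⟨i, hi, j, hj, hij, h⟩ := hpair
      refine reduce hv hw.le {i, j} (fun k hk => ?_) (Or.inl ⟨hq, Finset.card_pair hij⟩)
        (by rwa [Finset.sum_pair hij])
      simp only [Finset.mem_insert, Finset.mem_singleton] at hk
      rcases hk with rfl | rfl <;> assumption
    push Not at hpair
    obtain ⟨i, hi, j, hj, k, hk, hij, hik, hjk⟩ := Finset.two_lt_card.1 (show 2 < (supp v).card by omega)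
    have hvi := mem_supp.1 hi
    have hvj := mem_supp.1 hj
    have hvk := mem_supp.1 hk
    have e1 := hpair i hi j hj hij
    have e2 := hpair i hi k hk hik
    have e3 := hpair j hj k hk hjk
    have h2 : (2 : F) = 0 :=
      (mul_eq_zero.1 (show (2 : F) * nrm q (v i) = 0 by linear_combination e1 + e2 - e3)).resolve_right
        fun h => hvi (nrm_eq_zero.1 h)
    have hneg : (-1 : F) = 1 := by linear_combination -h2
    obtain ⟨g, hg, hgen⟩ := exists_gen S.hF
    have hg0 := n1_ne_zero hg
    set lam := g + g⁻¹ with hlam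
    have hlamq : lam ^ q = lam := by
      rw [hlam, HermStd.add_pow_q S.hF, inv_pow, pow_q_eq_inv S.hF hg, inv_inv, add_comm]
    have hlam0 : lam ≠ 0 := fun e => hgen 2 two_pos (by omega) (by
      rw [hlam] at e; field_simp at e; linear_combination e - h2)
    have hlam1 : lam ≠ 1 := fun e => hgen 3 (by omega) (by omega) (by
      rw [hlam] at e; field_simp at e; linear_combination (g + 1) * e - h2)
    set r := v k * v j ^ q with hr
    have hr0 : r ≠ 0 := mul_ne_zero hvk (pow_ne_zero _ hvj)
    obtain ⟨β, hβ, hτ⟩ : ∃ β : F, β ^ (q + 1) = 1 ∧ β * r + (β * r) ^ q ≠ 0 := by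
      by_contra hc
      push Not at hc
      have h1 := hc 1 (one_pow _)
      rw [one_mul] at h1
      have h3 := hc g hg
      rw [mul_pow, pow_q_eq_inv S.hF hg] at h3
      refine hgen 2 two_pos (by omega) ?_
      have : (g * g - 1) * r = 0 := by
        field_simp at h3
        linear_combination h3 - h1
      have := (mul_eq_zero.1 this).resolve_right hr0
      linear_combination this
    -- move the equal norms apart
    set c : Vec := bas j + β⁻¹ • bas k with hcdef
    have hbb : β⁻¹ ^ q * β⁻¹ = 1 := by rw [← pow_succ]; exact n1_inv hβ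
    have hcc : H c c = 0 := by
      simp only [hcdef, H_add_left, H_add_right S.hF, H_smul_left, H_smul_right, H_bas S.hF, if_neg hjk,
        if_neg (Ne.symm hjk), if_true]
      linear_combination hbb + h2
    have hcsupp : supp c = {j, k} := by
      ext m
      rw [mem_supp]
      by_cases h1 : m = j
      · subst h1; simp [hcdef, bas_ne hjk]
      · by_cases h1' : m = k
        · subst h1'; simp [hcdef, bas_ne h1, n1_ne_zero hβ]
        · simp [hcdef, h1, h1']
    obtain ⟨t, htS, htx⟩ := Unitary.exists_tv S.hF hcc (c := lam) (by rw [hlamq, ← two_mul, h2, zero_mul])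
    have htK := (S.centre_two hn hG hcc (by rw [hcsupp, Finset.card_pair hjk])).2 t lam
      (by rw [hlamq, ← two_mul, h2, zero_mul]) htx
    set h := H v c with hh
    have hhv : h = v j + β * v k := by
      rw [hh, hcdef, H_add_right S.hF, H_smul_right, H_bas_right S.hF, H_bas_right S.hF, pow_q_eq_inv S.hF (n1_inv hβ),
        inv_inv]
    set v' := act t v with hv'
    have hv'H : H v' v' = 0 := by rw [hv', GU_act htS.1]; exact hv
    have hv'val : ∀ m, v' m = v m + lam * h * c m := fun m => by rw [hv', act, htx]; rfl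
    have hsub : supp v' ⊆ supp v := fun m hm => by
      by_contra hm'
      rw [mem_supp, hv'val, not_mem_supp.1 hm', zero_add] at hm
      have := mem_supp.2 (right_ne_zero_of_mul hm)
      rw [hcsupp, Finset.mem_insert, Finset.mem_singleton] at this
      rcases this with rfl | rfl <;> exact hm' ‹_›
    have hmem : v' ∈ Unitary.centres q S.K := by
      by_cases hlt : (supp v').card < w
      · exact ih _ hlt hv'H rfl
      have heq : supp v' = supp v := Finset.eq_of_subset_of_card_le hsub (by omega)
      have hv'i : v' i = v i := by rw [hv'val]; simp [hcdef, bas_ne hij, bas_ne hik]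
      have hv'j : v' j = v j + lam * h := by rw [hv'val]; simp [hcdef, bas_ne hjk]
      refine reduce hv'H ((Finset.card_le_card hsub).trans hw.le) {i, j} (fun m hm => ?_)
        (Or.inl ⟨hq, Finset.card_pair hij⟩) ?_
      · simp only [Finset.mem_insert, Finset.mem_singleton] at hm
        rw [heq]
        rcases hm with rfl | rfl <;> assumption
      rw [Finset.sum_pair hij, hv'i, hv'j]
      intro e0
      refine mul_ne_zero (mul_ne_zero hlam0 (fun hl : (1 : F) + lam = 0 => hlam1 (by linear_combination hl - h2))) hτ ?_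
      have hhq : h ^ q = v j ^ q + β⁻¹ * v k ^ q := by
        rw [hhv, HermStd.add_pow_q S.hF, mul_pow, pow_q_eq_inv S.hF hβ]
      have hbr : (β * r) ^ q = β⁻¹ * (v k ^ q * v j) := by
        rw [hr, mul_pow, mul_pow, pow_qq S.hF, pow_q_eq_inv S.hF hβ]
      simp only [nrm, HermStd.add_pow_q S.hF, mul_pow, hlamq, hhq] at e0
      simp only [nrm] at e1 e2 e3
      have hb1 : β * β⁻¹ = 1 := mul_inv_cancel₀ (n1_ne_zero hβ)
      rw [hbr, hr]
      rw [hhv] at e0
      linear_combination e0 - e1 - lam * lam * (v k * v k ^ q) * hb1 - lam * lam * e3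
        - lam * (v j * v j ^ q) * h2
    have := Unitary.centres_map S.hF S.le (inv_mem htK) hmem
    rwa [hv', ← act, act_inv_act] at this

/-- the subgroup is everything -/
theorem top (hn : n = 6 ∧ 3 ≤ q ∨ 7 ≤ n) {g : GLn} (hg : g ∈ S.K) (hgm : ¬ Mon g) : SUn ≤ S.K := by
  have hG : S.Goal := by
    by_cases h2 : (2 : F) = 0
    · refine S.goal_even h2 ?_ (by omega) hg hgm
      have h0 := Nat.cast_card_eq_zero F
      rw [S.hF, Nat.cast_pow] at h0
      have hq0 : (q : F) = 0 := eq_zero_of_pow_eq_zero h0
      by_contra hodd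
      obtain ⟨k, hk⟩ := Nat.not_even_iff_odd.1 hodd
      rw [hk] at hq0
      push_cast at hq0
      rw [h2, zero_mul, zero_add] at hq0
      exact one_ne_zero hq0
    · refine S.goal_odd ?_ h2 (by omega) hg hgm
      by_contra h3
      have hq2 : q = 2 := by have := HermStd.one_lt_q S.hF; omega
      refine h2 ?_
      have := Nat.cast_card_eq_zero F
      rw [S.hF, hq2] at this
      have h4 : (2 : F) * 2 = 0 := by push_cast at this; linear_combination this
      exact mul_self_eq_zero.1 h4
  exact Unitary.SUn_le_of_centres S.hF (by omega) fun v hv => S.centre_all (by omega) hG hv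

end Setup

end Cfsg.Agent.Forms.Max.HermFrame
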