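import Mathlib
import Cfsg.Agent.Lib.Forms.Max.HermFrame.Odd

/-!
# Frames in dimension four: first steps

A column with three coordinates, or a diagonal element carried to a diagonal one, gives the goal.
-/

set_option autoImplicit false
set_option linter.unusedSectionVars false

namespace Cfsg.Agent.Forms.Max.HermFrame

open Matrix Cfsg.Agent.Classical.Unitary

variable {F : Type*} [Field F] [Fintype F] {q : ℕ}

local notation "Vec" => (Fin 4 → F)
local notation "GLn" => GL (Fin 4) F
local notation "H" => Cfsg.hermForm 4 F q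

namespace Setup

variable (S : Setup F 4 q)

/-- a generator of the scalars of norm one has fourth power different from one -/
theorem exists_gen_four (hF : Fintype.card F = q ^ 2) (hq : q ≠ 3) : ∃ a : F, a ^ (q + 1) = 1 ∧ a * a ≠ 1 ∧ a ^ 4 ≠ 1 := by
  obtain ⟨a, ha, hgen⟩ := exists_gen hF
  have h2 := HermStd.one_lt_q hF
  refine ⟨a, ha, fun h => hgen 2 two_pos (by omega) (by rw [pow_two, h]), fun h => ?_⟩
  by_cases hq2 : q = 2
  · subst hq2
    exact hgen 1 one_pos (by omega) (by linear_combination h - a * ha)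
  · exact hgen 4 (by omega) (by omega) h

/-- a column with at most one coordinate -/
theorem goal_of_small {g : GLn} (hg : g ∈ S.K) (hm : ¬ Mon g) {i : Fin 4}
    (hi : (supp (act g (bas i))).card ≤ 1) : S.Goal := by
  classical
  obtain ⟨m, hm'⟩ : ∃ m, supp (act g (bas i)) ⊆ {m} := by
    rcases Finset.eq_empty_or_nonempty (supp (act g (bas i))) with h | ⟨m, hmem⟩
    · exact ⟨i, by rw [h]; exact Finset.empty_subset _⟩
    · exact ⟨m, fun x hx => Finset.mem_singleton.2 (Finset.card_le_one.1 hi x hx m hmem)⟩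
  refine S.goal_of_col (by omega) hg hm (k := i) (m := m) (c := act g (bas i) m) (funext fun x => ?_)
  by_cases hx : x = m
  · subst hx; simp [bas]
  · rw [Pi.smul_apply, bas_ne hx, smul_zero]
    exact not_mem_supp.1 fun h => hx (Finset.mem_singleton.1 (hm' h))

/-- two columns in the same pair of coordinates -/
theorem goal_of_two (hq : q ≠ 3) {g : GLn} (hg : g ∈ S.K) {i j : Fin 4} (hij : i ≠ j) {U : Finset (Fin 4)}
    (hU : U.card = 2) (hi : supp (act g (bas i)) = U) (hj : supp (act g (bas j)) = U) : S.Goal := by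
  classical
  by_cases hcol : ∀ m, 2 ≤ (supp (act g (bas m))).card
  swap
  · push Not at hcol
    obtain ⟨m, hm⟩ := hcol
    refine S.goal_of_small hg (fun hmon => ?_) (show (supp (act g (bas m))).card ≤ 1 by omega)
    obtain ⟨x, c, hx⟩ := hmon i
    have h1 : (supp (act g (bas i))).card ≤ 1 := by
      refine Finset.card_le_one.2 fun a ha b hb => ?_
      have : ∀ y ∈ supp (act g (bas i)), y = x := fun y hy => by
        by_contra hyx
        rw [mem_supp, hx, Pi.smul_apply, bas_ne hyx, smul_zero] at hy
        exact hy rfl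
      rw [this a ha, this b hb]
    rw [hi] at h1
    omega
  obtain ⟨l, hl⟩ := Finset.card_pos.1 (show 0 < (Finset.univ \ U).card by
    rw [Finset.card_sdiff_of_subset (Finset.subset_univ _), Finset.card_univ, Fintype.card_fin, hU]; omega)
  obtain ⟨a, ha, ha2, ha4⟩ := exists_gen_four S.hF hq
  have ha0 := n1_ne_zero ha
  refine S.goal_of_pair hg hcol hij (l := l) ?_ ha (fun h => ha2 (by rw [h, mul_one])) (Or.inl ha2) (Or.inl ?_)
  · rw [hi, hj, Finset.union_self]; exact (Finset.mem_sdiff.1 hl).2
  · rw [hi, hj, Finset.union_self, hU]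
    intro h
    push_cast at h
    field_simp at h
    exact ha4 (by linear_combination (a ^ 2 - 1) * h)

/-- a column with exactly three coordinates -/
theorem goal_of_three (hq : q ≠ 3) {g : GLn} (hg : g ∈ S.K) {i : Fin 4}
    (h3 : (supp (act g (bas i))).card = 3) : S.Goal := by
  classical
  have hF := S.hF
  set v := act g (bas i) with hv
  have hvv : H v v = 1 := by rw [hv, GU_act (S.gu hg), H_bas_self hF]
  obtain ⟨l, hl⟩ := Finset.card_pos.1 (show 0 < (Finset.univ \ supp v).card by
    rw [Finset.card_sdiff_of_subset (Finset.subset_univ _), Finset.card_univ, Fintype.card_fin, h3]; omega)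
  have hl0 : v l = 0 := not_mem_supp.1 (Finset.mem_sdiff.1 hl).2
  obtain ⟨γ, hγ, -, hγ4⟩ := exists_gen_four S.hF hq
  have hγ0 := n1_ne_zero hγ
  set b := (γ ^ 4)⁻¹ with hb
  have hb1 : b ≠ 1 := fun h => hγ4 (inv_eq_one.1 h)
  have hbn : b ^ (q + 1) = 1 := by rw [hb, inv_pow, ← pow_mul, mul_comm, pow_mul, hγ, one_pow, inv_one]
  set c : Vec := fun x => if x = i then γ * b else γ with hc
  obtain ⟨d, hdG, hd, hdd⟩ := exists_mono hF 1 c fun x => by
    simp only [hc]; split
    · exact n1_mul hγ hbn
    · exact hγ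
  have hdK : d ∈ S.K := S.mem_mono hdG (by
    rw [hdd, hc]
    simp only [Fin.prod_univ_four, map_one, Units.val_one, Int.cast_one, one_mul]
    fin_cases i <;> simp [hb] <;> field_simp) hd.mon
  set h := g * d * g⁻¹ with hh
  have hhK : h ∈ S.K := mul_mem (mul_mem hg hdK) (inv_mem hg)
  have hdy : ∀ y : Vec, act d y = γ • (y + ((b - 1) * y i) • bas i) := fun y => funext fun x => by
    rw [hd.eq_diag]
    by_cases hx : x = i
    · subst hx; simp [hc]; ring
    · simp [hc, hx, bas_ne hx]
  have hact : ∀ x, act h x = γ • (x + ((b - 1) * H x v) • v) := fun x => by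
    rw [hh, act_mul, act_mul, hdy, act, mulVec_smul, mulVec_add, mulVec_smul, ← act, ← act, act_act_inv,
      ← H_bas_right hF (act g⁻¹ x) i, ← GU_act (S.gu hg) (act g⁻¹ x) (bas i), act_act_inv]
  have hnm : ¬ Mon h := by
    intro hm
    obtain ⟨k, hk⟩ := Finset.card_pos.1 (show 0 < (supp v).card by omega)
    obtain ⟨m, z, hmz⟩ := hm k
    obtain ⟨x, hx, y, hy, hxy⟩ := Finset.one_lt_card.1 (show 1 < ((supp v).erase k).card by
      rw [Finset.card_erase_of_mem hk]; omega)
    have key : ∀ x ∈ (supp v).erase k, x = m := fun x hx => by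
      by_contra hxm
      obtain ⟨hxk, hxv⟩ := Finset.mem_erase.1 hx
      have e := congrFun hmz x
      rw [hact, H_bas_left hF, Pi.smul_apply, Pi.add_apply, Pi.smul_apply, Pi.smul_apply, bas_ne hxk, bas_ne hxm,
        smul_zero, zero_add, smul_eq_mul, smul_eq_mul] at e
      exact mul_ne_zero hγ0 (mul_ne_zero (mul_ne_zero (sub_ne_zero.2 hb1) (pow_ne_zero _ (mem_supp.1 hk)))
        (mem_supp.1 hxv)) e
    exact hxy ((key x hx).trans (key y hy).symm)
  refine S.goal_of_col (by omega) hhK hnm (k := l) (m := l) (c := γ) ?_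
  rw [hact, H_bas_left hF, hl0, zero_pow (q_ne_zero hF), mul_zero, zero_smul, add_zero]

/-- a diagonal element which is not scalar carried to a diagonal one -/
theorem mon_of_diag (hS : ¬ S.Goal) (hq : q ≠ 3) {g : GLn} (hg : g ∈ S.K) {t t' : GLn} {a a' : Vec}
    (ht : IsMono t 1 a) (ht' : IsMono t' 1 a') {i₀ i₁ : Fin 4} (hne : a i₁ ≠ a i₀) (he : g * t = t' * g) :
    Mon g := by
  classical
  by_contra hm
  have hcol : ∀ i, 2 ≤ (supp (act g (bas i))).card := fun i => by
    by_contra h
    exact hS (S.goal_of_small hg hm (show (supp (act g (bas i))).card ≤ 1 by omega))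
  have eig : ∀ i j, a i ≠ a' j → act g (bas i) j = 0 := fun i j hij => by
    have h1 := congrArg (fun z : GLn => act z (bas i) j) he
    simp only [act_mul, ht i] at h1
    rw [ht'.eq_diag, act, mulVec_smul, ← act, Pi.smul_apply, smul_eq_mul] at h1
    simp only [Equiv.Perm.one_apply] at h1
    have : (a i - a' j) * act g (bas i) j = 0 := by linear_combination h1
    exact (mul_eq_zero.1 this).resolve_left (sub_ne_zero.2 hij)
  set B := Finset.univ.filter fun i => a i = a i₀ with hB
  set B' := Finset.univ.filter fun j => a' j = a i₀ with hB'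
  have hin : ∀ i ∈ B, supp (act g (bas i)) ⊆ B' := fun i hi j hj => by
    simp only [hB, hB', Finset.mem_filter, Finset.mem_univ, true_and] at hi ⊢
    by_contra hc
    exact mem_supp.1 hj (eig i j (by rw [hi]; exact Ne.symm hc))
  have hout : ∀ i ∈ Finset.univ \ B, supp (act g (bas i)) ⊆ Finset.univ \ B' := fun i hi j hj => by
    simp only [hB, hB', Finset.mem_sdiff, Finset.mem_filter, Finset.mem_univ, true_and] at hi ⊢
    exact fun hj' => mem_supp.1 hj (eig i j (by rw [hj']; exact hi))
  have c1 := card_le_of_supp (g := g) hin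
  have c2 := card_le_of_supp (g := g) hout
  have h0 : i₀ ∈ B := by simp [hB]
  have h1 : i₁ ∈ Finset.univ \ B := by simp [hB, hne]
  have d0 := (hcol i₀).trans (Finset.card_le_card (hin i₀ h0))
  have d1 := (hcol i₁).trans (Finset.card_le_card (hout i₁ h1))
  have c3 := Finset.card_sdiff_add_card_eq_card (Finset.subset_univ B)
  have c4 := Finset.card_sdiff_add_card_eq_card (Finset.subset_univ B')
  rw [Finset.card_univ, Fintype.card_fin] at c3 c4
  obtain ⟨i, hi, j, hj, hij⟩ := Finset.one_lt_card.1 (show 1 < B.card by omega)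
  exact hS (S.goal_of_two hq hg hij (show B'.card = 2 by omega)
    (Finset.eq_of_subset_of_card_le (hin i hi) (by have := hcol i; omega))
    (Finset.eq_of_subset_of_card_le (hin j hj) (by have := hcol j; omega)))

end Setup

end Cfsg.Agent.Forms.Max.HermFrame
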