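import Mathlib
import Cfsg.Agent.Lib.Forms.Max.HermFrame.Even
import Cfsg.Agent.Lib.Forms.Max.HermFrame.FourBasic

/-!
# Frames in dimension four in characteristic two

A centre with four coordinates is moved to one with three by the transvection of a diagonal image of itself.
-/

set_option autoImplicit false
set_option linter.unusedSectionVars false

namespace Cfsg.Agent.Forms.Max.HermFrame

open Matrix Cfsg.Agent.Classical.Unitary

variable {F : Type*} [Field F] [Fintype F] {q : ℕ}

local notation "Vec" => (Fin 4 → F)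
local notation "GLn" => GL (Fin 4) F
local notation "H" => Cfsg.hermForm 4 F q

/-- three scalars of norm one different from one with a prescribed combination -/
theorem three_circle (hF : Fintype.card F = q ^ 2) (h2 : (2 : F) = 0) (hqe : Even q) {A B C T : F}
    (hA : A ≠ 0) (hB : B ≠ 0) (hC : C ≠ 0) (hT : T ≠ 0) (hAq : A ^ q = A) (hBq : B ^ q = B) (hCq : C ^ q = C)
    (hTq : T ^ q = T) (hne : B ≠ C) : ∃ x y z : F, x ^ (q + 1) = 1 ∧ y ^ (q + 1) = 1 ∧ z ^ (q + 1) = 1 ∧
      x ≠ 1 ∧ y ≠ 1 ∧ z ≠ 1 ∧ A * x + B * y + C * z = T := by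
  classical
  set μ := Finset.univ.filter fun a : F => a ^ (q + 1) = 1 with hμ
  have hnr : ∀ {r s a : F}, r ^ q = r → s ^ q = s → a ^ (q + 1) = 1 →
      nrm q (r + s * a) = r * r + s * s + (a * (r * s) + (a * (r * s)) ^ q) := fun {r s a} hr hs ha => by
    have ha0 := n1_ne_zero ha
    rw [nrm, HermStd.add_pow_q hF, mul_pow, mul_pow, mul_pow, hr, hs, pow_q_eq_inv hF ha]
    field_simp
    ring
  set S := μ.image fun a => nrm q (B + C * a) with hS
  set S' := μ.image fun a => nrm q (T + A * a) with hS'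
  have card_im : ∀ {r s : F}, r ^ q = r → s ^ q = s → r * s ≠ 0 →
      q + 2 ≤ 2 * (μ.image fun a => nrm q (r + s * a)).card := fun {r s} hr hs h0 => by
    have := card_traces hF hqe h0
    rw [← Finset.card_image_of_injective _ (add_right_injective (r * r + s * s)), Finset.image_image] at this
    refine this.trans (le_of_eq ?_)
    congr 2
    refine Finset.image_congr fun a ha => ?_
    simp only [Finset.coe_filter, Finset.mem_univ, true_and, Set.mem_setOf_eq] at ha
    exact (hnr hr hs ha).symm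
  have c1 : q + 2 ≤ 2 * S.card := card_im hBq hCq (mul_ne_zero hB hC)
  have c2 : q + 2 ≤ 2 * S'.card := card_im hTq hAq (mul_ne_zero hT hA)
  have hsub : S ∪ S' ⊆ Finset.univ.filter fun x : F => x ^ q = x := fun x hx => by
    simp only [Finset.mem_filter, Finset.mem_univ, true_and]
    rcases Finset.mem_union.1 hx with h | h <;> obtain ⟨a, -, rfl⟩ := Finset.mem_image.1 h <;> exact nrm_conj hF _
  have c3 := (Finset.card_le_card hsub).trans (card_fix_le hF)
  have c4 := Finset.card_union_add_card_inter S S'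
  obtain ⟨w, hw⟩ := Finset.card_pos.1 (show 0 < ((S ∩ S').erase (nrm q (T + A))).card by
    have := Finset.pred_card_le_card_erase (s := S ∩ S') (a := nrm q (T + A))
    omega)
  rw [Finset.mem_erase, Finset.mem_inter] at hw
  obtain ⟨η, hη, hηw⟩ := Finset.mem_image.1 hw.2.1
  obtain ⟨x, hx, hxw⟩ := Finset.mem_image.1 hw.2.2
  simp only [hμ, Finset.mem_filter, Finset.mem_univ, true_and] at hη hx
  have hx1 : x ≠ 1 := fun e => hw.1 (by rw [← hxw, e, mul_one])
  have sq_one : ∀ {a : F}, a ^ (q + 1) = 1 → a = a⁻¹ → a = 1 := fun {a} ha h => by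
    have h1 : (a - 1) * (a - 1) = 0 := by
      have := n1_ne_zero ha
      field_simp at h
      linear_combination h + (1 - a) * h2
    rcases mul_eq_zero.1 h1 with h | h <;> exact sub_eq_zero.1 h
  set W := T + A * x with hW
  have hWB : ∀ {e : F}, e ^ (q + 1) = 1 → B + C * e ≠ 0 := fun {e} he h => hne (by
    have h1 : C * e = -B := by linear_combination h
    have h2' := congrArg (nrm q) h1
    simp only [nrm, mul_pow, hCq, ← neg_one_mul B, hBq] at h2'
    rw [pow_q_eq_inv hF he, ← HermStd.qHom_apply hF (x := (-1 : F)), map_neg, map_one] at h2'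
    have h3 : (B - C) * (B - C) = 0 := by
      field_simp [n1_ne_zero he] at h2'
      linear_combination h2' + (B * B - B * C) * h2
    rcases mul_eq_zero.1 h3 with h | h <;> exact sub_eq_zero.1 h)
  have hWq : W ^ q ≠ W := fun h => by
    rw [hW, HermStd.add_pow_q hF, mul_pow, hTq, hAq, pow_q_eq_inv hF hx, add_right_inj] at h
    exact hx1 (sq_one hx (mul_left_cancel₀ hA h).symm)
  -- a solution for each of the two triangles
  have sol : ∀ e : F, e ^ (q + 1) = 1 → nrm q (B + C * e) = nrm q W →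
      W / (B + C * e) ≠ 1 → W / (B + C * e) * e ≠ 1 →
      ∃ x y z : F, x ^ (q + 1) = 1 ∧ y ^ (q + 1) = 1 ∧ z ^ (q + 1) = 1 ∧
      x ≠ 1 ∧ y ≠ 1 ∧ z ≠ 1 ∧ A * x + B * y + C * z = T := by
    intro e he hN hy hz
    have h0 := hWB he
    have hy1 : (W / (B + C * e)) ^ (q + 1) = 1 := by
      rw [← nrm_eq, nrm_div, hN, div_self]
      rw [← hN, Ne, nrm_eq_zero]
      exact h0
    refine ⟨x, _, _, hx, hy1, n1_mul hy1 he, hx1, hy, hz, ?_⟩
    rw [show A * x + B * (W / (B + C * e)) + C * (W / (B + C * e) * e) = A * x + W / (B + C * e) * (B + C * e) by ring,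
      div_mul_cancel₀ _ h0, hW]
    linear_combination (A * x) * h2
  have hηi : nrm q (B + C * η⁻¹) = nrm q W := by
    have h := hnr hBq hCq (n1_inv hη)
    rw [mul_pow, pow_q_eq_inv hF (n1_inv hη), inv_inv] at h
    rw [h, hxw, ← hηw, hnr hBq hCq hη, mul_pow (η), pow_q_eq_inv hF hη]
    rw [mul_pow, hBq, hCq]
    ring
  have hη0 := n1_ne_zero hη
  by_cases hgood : W / (B + C * η) ≠ 1 ∧ W / (B + C * η) * η ≠ 1
  · exact sol η hη (by rw [hxw, hηw]) hgood.1 hgood.2
  have e0 := hWB hη
  have hbad : W = B + C * η ∨ W * η = B + C * η := by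
    rw [div_mul_eq_mul_div, Ne, Ne, div_eq_one_iff_eq e0, div_eq_one_iff_eq e0] at hgood
    tauto
  have hη1 : η ≠ 1 := fun e => hWq (by
    rw [e, mul_one, mul_one, or_self] at hbad
    rw [hbad, HermStd.add_pow_q hF, hBq, hCq])
  have e0' := hWB (n1_inv hη)
  have hBC : (B - C) * (η - 1) ≠ 0 := mul_ne_zero (sub_ne_zero.2 hne) (sub_ne_zero.2 hη1)
  refine sol η⁻¹ (n1_inv hη) hηi (fun h => ?_) fun h => ?_
  · rw [div_eq_one_iff_eq e0'] at h
    rcases hbad with hb | hb
    · refine hη1 (sq_one hη (mul_left_cancel₀ hC ?_))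
      linear_combination h - hb
    · refine hBC ?_
      field_simp at h
      linear_combination hb - h
  · rw [div_mul_eq_mul_div, div_eq_one_iff_eq e0'] at h
    field_simp at h
    rcases hbad with hb | hb
    · refine hBC ?_
      linear_combination hb - h
    · refine hη1 (sq_one hη ?_)
      refine eq_inv_of_mul_eq_one_left (mul_left_cancel₀ hB ?_)
      linear_combination η * (0 : F) + hb - η * h

namespace Setup

variable (S : Setup F 4 q)

/-- multiples by scalars of norm one of a centre are centres -/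
theorem Cen.smul {u : Vec} (hu : S.Cen u) {c : F} (hc : c ^ (q + 1) = 1) : S.Cen (c • u) := by
  obtain ⟨h0, t, ht, htx⟩ := hu
  refine ⟨by rw [H_smul_left, H_smul_right, h0, mul_zero, mul_zero], t, ht, fun x => ?_⟩
  rw [htx, H_smul_right, smul_smul]
  congr 2
  rw [pow_succ] at hc
  linear_combination -(H x u) * hc

/-- changing the phases of a centre -/
theorem Cen.phase (hqe : Even q) {u : Vec} (hu : S.Cen u) (a : Vec) (ha : ∀ i, a i ^ (q + 1) = 1) :
    S.Cen (fun i => a i * u i) := by
  set s := (q + 2) / 2 with hs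
  have hs2 : 2 * s = q + 2 := by obtain ⟨k, hk⟩ := hqe; omega
  set P := ∏ i, a i with hP
  have hP1 : P ^ (q + 1) = 1 := by
    rw [hP, ← Finset.prod_pow]; exact Finset.prod_eq_one fun i _ => ha i
  have hc1 : ((P ^ s) ^ s)⁻¹ ^ (q + 1) = 1 := by
    rw [inv_pow, ← pow_mul, ← pow_mul, show s * (s * (q + 1)) = (q + 1) * (s * s) by ring, pow_mul, hP1]; simp
  have h4 : ((P ^ s) ^ s) ^ 4 = P := by
    have h : ∀ {z : F}, z ^ (q + 1) = 1 → (z ^ s) ^ 2 = z := fun {z} hz => by
      rw [← pow_mul, mul_comm, hs2, pow_succ, hz, one_mul]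
    rw [show (4 : ℕ) = 2 * 2 from rfl, pow_mul, h (by rw [← pow_mul, mul_comm, pow_mul, hP1, one_pow]), h hP1]
  set c := ((P ^ s) ^ s)⁻¹ with hc
  obtain ⟨m, hmG, hm, hmd⟩ := exists_mono S.hF 1 (fun i => c * a i) fun i => n1_mul hc1 (ha i)
  have hmK : m ∈ S.K := S.mem_mono hmG (by
    rw [hmd, map_one, Finset.prod_mul_distrib, Finset.prod_const, Finset.card_univ, Fintype.card_fin, ← hP, hc,
      inv_pow, h4]
    simp [inv_mul_cancel₀ (n1_ne_zero hP1)]) hm.mon
  have h := (hu.map S hmK).smul S (c := c⁻¹) (n1_inv hc1)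
  convert h using 1
  funext i
  rw [Pi.smul_apply, hm.eq_diag, smul_eq_mul]
  show a i * u i = c⁻¹ * (c * a i * u i)
  rw [mul_assoc c, inv_mul_cancel_left₀ (n1_ne_zero hc1)]

/-- no centre has four coordinates -/
theorem not_full_four (hS : ¬ S.Goal) (h2 : (2 : F) = 0) (hqe : Even q) (h3 : q ≠ 3) {u : Vec} (hu : S.Cen u)
    (hfull : ∀ l, u l ≠ 0) : False := by
  classical
  have hF := S.hF
  have hn1 : ∀ {u : Vec}, S.Cen u → (∀ l, u l ≠ 0) → ∀ k, nrm q (u k) ≠ 1 := by
    intro u hu hfull k hk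
    obtain ⟨-, t, ht, htx⟩ := hu
    refine hS (S.goal_of_three h3 ht (i := k) ?_)
    have : supp (act t (bas k)) = Finset.univ.erase k := by
      ext x
      rw [mem_supp, htx, H_bas_left hF, Finset.mem_erase, Pi.add_apply, Pi.smul_apply, smul_eq_mul]
      by_cases hx : x = k
      · subst hx
        rw [nrm] at hk
        simp only [bas_self, Finset.mem_univ, and_true, ne_eq, not_true, iff_false, not_not]
        linear_combination hk + h2
      · simp [bas_ne hx, hx, pow_ne_zero, hfull]
    rw [this, Finset.card_erase_of_mem (Finset.mem_univ k), Finset.card_univ, Fintype.card_fin]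
  by_cases hq2 : q = 2
  · refine hn1 hu hfull 0 ?_
    have h0 := FiniteField.pow_card_sub_one_eq_one (u 0) (hfull 0)
    rw [hF, hq2] at h0
    rw [nrm, hq2, ← pow_succ']
    exact h0
  have hq3 : 3 ≤ q := by have := HermStd.one_lt_q hF; omega
  -- the image of a phase change
  have hy : ∀ {u : Vec}, S.Cen u → ∀ a : Vec, (∀ i, a i ^ (q + 1) = 1) →
      S.Cen (fun i => (a i + ∑ k, a k * nrm q (u k)) * u i) := by
    intro u hu a ha
    obtain ⟨-, t, ht, htx⟩ := id hu
    have := (hu.phase S hqe a ha).map S ht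
    rw [htx] at this
    convert this using 1
    funext i
    rw [Pi.add_apply, Pi.smul_apply, smul_eq_mul, Cfsg.hermForm, add_mul]
    congr 2
    exact Finset.sum_congr rfl fun k _ => by rw [nrm]; ring
  have main : ∀ {u : Vec}, S.Cen u → (∀ l, u l ≠ 0) → ∀ {a b : Fin 4}, nrm q (u a) ≠ nrm q (u b) → False := by
    intro u hu hfull a b hab
    obtain ⟨j, i, k, l, hkl, hji, hjk, hjl, hik, hil, hkl'⟩ :
        ∃ j i k l : Fin 4, nrm q (u k) ≠ nrm q (u l) ∧ j ≠ i ∧ j ≠ k ∧ j ≠ l ∧ i ≠ k ∧ i ≠ l ∧ k ≠ l := by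
      have hne : a ≠ b := fun e => hab (by rw [e])
      have key : ∀ a b : Fin 4, a ≠ b → ∃ j i : Fin 4, j ≠ i ∧ j ≠ a ∧ j ≠ b ∧ i ≠ a ∧ i ≠ b ∧ a ≠ b := by decide
      obtain ⟨j, i, hh⟩ := key a b hne
      exact ⟨j, i, a, b, hab, hh⟩
    have huniv : (Finset.univ : Finset (Fin 4)) = {j, i, k, l} := by
      refine (Finset.eq_univ_of_card _ ?_).symm
      rw [Finset.card_insert_of_notMem (by simp [hji, hjk, hjl]), Finset.card_insert_of_notMem (by simp [hik, hil]),
        Finset.card_pair hkl', Fintype.card_fin]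
    have hsum : ∀ f : Fin 4 → F, ∑ x, f x = f j + f i + f k + f l := fun f => by
      rw [huniv, Finset.sum_insert (by simp [hji, hjk, hjl]), Finset.sum_insert (by simp [hik, hil]),
        Finset.sum_pair hkl']
      ring
    have hpos : ∀ x, nrm q (u x) ≠ 0 := fun x h => hfull x (nrm_eq_zero.1 h)
    have hnj := hn1 hu hfull j
    obtain ⟨x, y, z, hx, hy', hz, hx1, hy1, hz1, hxyz⟩ := three_circle hF h2 hqe (hpos i) (hpos k) (hpos l)
      (T := 1 + nrm q (u j)) (fun h => hnj (by linear_combination h - h2)) (nrm_conj hF _) (nrm_conj hF _)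
      (nrm_conj hF _) (by rw [HermStd.add_pow_q hF, one_pow, nrm_conj hF]) hkl
    set c : Vec := fun r => if r = i then x else if r = k then y else if r = l then z else 1 with hc
    have hcj : c j = 1 := by simp [hc, hji, hjk, hjl]
    have hci : c i = x := by simp [hc]
    have hck : c k = y := by simp [hc, Ne.symm hik]
    have hcl : c l = z := by simp [hc, Ne.symm hil, Ne.symm hkl']
    have hcn : ∀ r, c r ^ (q + 1) = 1 := fun r => by
      simp only [hc]; split_ifs <;> first | assumption | exact one_pow _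
    have hh : ∑ r, c r * nrm q (u r) = 1 := by
      rw [hsum, hcj, hci, hck, hcl]
      linear_combination hxyz + (nrm q (u j)) * h2
    have hv := hy hu c hcn
    rw [hh] at hv
    have hcard := hv.small S hS (l := j) (by rw [hcj]; linear_combination (u j) * h2)
    have hne : ∀ {e : F} (r : Fin 4), e ≠ 1 → c r = e → (c r + 1) * u r ≠ 0 := fun r he hcr =>
      mul_ne_zero (fun h => he (by rw [← hcr]; linear_combination h - h2)) (hfull r)
    have hsub : ({i, k, l} : Finset (Fin 4)) ⊆ supp (fun r => (c r + 1) * u r) := fun r hr => by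
      simp only [Finset.mem_insert, Finset.mem_singleton] at hr
      rw [mem_supp]
      rcases hr with rfl | rfl | rfl
      · exact hne _ hx1 hci
      · exact hne _ hy1 hck
      · exact hne _ hz1 hcl
    have := (Finset.card_le_card hsub).trans hcard
    rw [Finset.card_insert_of_notMem (by simp [hik, hil]), Finset.card_pair hkl'] at this
    omega
  by_cases heq : ∀ a b, nrm q (u a) = nrm q (u b)
  swap
  · push Not at heq
    obtain ⟨a, b, hab⟩ := heq
    exact main hu hfull hab
  -- change the norms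
  set N := nrm q (u 0) with hN
  have hN0 : N ≠ 0 := fun h => hfull 0 (nrm_eq_zero.1 h)
  obtain ⟨α, hα, hα1, hατ⟩ := exists_trace_avoid hF hq3 N⁻¹
  have hα0 := n1_ne_zero hα
  have hτ0 : α + α⁻¹ ≠ 0 := fun h => hα1 (by
    have h1 : (α - 1) * (α - 1) = 0 := by field_simp at h; linear_combination h - α * h2
    rcases mul_eq_zero.1 h1 with h | h <;> exact sub_eq_zero.1 h)
  set c : Vec := ![α, α⁻¹, 1, 1] with hc
  have hcn : ∀ r, c r ^ (q + 1) = 1 := fun r => by
    fin_cases r <;> simp [hc, hα, n1_inv hα]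
  set h := N * (α + α⁻¹) with hh
  have hsum : ∑ r, c r * nrm q (u r) = h := by
    rw [Fin.sum_univ_four, heq 1 0, heq 2 0, heq 3 0, ← hN, hh]
    simp [hc]
    linear_combination N * h2
  have hv := hy hu c hcn
  rw [hsum] at hv
  have hNq : N ^ q = N := nrm_conj hF _
  have hhq : h ^ q = h := by
    rw [hh, mul_pow, hNq, HermStd.add_pow_q hF, pow_q_eq_inv hF hα, pow_q_eq_inv hF (n1_inv hα), inv_inv,
      add_comm α]
  have hh0 : h ≠ 0 := mul_ne_zero hN0 hτ0
  have hh1 : 1 + h ≠ 0 := fun e => hατ (by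
    have : N * (α + α⁻¹) = 1 := by linear_combination e - h2
    rw [eq_comm, inv_eq_of_mul_eq_one_right this])
  have hne : ∀ {b : F}, b ^ (q + 1) = 1 → b + b⁻¹ ≠ 0 → b + h ≠ 0 := fun {b} hb hb' e => by
    refine hb' ?_
    have e' := congrArg (fun z => z ^ q) e
    simp only [HermStd.add_pow_q hF, pow_q_eq_inv hF hb, hhq, zero_pow (q_ne_zero hF)] at e'
    linear_combination e' + e - h * h2
  have hfull' : ∀ r, (c r + h) * u r ≠ 0 := fun r => by
    refine mul_ne_zero ?_ (hfull r)
    fin_cases r <;> simp [hc]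
    · exact hne hα hτ0
    · exact hne (n1_inv hα) (by rw [inv_inv, add_comm]; exact hτ0)
    · exact hh1
    · exact hh1
  refine main hv hfull' (a := 0) (b := 2) fun e => ?_
  rw [nrm_mul, nrm_mul, heq 2 0] at e
  have e' := mul_right_cancel₀ hN0 e
  simp [hc, nrm, HermStd.add_pow_q hF, hhq, pow_q_eq_inv hF hα, one_pow] at e'
  have : h * (α + α⁻¹) = 0 := by
    have haa := mul_inv_cancel₀ hα0
    linear_combination e' - haa + h * h2
  exact mul_ne_zero hh0 hτ0 this

end Setup

end Cfsg.Agent.Forms.Max.HermFrame
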