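import Mathlib
import Cfsg.Agent.Lib.Forms.Max.HermFrame.FourBasic

/-!
# Frames in dimension four over a field of odd order

The dihedral group of a monomial involution and of a conjugate of a diagonal one shows that some non-monomial
member fixes a frame vector.
-/

set_option autoImplicit false
set_option linter.unusedSectionVars false

namespace Cfsg.Agent.Forms.Max.HermFrame

open Matrix Cfsg.Agent.Classical.Unitary

variable {F : Type*} [Field F] [Fintype F] {q : ℕ}

local notation "Vec" => (Fin 4 → F)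
local notation "GLn" => GL (Fin 4) F
local notation "H" => Cfsg.hermForm 4 F q

theorem exists_pattern : ∀ P : Equiv.Perm (Fin 4), (∀ i, P (P i) = i) →
    ∃ e : Fin 4 → Fin 3, (∀ i, e (P i) = e i) ∧ (e 0 : ℕ) + e 1 + e 2 + e 3 = 4 ∧ ∃ i j, e i ≠ e j := by
  decide +kernel

theorem sq_of_preserve : ∀ σ : Equiv.Perm (Fin 4),
    (∀ i, σ i ∈ ({2, 3} : Finset (Fin 4)) ↔ i ∈ ({2, 3} : Finset (Fin 4))) → σ * σ = 1 := by decide +kernel

theorem sq_of_comm : ∀ σ : Equiv.Perm (Fin 4),
    σ * Equiv.swap 0 1 = Equiv.swap 0 1 * σ → σ * σ = 1 := by decide +kernel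

namespace Setup

variable (S : Setup F 4 q)

/-- a member carrying `y` to a monomial involution is monomial, if the centraliser of `y` is monomial -/
theorem mon_of_carry (hS : ¬ S.Goal) (h5 : 5 ≤ q) {y z w : GLn}
    (hy : ∀ g ∈ S.K, g * y = y * g → ∃ σ b, IsMono g σ b ∧ σ * σ = 1)
    (hz : Mon z) (hy2 : y * y = 1) (hw : w ∈ S.K) (he : w * y = z * w) : Mon w := by
  classical
  have hF := S.hF
  have hzc : z = w * y * w⁻¹ := by rw [he]; group
  have hz2 : z * z = 1 := by
    rw [hzc, show w * y * w⁻¹ * (w * y * w⁻¹) = w * (y * y) * w⁻¹ by group, hy2]; group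
  obtain ⟨P, c, hzm, -⟩ := hz.exists_isMono
  obtain ⟨hP, -⟩ := (hzm.mul hzm).unique (hz2.symm ▸ IsMono.one)
  obtain ⟨e, he1, he4, i₀, i₁, hne⟩ := exists_pattern P fun i => by rw [← Equiv.Perm.mul_apply, hP]; rfl
  obtain ⟨α, hα, hgen⟩ := exists_gen hF
  have hα0 := n1_ne_zero hα
  set v : Vec := fun i => α ^ (e i : ℕ) * α⁻¹ with hv
  obtain ⟨x, hxG, hx, hxd⟩ := exists_mono hF 1 v fun i => n1_mul
    (by rw [← pow_mul, mul_comm, pow_mul, hα, one_pow]) (n1_inv hα)
  have hxK : x ∈ S.K := S.mem_mono hxG (by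
    rw [hxd, hv]
    simp only [Fin.prod_univ_four, map_one, Units.val_one, Int.cast_one, one_mul]
    have h4 : α ^ (e 0 : ℕ) * α ^ (e 1 : ℕ) * α ^ (e 2 : ℕ) * α ^ (e 3 : ℕ) = α ^ 4 := by
      rw [← pow_add, ← pow_add, ← pow_add, he4]
    calc _ = (α ^ (e 0 : ℕ) * α ^ (e 1 : ℕ) * α ^ (e 2 : ℕ) * α ^ (e 3 : ℕ)) * α⁻¹ ^ 4 := by ring
      _ = 1 := by rw [h4, inv_pow, mul_inv_cancel₀ (pow_ne_zero _ hα0)]) hx.mon
  have hxz : x * z = z * x := ext_bas fun i => by
    rw [(hx.mul hzm) i, (hzm.mul hx) i]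
    simp [hv, he1, mul_comm]
  set y₁ := w⁻¹ * x * w with hy₁
  have hy₁K : y₁ ∈ S.K := mul_mem (mul_mem (inv_mem hw) hxK) hw
  obtain ⟨σ, b, hσ, hσ2⟩ := hy y₁ hy₁K (by
    calc y₁ * y = w⁻¹ * x * (w * y) := by rw [hy₁]; group
      _ = w⁻¹ * (x * z) * w := by rw [he]; group
      _ = w⁻¹ * z * w * y₁ := by rw [hxz, hy₁]; group
      _ = y * y₁ := by rw [show w⁻¹ * z * w = y by rw [hzc]; group])
  have h2 : IsMono (y₁ * y₁) 1 (fun i => b i * b (σ i)) := by
    have h := hσ.mul hσ
    rwa [hσ2] at h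
  have hx2 : IsMono (x * x) 1 (fun i => v i * v i) := by
    have h := hx.mul hx
    simpa using h
  have hcarry : w * (y₁ * y₁) = x * x * w := by rw [hy₁]; group
  by_cases hb : ∀ i, b i * b (σ i) = b i₀ * b (σ i₀)
  · exfalso
    set γ := b i₀ * b (σ i₀) with hγ
    have hscal : ∀ u, act (y₁ * y₁) u = γ • u := fun u => funext fun j => by
      rw [h2.eq_diag]
      show b j * b (σ j) * u j = γ • u j
      rw [hb]; rfl
    have hxu : ∀ u, act (x * x) u = γ • u := fun u => by
      rw [show x * x = w * (y₁ * y₁) * w⁻¹ by rw [hy₁]; group, act_mul, act_mul, hscal, act, mulVec_smul, ← act,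
        act_act_inv]
    have hvv : ∀ i, v i * v i = γ := fun i => by
      have h1 := congrFun (hxu (bas i)) i
      rw [hx2.eq_diag] at h1
      simpa [bas_self] using h1
    have hpow : α ^ (2 * (e i₀ : ℕ)) = α ^ (2 * (e i₁ : ℕ)) := by
      have h1 := (hvv i₀).trans (hvv i₁).symm
      simp only [hv] at h1
      refine mul_right_cancel₀ (mul_ne_zero (inv_ne_zero hα0) (inv_ne_zero hα0)) ?_
      rw [two_mul, two_mul, pow_add, pow_add]
      linear_combination h1
    have key : ∀ m k : ℕ, m < k → k ≤ 2 → α ^ (2 * m) = α ^ (2 * k) → False := fun m k hmk hk hp => by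
      rw [show 2 * k = 2 * m + (2 * k - 2 * m) by omega, pow_add] at hp
      exact hgen (2 * k - 2 * m) (by omega) (by omega) (mul_left_cancel₀ (pow_ne_zero _ hα0) (by rw [mul_one]; exact hp.symm))
    have := (e i₀).2
    have := (e i₁).2
    rcases lt_trichotomy (e i₀ : ℕ) (e i₁) with h | h | h
    · exact key _ _ h (by omega) hpow
    · exact hne (Fin.ext h)
    · exact key _ _ h (by omega) hpow.symm
  · push Not at hb
    obtain ⟨i, hi⟩ := hb
    exact S.mon_of_diag hS (by omega) hw h2 hx2 (i₁ := i) (i₀ := i₀) hi hcarry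

/-- the centraliser of a monomial transposition is monomial -/
theorem comm_transposition (hS : ¬ S.Goal) (h5 : 5 ≤ q) (h2 : (2 : F) ≠ 0) {y : GLn} (hyK : y ∈ S.K) {c : Vec}
    (hy : IsMono y (Equiv.swap 0 1) c) (hy2 : y * y = 1) {g : GLn} (hg : g ∈ S.K) (he : g * y = y * g) :
    ∃ σ b, IsMono g σ b ∧ σ * σ = 1 := by
  classical
  have hm : Mon g := by
    by_contra hm
    have hc1 : ∀ i, c i * c (Equiv.swap 0 1 i) = 1 := congrFun ((hy.mul hy).unique (hy2.symm ▸ IsMono.one)).2
    have hdet := det_mono S.hF (S.gu hyK) hy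
    rw [S.det_one hyK, Fin.prod_univ_four, Equiv.Perm.sign_swap (by decide)] at hdet
    push_cast at hdet
    have h01 : c 0 * c 1 = 1 := by simpa using hc1 0
    have h22 : c 2 * c 2 = 1 := by
      have := hc1 2
      rwa [show Equiv.swap (0 : Fin 4) 1 2 = 2 by decide] at this
    have h23 : c 3 = - c 2 := by linear_combination (c 2) * hdet - c 3 * h22 - (c 2 * c 2 * c 3) * h01
    have h20 : c 2 ≠ 0 := fun h => by rw [h, zero_mul] at h22; exact zero_ne_one h22
    have col : ∀ l l' : Fin 4, (l = 2 ∧ l' = 3) ∨ (l = 3 ∧ l' = 2) →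
        supp (act g (bas l)) = ({0, 1} : Finset (Fin 4)) := by
      intro l l' hll
      have hfix : Equiv.swap (0 : Fin 4) 1 l = l := by rcases hll with ⟨rfl, rfl⟩ | ⟨rfl, rfl⟩ <;> decide
      have hcl : c l ≠ c l' ∧ c l ≠ 0 := by
        rcases hll with ⟨rfl, rfl⟩ | ⟨rfl, rfl⟩ <;> rw [h23] <;>
          refine ⟨fun h => h20 ?_, fun h => h20 ?_⟩
        · exact (mul_eq_zero.1 (show (2 : F) * c 2 = 0 by linear_combination h)).resolve_left h2
        · exact h
        · exact (mul_eq_zero.1 (show (2 : F) * c 2 = 0 by linear_combination -h)).resolve_left h2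
        · exact neg_eq_zero.1 h
      set u := act g (bas l) with hu
      have hyu : act y u = c l • u := by
        rw [hu, ← act_mul, ← he, act_mul, hy, hfix, act, mulVec_smul, ← act]
      have hrel : ∀ j, c (Equiv.swap 0 1 j) * u (Equiv.swap 0 1 j) = c l * u j := fun j => by
        have := congrFun hyu j
        rwa [hy.apply, Equiv.symm_swap, Pi.smul_apply, smul_eq_mul] at this
      have hl' : u l' = 0 := by
        have h := hrel l'
        rw [show Equiv.swap (0 : Fin 4) 1 l' = l' by rcases hll with ⟨rfl, rfl⟩ | ⟨rfl, rfl⟩ <;> decide] at h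
        by_contra h0
        exact hcl.1 (mul_right_cancel₀ h0 h).symm
      have h0 : u 0 = 0 → u 1 = 0 := fun h => by
        have := hrel 1
        rw [Equiv.swap_apply_right, h, mul_zero] at this
        exact (mul_eq_zero.1 this.symm).resolve_left hcl.2
      have h1 : u 1 = 0 → u 0 = 0 := fun h => by
        have := hrel 0
        rw [Equiv.swap_apply_left, h, mul_zero] at this
        exact (mul_eq_zero.1 this.symm).resolve_left hcl.2
      have hsub : supp u ⊆ {0, 1, l} := fun j hj => by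
        have hjl : j ≠ l' := fun e => mem_supp.1 hj (e ▸ hl')
        have key : ∀ j l l' : Fin 4, (l = 2 ∧ l' = 3) ∨ (l = 3 ∧ l' = 2) → j ≠ l' → j ∈ ({0, 1, l} : Finset (Fin 4)) := by
          decide
        exact key j l l' hll hjl
      have hc3 : (supp u).card ≤ 3 := (Finset.card_le_card hsub).trans Finset.card_le_three
      have hc2 : (supp u).card = 2 := by
        by_contra hne
        rcases le_or_gt (supp u).card 1 with h | h
        · exact hS (S.goal_of_small hg hm h)
        · exact hS (S.goal_of_three (by omega) hg (i := l) (show (supp u).card = 3 by omega))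
      have hu0 : u 0 ≠ 0 := fun h => by
        have hss : supp u ⊆ {l} := fun j hj => by
          have := hsub hj
          simp only [Finset.mem_insert, Finset.mem_singleton] at this ⊢
          rcases this with rfl | rfl | rfl
          · exact absurd h (mem_supp.1 hj)
          · exact absurd (h0 h) (mem_supp.1 hj)
          · rfl
        have := Finset.card_le_card hss
        rw [Finset.card_singleton] at this
        omega
      refine (Finset.eq_of_subset_of_card_le (fun j hj => ?_) (by rw [hc2]; decide)).symm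
      simp only [Finset.mem_insert, Finset.mem_singleton] at hj
      rw [mem_supp]
      rcases hj with rfl | rfl
      · exact hu0
      · exact fun h => hu0 (h1 h)
    exact hS (S.goal_of_two (by omega) hg (show (2 : Fin 4) ≠ 3 by decide) (by decide)
      (col 2 3 (Or.inl ⟨rfl, rfl⟩)) (col 3 2 (Or.inr ⟨rfl, rfl⟩)))
  obtain ⟨σ, b, hσ, -⟩ := hm.exists_isMono
  exact ⟨σ, b, hσ, sq_of_comm σ ((hσ.mul hy).unique (he.symm ▸ hy.mul hσ)).1⟩

/-- some non-monomial member fixes a frame vector -/
theorem goal_four_odd (h5 : 5 ≤ q) (h2 : (2 : F) ≠ 0) {g : GLn} (hg : g ∈ S.K) (hgm : ¬ Mon g) : S.Goal := by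
  classical
  by_contra hS
  have hF := S.hF
  set X : Finset (Fin 4) := {2, 3} with hX
  obtain ⟨t, htK, ht⟩ := S.exists_eps (X := X) (by decide)
  have ht2 := sq_eq_one ht
  have hne : (sgn X 2 : F) ≠ sgn X 0 := by
    rw [show (sgn X 2 : F) = -1 from if_pos (by decide), show (sgn X 0 : F) = 1 from if_neg (by decide)]
    exact fun h => h2 (by linear_combination -h)
  have htcomm : ∀ g ∈ S.K, g * t = t * g → ∃ σ b, IsMono g σ b ∧ σ * σ = 1 := by
    intro g hg he
    obtain ⟨σ, b, hσ, hb⟩ := (S.mon_of_diag hS (by omega) hg ht ht hne he).exists_isMono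
    refine ⟨σ, b, hσ, sq_of_preserve σ fun i => ?_⟩
    rw [← sgn_neg h2 X, ← sgn_neg h2 X, mono_transport hσ hb ht ht he i]
  obtain ⟨y, hyG, hy, hyd⟩ := exists_mono hF (Equiv.swap (0 : Fin 4) 1) (fun i => if i = 3 then (-1 : F) else 1)
    fun i => by split <;> [exact n1_neg_one hF; exact one_pow _]
  have hyK : y ∈ S.K := S.mem_mono hyG (by
    rw [hyd, Fin.prod_univ_four, Equiv.Perm.sign_swap (by decide)]; simp) hy.mon
  have hy2 : y * y = 1 := ext_bas fun i => by
    rw [(hy.mul hy) i, act_one, Equiv.swap_mul_self]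
    fin_cases i <;> simp [Equiv.swap_apply_def]
  have hycomm := fun g (hg : g ∈ S.K) he => S.comm_transposition hS h5 h2 hyK hy hy2 (g := g) hg he
  have swap_ne : Equiv.swap (0 : Fin 4) 1 ≠ 1 := by decide
  have hne1 : ∀ z : GLn, z ≠ -z := fun z h => h2 (by
    have := congrArg (fun w : GLn => act (z⁻¹ * w) (bas 0) 0) h
    simp [act, inv_mul_cancel, neg_mulVec] at this
    linear_combination this)
  -- the product of the two involutions
  set f := g * t * g⁻¹ with hf
  have hfK : f ∈ S.K := mul_mem (mul_mem hg htK) (inv_mem hg)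
  have hf2 : f * f = 1 := by rw [hf, show g * t * g⁻¹ * (g * t * g⁻¹) = g * (t * t) * g⁻¹ by group, ht2]; group
  have hyi : y⁻¹ = y := inv_eq_of_mul_eq_one_right hy2
  have hfi : f⁻¹ = f := inv_eq_of_mul_eq_one_right hf2
  set x := y * f with hx
  have hxK : x ∈ S.K := mul_mem hyK hfK
  have hxi : x⁻¹ = f * y := by rw [hx, _root_.mul_inv_rev, hyi, hfi]
  have hyx : ∀ k, y * x ^ k = (x ^ k)⁻¹ * y := fun k => by
    have h1 : SemiconjBy y x x⁻¹ := by
      show y * x = x⁻¹ * y
      rw [hxi, mul_assoc, hy2, mul_one, hx, ← mul_assoc, hy2, one_mul]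
    rw [← inv_pow]; exact h1.pow_right k
  have hfx : ∀ k, f * x ^ k = (x ^ k)⁻¹ * f := fun k => by
    have h1 : SemiconjBy f x x⁻¹ := by
      show f * x = x⁻¹ * f
      rw [hxi, hx, ← mul_assoc]
    rw [← inv_pow]; exact h1.pow_right k
  have hex : ∃ k, 0 < k ∧ (x ^ k = 1 ∨ x ^ k = -1) := ⟨orderOf x, orderOf_pos x, Or.inl (pow_orderOf_eq_one x)⟩
  set N := Nat.find hex with hN
  obtain ⟨hN0, hNx⟩ := Nat.find_spec hex
  rcases Nat.even_or_odd N with ⟨m, hm⟩ | ⟨r, hr⟩
  swap
  · -- conjugate involutions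
    have hz1 : x ^ N * x ^ N = 1 := by rcases hNx with h | h <;> rw [h] <;> simp
    have hu : f * x ^ r * g * t = x ^ N * y * (f * x ^ r * g) := by
      calc f * x ^ r * g * t = f * x ^ r * f * g := by rw [hf]; group
        _ = (x ^ r)⁻¹ * g := by rw [hfx, mul_assoc _ f f, hf2, mul_one]
        _ = x ^ (N + 1 + r) * g := by
          congr 1
          refine inv_eq_of_mul_eq_one_right ?_
          rw [← pow_add, show r + (N + 1 + r) = N + N by omega, pow_add, hz1]
        _ = x ^ N * y * (f * x ^ r * g) := by rw [pow_add, pow_succ, hx]; group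
    obtain ⟨a, hzm⟩ : ∃ a, IsMono (x ^ N * y) (Equiv.swap (0 : Fin 4) 1) a := by
      rcases hNx with h | h
      · exact ⟨_, by rw [h, one_mul]; exact hy⟩
      · exact ⟨fun i => -(if i = 3 then (-1 : F) else 1), fun i => by
          rw [h, neg_one_mul, act, Units.val_neg, neg_mulVec, ← act, hy, neg_smul]⟩
    obtain ⟨σ, b, hσ, -⟩ := (S.mon_of_carry hS h5 htcomm hzm.mon ht2
      (mul_mem (mul_mem hfK (pow_mem hxK r)) hg) hu).exists_isMono
    have := ((hσ.mul ht).unique (hu.symm ▸ hzm.mul hσ)).1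
    rw [mul_one] at this
    exact swap_ne (mul_right_cancel (b := σ) (by rw [one_mul]; exact this.symm))
  have hN2 : N = 2 * m := by omega
  have hm0 : 0 < m := by omega
  set d := x ^ m with hd
  have hdK : d ∈ S.K := pow_mem hxK m
  have hd1 : ¬ (d = 1 ∨ d = -1) := fun h => Nat.find_min hex (show m < N by omega) ⟨hm0, h⟩
  have hdd : d * d = 1 ∨ d * d = -1 := by rw [hd, ← pow_add, ← hm]; exact hNx
  set d' := g⁻¹ * d * g with hd'
  have hd'K : d' ∈ S.K := mul_mem (mul_mem (inv_mem hg) hdK) hg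
  obtain ⟨t', ht', htd⟩ : ∃ t', (IsMono t' 1 (sgn X : Vec) ∧ d * d = 1 ∨
      IsMono t' 1 (fun i => -(sgn X i : F)) ∧ d * d = -1) ∧ d' * t = t' * d' := by
    rcases hdd with h | h
    · refine ⟨t, Or.inl ⟨ht, h⟩, ?_⟩
      have e : d * f = f * d := by
        rw [hd, hfx m, ← hd]; congr 1; exact eq_inv_of_mul_eq_one_left h
      calc d' * t = g⁻¹ * (d * f) * g := by rw [hd', hf]; group
        _ = t * d' := by rw [e, hd', hf]; group
    · refine ⟨-t, Or.inr ⟨fun i => by rw [act, Units.val_neg, neg_mulVec, ← act, ht, neg_smul], h⟩, ?_⟩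
      have e : d * f = -(f * d) := by
        rw [hd, hfx m, ← hd, show d⁻¹ = -d from inv_eq_of_mul_eq_one_right (by rw [mul_neg, h, neg_neg]),
          neg_mul, neg_neg]
      calc d' * t = g⁻¹ * (d * f) * g := by rw [hd', hf]; group
        _ = -t * d' := by rw [e, hd', hf]; simp only [mul_neg, neg_mul]; group
  obtain ⟨π, β, hd'm, hβ⟩ : ∃ π β, IsMono d' π β ∧ ∀ i, β i ≠ 0 := by
    rcases ht' with ⟨h, -⟩ | ⟨h, -⟩
    · exact (S.mon_of_diag hS (by omega) hd'K ht h hne htd).exists_isMono
    · exact (S.mon_of_diag hS (by omega) hd'K ht h hne htd).exists_isMono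
  rcases Nat.even_or_odd m with ⟨r, hr⟩ | ⟨r, hr⟩
  · -- the second involution is moved
    have hxf : x ^ r * f = d * f * x ^ r := by
      rw [mul_assoc d, hfx, hd, hr, pow_add, mul_assoc (x ^ r) (x ^ r), mul_inv_cancel_left]
    set w := g⁻¹ * x ^ r * g with hw
    have hwt : w * t = d' * t * w := by
      calc w * t = g⁻¹ * (x ^ r * f) * g := by rw [hw, hf]; group
        _ = g⁻¹ * (d * f * x ^ r) * g := by rw [hxf]
        _ = d' * t * w := by rw [hd', hw, hf]; group
    obtain ⟨σ, b, hσ, -⟩ := (S.mon_of_carry hS h5 htcomm ((hd'm.mul ht).mon) ht2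
      (mul_mem (mul_mem (inv_mem hg) (pow_mem hxK r)) hg) hwt).exists_isMono
    have hπ : π = 1 := by
      have h1 := ((hσ.mul ht).unique (hwt.symm ▸ (hd'm.mul ht).mul hσ)).1
      rw [mul_one, mul_one] at h1
      exact mul_right_cancel (b := σ) (by rw [one_mul]; exact h1.symm)
    subst hπ
    have hcomm : t * d' = d' * t := ext_bas fun i => by
      rw [(ht.mul hd'm) i, (hd'm.mul ht) i]; simp [mul_comm]
    rcases ht' with ⟨hm', h⟩ | ⟨hm', h⟩
    swap
    · refine hne1 t ?_
      have : t' = t := mul_right_cancel (htd.symm.trans hcomm.symm)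
      rw [this] at hm'
      refine ext_bas fun i => ?_
      rw [show act (-t) (bas i) = -act t (bas i) by rw [act, Units.val_neg, neg_mulVec]]
      conv_lhs => rw [hm' i]
      rw [ht i, neg_smul]
    obtain ⟨i₀, i₁, hb⟩ : ∃ i₀ i₁, β i₁ ≠ β i₀ := by
      by_contra hc
      push Not at hc
      have hsq : β 0 * β 0 = 1 := by
        have h' : d' * d' = 1 := by rw [hd', show g⁻¹ * d * g * (g⁻¹ * d * g) = g⁻¹ * (d * d) * g by group, h]; group
        simpa using congrFun ((hd'm.mul hd'm).unique (h'.symm ▸ IsMono.one)).2 0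
      refine hd1 ?_
      have hd'' : d = g * d' * g⁻¹ := by rw [hd']; group
      rcases mul_self_eq_one_iff.1 hsq with e | e
      · left
        rw [hd'', show d' = 1 from ext_bas fun i => by rw [hd'm, hc 0 i, e, act_one, one_smul]; rfl]
        group
      · right
        rw [hd'', show d' = -1 from ext_bas fun i => by
          rw [hd'm, hc 0 i, e, act, Units.val_neg, Units.val_one, neg_mulVec, one_mulVec, neg_smul, one_smul]; rfl]
        simp
    have hy' : g⁻¹ * y * g * d' = d' * (g⁻¹ * y * g) := by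
      have e : y * d = d * y := by rw [hd, hyx m, ← hd]; congr 1; exact (eq_inv_of_mul_eq_one_left h).symm
      calc g⁻¹ * y * g * d' = g⁻¹ * (y * d) * g := by rw [hd']; group
        _ = d' * (g⁻¹ * y * g) := by rw [e, hd']; group
    have hy'K : g⁻¹ * y * g ∈ S.K := mul_mem (mul_mem (inv_mem hg) hyK) hg
    have hy'm := S.mon_of_diag hS (by omega) hy'K hd'm hd'm hb hy'
    have := (S.mon_of_carry hS h5 hycomm hy'm hy2 (inv_mem hg) (by group)).inv
    rw [inv_inv] at this
    exact hgm this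
  · -- the monomial involution is moved
    have hxy : x ^ r * y = d * f * x ^ r := by
      rw [mul_assoc d f, hfx, hd, hr, show 2 * r + 1 = r + 1 + r by omega, pow_add, pow_succ,
        mul_assoc (x ^ r * x), mul_inv_cancel_left, hx, mul_assoc (x ^ r), mul_assoc y, hf2, mul_one]
    set w := g⁻¹ * x ^ r with hw
    have hwy : w * y = d' * t * w := by
      calc w * y = g⁻¹ * (x ^ r * y) := by rw [hw]; group
        _ = g⁻¹ * (d * f * x ^ r) := by rw [hxy]
        _ = d' * t * w := by rw [hd', hw, hf]; group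
    obtain ⟨σ, b, hσ, hb⟩ := (S.mon_of_carry hS h5 hycomm ((hd'm.mul ht).mon) hy2
      (mul_mem (inv_mem hg) (pow_mem hxK r)) hwy).exists_isMono
    have hperm : σ * Equiv.swap 0 1 = π * σ := by
      simpa using ((hσ.mul hy).unique (hwy.symm ▸ (hd'm.mul ht).mul hσ)).1
    have hdw : d = w⁻¹ * d' * w := by
      have e : d * x ^ r = x ^ r * d := by rw [hd, ← pow_add, ← pow_add, add_comm]
      rw [hw, hd']
      calc d = (x ^ r)⁻¹ * (d * x ^ r) := by rw [e]; group
        _ = _ := by group
    obtain ⟨ρ, cd, hρ, -⟩ := ((hσ.mon.inv.mul hd'm.mon).mul hσ.mon).exists_isMono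
    rw [← hdw] at hρ
    have hρ' : ρ = Equiv.swap 0 1 := by
      have h1 := ((hσ.mul hρ).unique ((show w * d = d' * w by rw [hdw]; group).symm ▸ hd'm.mul hσ)).1
      exact mul_left_cancel (h1.trans hperm.symm)
    subst hρ'
    rcases ht' with ⟨hm', h⟩ | ⟨hm', h⟩
    swap
    · -- the signs of a fixed point
      have hfix : π (σ 2) = σ 2 := by
        rw [← Equiv.Perm.mul_apply, ← hperm, Equiv.Perm.mul_apply]
        exact congrArg σ (by decide)
      have h1 := mono_transport hd'm hβ ht hm' htd (σ 2)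
      rw [hfix] at h1
      have h3 : (2 : F) * sgn X (σ 2) = 0 := by linear_combination -h1
      refine h2 ((mul_eq_zero.1 h3).resolve_right fun e => ?_)
      have := sgn_sq (F := F) X (σ 2)
      rw [e, mul_zero] at this
      exact zero_ne_one this
    have hdcomm := fun g (hg : g ∈ S.K) he => S.comm_transposition hS h5 h2 hdK hρ h (g := g) hg he
    have := (S.mon_of_carry hS h5 hdcomm hd'm.mon h (inv_mem hg) (by rw [hd']; group)).inv
    rw [inv_inv] at this
    exact hgm this

end Setup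

end Cfsg.Agent.Forms.Max.HermFrame
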