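import Mathlib
import Cfsg.Agent.Lib.Forms.Max.HermFrame.Blocks
import Cfsg.Agent.Lib.Forms.Max.HermFrame.Finish

/-!
# Stabilisers of decompositions into non-degenerate subspaces in the special unitary group
-/

set_option autoImplicit false
set_option linter.unusedSectionVars false

namespace Cfsg.Agent.Forms.Max.HermFrame

open Matrix Cfsg.Agent.Classical.Unitary

variable {F : Type*} [Field F] [Fintype F] {n q t k : ℕ}

local notation "Vec" => (Fin n → F)
local notation "GLn" => GL (Fin n) F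
local notation "H" => Cfsg.hermForm n F q
local notation "SUn" => (Cfsg.GU n F q ⊓ Cfsg.Geo.specialLinear (Fin n) F)

variable (hF : Fintype.card F = q ^ 2)
include hF

/-- coordinates adapted to the decomposition -/
theorem exists_coordinates {D : Fin t → Submodule F Vec} (hD : Cfsg.Geo.IsNondegenerateMDecomposition H k D) :
    ∃ (idx : Fin n ≃ Fin t × Fin k) (P : GLn), P ∈ Cfsg.GU n F q ∧
      ∀ i, img P (block idx i) = D i := by
  classical
  have hO : ∀ i, ∃ v : Fin k → Vec, (∀ a, v a ∈ D i) ∧ ∀ a b, H (v a) (v b) = if a = b then 1 else 0 := by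
    intro i
    obtain ⟨v, hv, hvv⟩ := Bases.exists_orthonormal (HermStd.qHom hF) (HermStd.qHom_ne_id hF)
      (HermStd.qHom_qHom hF) (HermStd.hermB hF n) (HermStd.hermB_isSymm hF) (D i) fun u hu h => by
        by_contra h0
        obtain ⟨x, hx, hxu⟩ := (hD.nondegenerate i u hu h0).1
        exact hxu (h x hx)
    refine ⟨fun a => v (Fin.cast (hD.decomp.finrank_eq i).symm a), fun a => hv _, fun a b => ?_⟩
    rw [← HermStd.hermB_apply hF, hvv]
    simp [Fin.ext_iff, eq_comm]
  choose v hv hvv using hO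
  set w : Fin t × Fin k → Vec := fun p => v p.1 p.2 with hw
  have hww : ∀ p p', H (w p) (w p') = if p = p' then 1 else 0 := by
    rintro ⟨i, a⟩ ⟨j, b⟩
    by_cases hij : i = j
    · subst hij; rw [hw]; simp [hvv]
    · rw [hw]; simp [hij, hD.orthogonal i j hij _ (hv i a) _ (hv j b)]
  have hli : LinearIndependent F w := by
    rw [linearIndependent_iff']
    intro s c hc p hp
    have := congrArg (fun x => H x (w p)) hc
    simp only [H_sum_left, H_smul_left, hww, H_zero_left, mul_ite, mul_one, mul_zero] at this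
    rwa [Finset.sum_ite_eq' s p, if_pos hp] at this
  have hDspan : ∀ i, Submodule.span F (Set.range (v i)) = D i := fun i =>
    Submodule.eq_of_le_of_finrank_eq (Submodule.span_le.2 (by rintro _ ⟨a, rfl⟩; exact hv i a)) (by
      rw [finrank_span_eq_card (b := v i) (hli.comp (fun a => (i, a)) fun a b h => (Prod.mk.inj h).2),
        Fintype.card_fin, hD.decomp.finrank_eq])
  have htop : Submodule.span F (Set.range w) = ⊤ := by
    rw [eq_top_iff, ← hD.decomp.iSup_eq_top]
    refine iSup_le fun i => (hDspan i).ge.trans (Submodule.span_mono ?_)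
    rintro _ ⟨a, rfl⟩
    exact ⟨(i, a), rfl⟩
  have hcard : Fintype.card (Fin t × Fin k) = n := by
    have := finrank_span_eq_card hli
    rw [htop, finrank_top, Module.finrank_fintype_fun_eq_card, Fintype.card_fin] at this
    exact this.symm
  set idx : Fin n ≃ Fin t × Fin k := (Fintype.equivFinOfCardEq hcard).symm with hidx
  set f : Vec →ₗ[F] Vec := Fintype.linearCombination F (w ∘ idx) with hf
  have hfa : ∀ x, f x = ∑ y, x y • w (idx y) := fun x => rfl
  have hiso : ∀ x y, H (f x) (f y) = H x y := fun x y => by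
    simp only [hfa, H_sum_left, H_sum_right hF, H_smul_left, H_smul_right, hww, mul_ite, mul_one, mul_zero,
      EmbeddingLike.apply_eq_iff_eq, Finset.sum_ite_eq', Finset.mem_univ, if_true]
    exact Finset.sum_congr rfl fun z _ => mul_comm _ _
  have hinj : Function.Injective f := (injective_iff_map_eq_zero f).2 fun x hx => eq_zero_of_H hF fun y => by
    rw [← hiso, hx, H_zero_left]
  let e : Vec ≃ₗ[F] Vec := LinearEquiv.ofInjectiveEndo f hinj
  have he : ∀ x, e x = f x := fun x => rfl
  refine ⟨idx, (HermStd.guOfEquiv e fun x y => by rw [he, he]; exact hiso x y : Cfsg.GU n F q),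
    SetLike.coe_mem _, fun i => ?_⟩
  refine Submodule.eq_of_le_of_finrank_eq (fun z hz => ?_) (by rw [finrank_img, finrank_block, hD.decomp.finrank_eq])
  obtain ⟨x, hx, rfl⟩ := mem_img.1 hz
  rw [HermStd.guOfEquiv_mulVec, he, hfa]
  refine (D i).sum_mem fun y _ => ?_
  by_cases hy : (idx y).1 = i
  · exact (D i).smul_mem _ (hy ▸ hv (idx y).1 (idx y).2)
  · rw [hx y hy, zero_smul]; exact (D i).zero_mem

omit hF in
theorem conj_SUn {P : GLn} (hP : P ∈ Cfsg.GU n F q) {g : GLn} (hg : g ∈ SUn) : P * g * P⁻¹ ∈ SUn := by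
  refine ⟨Subgroup.mul_mem _ (Subgroup.mul_mem _ hP hg.1) (Subgroup.inv_mem _ hP), ?_⟩
  have h : Matrix.GeneralLinearGroup.det g = 1 := hg.2
  show Matrix.GeneralLinearGroup.det (P * g * P⁻¹) = 1
  rw [map_mul, map_mul, h, mul_one, map_inv, mul_inv_cancel]

/-- lines: block permutations are the monomial maps -/
theorem blockMon_iff_mon (idx : Fin n ≃ Fin t × Fin 1) (g : GLn) : BlockMon idx g ↔ Mon g := by
  set e : Fin n ≃ Fin t := idx.trans (Equiv.prodUnique (Fin t) (Fin 1)) with he
  have hfst : ∀ x, (idx x).1 = e x := fun x => rfl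
  constructor
  · rintro ⟨σ, hσ⟩ x
    refine ⟨e.symm (σ (e x)), act g (bas x) (e.symm (σ (e x))), funext fun y => ?_⟩
    by_cases hy : y = e.symm (σ (e x))
    · subst hy; rw [Pi.smul_apply, bas_self, smul_eq_mul, mul_one]
    · rw [Pi.smul_apply, bas_ne hy, smul_zero]
      refine hσ (e x) (bas x) (fun z hz => bas_ne fun h => hz (by rw [h, hfst])) y fun h => hy ?_
      rw [← h, hfst, e.symm_apply_apply]
  · intro hg
    obtain ⟨p, a, hpa, -⟩ := hg.exists_isMono
    refine ⟨e.symm.trans (p.trans e), fun i v hv x hx => ?_⟩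
    rw [hpa.apply, hv _ fun h => hx ?_, mul_zero]
    rw [hfst] at h ⊢
    rw [← h]
    simp

theorem exists_not_blockMon (hn : 4 ≤ n) (idx : Fin n ≃ Fin t × Fin k) (ht : 2 ≤ t) (hk : 0 < k) :
    ∃ g ∈ SUn, ¬ BlockMon idx g := by
  classical
  obtain ⟨c, hc0, hc⟩ := exists_traceZero hF
  obtain ⟨β, hβ⟩ := Unitary.exists_norm hF (d := (-1 : F)) (by
    rw [← HermStd.qHom_apply hF, map_neg, map_one])
  have hβ0 : β ≠ 0 := fun h => by rw [h, mul_zero] at hβ; exact neg_ne_zero.2 one_ne_zero hβ.symm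
  by_cases hk2 : 2 ≤ k
  · let i0 : Fin t := ⟨0, by omega⟩
    let i1 : Fin t := ⟨1, by omega⟩
    set x := idx.symm (i0, ⟨0, hk⟩) with hx
    set x' := idx.symm (i0, ⟨1, hk2⟩) with hx'
    set y := idx.symm (i1, ⟨0, hk⟩) with hy
    have hi : i0 ≠ i1 := by simp [i0, i1]
    have hxy : x ≠ y := by simp [hx, hy, hi]
    have hx'x : x' ≠ x := by simp [hx, hx']
    have hx'y : x' ≠ y := by simp [hx', hy, hi]
    set v : Vec := bas x + β • bas y with hv
    have hvv : H v v = 0 := by
      rw [hv]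
      simp only [H_add_left, H_add_right hF, H_smul_left, H_smul_right, H_bas hF, if_neg hxy, if_neg hxy.symm,
        ↓reduceIte]
      linear_combination hβ
    obtain ⟨T, hT, hTx⟩ := Unitary.exists_tv hF hvv hc
    refine ⟨T, hT, fun ⟨σ, hσ⟩ => ?_⟩
    have hb : ∀ z, bas z ∈ block (F := F) idx (idx z).1 := fun z u hu => bas_ne fun h => hu (by rw [h])
    have h1 : σ i0 = i0 := by
      by_contra hne
      have := hσ _ _ (hb x') x'
      rw [hx', Equiv.apply_symm_apply, ← hx', act, hTx, H_bas_left hF] at this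
      have h' := this (Ne.symm hne)
      simp [hv, bas_ne hx'x, bas_ne hx'y, zero_pow (q_ne_zero hF)] at h'
    have h2 := hσ _ _ (hb x) y
    rw [hx, Equiv.apply_symm_apply, ← hx, hy, Equiv.apply_symm_apply, ← hy, h1, act, hTx, H_bas_left hF] at h2
    have h' := h2 hi.symm
    simp [hv, bas_ne hxy, bas_ne hxy.symm, hc0, hβ0] at h'
  · obtain rfl : k = 1 := by omega
    simp only [blockMon_iff_mon hF]
    let a : Fin n := ⟨0, by omega⟩
    let b : Fin n := ⟨1, by omega⟩
    let d : Fin n := ⟨2, by omega⟩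
    let d' : Fin n := ⟨3, by omega⟩
    have hab : a ≠ b := by simp [a, b]
    have had : a ≠ d := by simp [a, d]
    have had' : a ≠ d' := by simp [a, d']
    have hbd : b ≠ d := by simp [b, d]
    have hbd' : b ≠ d' := by simp [b, d']
    have hdd' : d ≠ d' := by simp [d, d']
    set v : Vec := bas a + β • bas b + bas d + β • bas d' with hv
    have hvv : H v v = 0 := by
      rw [hv]
      simp only [H_add_left, H_add_right hF, H_smul_left, H_smul_right, H_bas hF, if_neg hab, if_neg hab.symm,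
        if_neg had, if_neg had.symm, if_neg had', if_neg had'.symm, if_neg hbd, if_neg hbd.symm, if_neg hbd',
        if_neg hbd'.symm, if_neg hdd', if_neg hdd'.symm, ↓reduceIte]
      linear_combination 2 * hβ
    obtain ⟨T, hT, hTx⟩ := Unitary.exists_tv hF hvv hc
    refine ⟨T, hT, fun hm => ?_⟩
    obtain ⟨m, r, hr⟩ := hm a
    rw [act, hTx, H_bas_left hF] at hr
    have hb' := congrFun hr b
    have hd' := congrFun hr d
    simp [hv, bas_ne hab, bas_ne hab.symm, bas_ne had, bas_ne had.symm, bas_ne had', bas_ne hbd, bas_ne hbd.symm,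
      bas_ne hbd', bas_ne hdd', Pi.single_apply] at hb' hd'
    by_cases hbm : b = m
    · subst hbm; simp [hbd.symm, hc0] at hd'
    · simp [hbm, hc0, hβ0] at hb'

/-- maximality of the stabiliser of a decomposition, given the statement in standard coordinates -/
theorem decomposition_maximal_of (hn : 4 ≤ n) (D : Fin t → Submodule F Vec)
    (hD : Cfsg.Geo.IsNondegenerateMDecomposition H k D)
    (htop : ∀ (idx : Fin n ≃ Fin t × Fin k) (K : Subgroup GLn), K ≤ SUn →
      (∀ g ∈ SUn, BlockMon idx g → g ∈ K) → ∀ g ∈ K, ¬ BlockMon idx g → SUn ≤ K) :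
    Cfsg.Geo.IsMaximalIn SUn (Cfsg.Geo.decompositionStabilizer D ⊓ SUn) := by
  obtain ⟨idx, P, hP, hPD⟩ := exists_coordinates hF hD
  have htr : ∀ g : GLn, BlockMon idx g ↔ P * g * P⁻¹ ∈ Cfsg.Geo.decompositionStabilizer D := by
    intro g
    have hcancel : ∀ u : Vec, act (P * g * P⁻¹) (act P u) = act P (act g u) := fun u => by
      rw [act_mul, act_mul, act_inv_act]
    constructor
    · rintro ⟨σ, hσ⟩
      refine ⟨σ, fun i => Submodule.eq_of_le_of_finrank_eq (fun z hz => ?_) (by
        rw [finrank_img, hD.decomp.finrank_eq, hD.decomp.finrank_eq])⟩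
      obtain ⟨x, hx, rfl⟩ := mem_img.1 hz
      rw [← hPD] at hx ⊢
      obtain ⟨u, hu, rfl⟩ := mem_img.1 hx
      show act (P * g * P⁻¹) (act P u) ∈ _
      rw [hcancel]
      exact mulVec_mem_img (hσ i u hu)
    · rintro ⟨σ, hσ⟩
      refine ⟨σ, fun i u hu => ?_⟩
      have h : act (P * g * P⁻¹) (act P u) ∈ D (σ i) := by
        rw [← hσ i]
        exact mulVec_mem_img (by rw [← hPD]; exact mulVec_mem_img hu)
      rw [hcancel, ← hPD] at h
      obtain ⟨x, hx, he⟩ := mem_img.1 h
      exact mulVec_inj P he ▸ hx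
  refine Max.isMaximalIn_of inf_le_right (fun hle => ?_) fun M hM hMK g hgM hg => ?_
  · obtain ⟨T, hT, hTm⟩ := exists_not_blockMon hF hn idx hD.decomp.two_le hD.decomp.pos
    exact hTm ((htr T).2 (hle (conj_SUn hP hT)).1)
  set K : Subgroup GLn := M.comap (MulAut.conj P).toMonoidHom with hK
  have hmemK : ∀ x, x ∈ K ↔ P * x * P⁻¹ ∈ M := fun x => Iff.rfl
  have hKS : K ≤ SUn := fun x hx => by
    have := conj_SUn (inv_mem hP) (hMK ((hmemK x).1 hx))
    rwa [show P⁻¹ * (P * x * P⁻¹) * P⁻¹⁻¹ = x by group] at this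
  have hmon : ∀ x ∈ SUn, BlockMon idx x → x ∈ K := fun x hx hxm =>
    (hmemK x).2 (hM ⟨(htr x).1 hxm, conj_SUn hP hx⟩)
  set g' := P⁻¹ * g * P with hg'
  have hgg : P * g' * P⁻¹ = g := by rw [hg']; group
  have hg'K : g' ∈ K := (hmemK g').2 (by rw [hgg]; exact hgM)
  have hg'm : ¬ BlockMon idx g' := fun h => hg ⟨hgg ▸ (htr g').1 h, hMK hgM⟩
  have htop' : SUn ≤ K := htop idx K hKS hmon g' hg'K hg'm
  intro x hx
  have := htop' (conj_SUn (inv_mem hP) hx)
  rw [hmemK, show P * (P⁻¹ * x * P⁻¹⁻¹) * P⁻¹ = x by group] at this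
  exact this

/-- the stabiliser of a decomposition into non-degenerate subspaces is maximal in the special unitary group -/
theorem decomposition_maximal (hn : 5 ≤ n) (D : Fin t → Submodule F Vec)
    (hD : Cfsg.Geo.IsNondegenerateMDecomposition H k D) (hex : ¬ (k = 2 ∧ q = 2))
    (h1 : k = 1 → n = 6 ∧ 3 ≤ q ∨ 7 ≤ n) :
    Cfsg.Geo.IsMaximalIn SUn (Cfsg.Geo.decompositionStabilizer D ⊓ SUn) := by
  refine decomposition_maximal_of hF (by omega) D hD fun idx K hKS hmon g hgK hgm => ?_
  by_cases hk : 2 ≤ k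
  · exact BlockSetup.top ⟨hF, idx, K, hKS, hmon⟩ hn hk hex hgK hgm
  · obtain rfl : k = 1 := by have := hD.decomp.pos; omega
    exact Setup.top ⟨hF, K, hKS, fun x hx hxm => hmon x hx ((blockMon_iff_mon hF idx x).2 hxm)⟩ (h1 rfl) hgK
      fun h => hgm ((blockMon_iff_mon hF idx g).2 h)

end Cfsg.Agent.Forms.Max.HermFrame
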