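import Mathlib
import Cfsg.Agent.Lib.Forms.Max.HermFrame.Blocks

/-!
# Two hermitian planes in dimension four

With two blocks of size two the determinant cannot be corrected in a third block; a quasi-reflection pair inside
the two planes gives a centre with anisotropic components, and from those all isotropic vectors are reached.
-/

set_option autoImplicit false
set_option linter.unusedSectionVars false

namespace Cfsg.Agent.Forms.Max.HermFrame

open Matrix Cfsg.Agent.Classical.Unitary

variable {F : Type*} [Field F] [Fintype F] {n q t : ℕ}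

local notation "Vec" => (Fin n → F)
local notation "GLn" => GL (Fin n) F
local notation "H" => Cfsg.hermForm n F q
local notation "SUn" => (Cfsg.GU n F q ⊓ Cfsg.Geo.specialLinear (Fin n) F)

namespace BlockSetup

variable (S : BlockSetup F n q t 2)

theorem H_two {i j : Fin t} (hij : i ≠ j) {a b a' b' : Vec} (ha : a ∈ block S.idx i) (hb : b ∈ block S.idx j)
    (ha' : a' ∈ block S.idx i) (hb' : b' ∈ block S.idx j) : H (a + b) (a' + b') = H a a' + H b b' := by
  simp only [H_add_left, H_add_right S.hF, H_block S.idx S.hF hij ha hb', H_block S.idx S.hF hij.symm hb ha',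
    add_zero, zero_add]

/-- an anisotropic component can be replaced by one of the same norm -/
theorem move_aniso {i j : Fin t} (hij : i ≠ j) {a b a' : Vec} (ha : a ∈ block S.idx i) (hb : b ∈ block S.idx j)
    (ha' : a' ∈ block S.idx i) (hn : H a' a' = H a a) (ha0 : H a a ≠ 0)
    (hc : a + b ∈ Unitary.centres q S.K) : a' + b ∈ Unitary.centres q S.K := by
  have hF := S.hF
  have hW := block_nondeg S.idx hF i
  have ne0 : ∀ {v : Vec}, H v v ≠ 0 → v ≠ 0 := fun h h0 => h (by rw [h0, H_zero_left])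
  obtain ⟨g, hg, hgU, hga, hgW⟩ := Unitary.exists_move hF (Unitary.isCompl_perp hF hW) (Unitary.perp_perp hF _)
    (fun w hw u hu => Unitary.perp_symm hF hu hw) ha ha' (ne0 ha0) (ne0 (hn ▸ ha0)) hn.symm
  have hfix : ∀ l, l ≠ i → ∀ x ∈ block S.idx l, act g x = x := fun l hl x hx =>
    hgU x (Unitary.mem_perp.2 fun w hw => H_block S.idx hF hl hx hw)
  obtain ⟨hS, hd⟩ := split_one hF hW ha' (hn ▸ ha0)
  obtain ⟨z, ⟨hz, hzk⟩, hzz⟩ := Unitary.exists_value hF (fun h => by
    rw [h, finrank_bot, finrank_block] at hd; omega) hS (one_pow q) one_ne_zero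
  have hza : H z a' = 0 := hzk
  set δ := (g : Matrix (Fin n) (Fin n) F).det with hδ
  have hδ1 : δ ^ (q + 1) = 1 := HermStd.det_norm hF _ fun x y => hg x y
  have hr1 : qr q z δ⁻¹ * g ∈ S.K := by
    refine S.mem _ (Setup.mem_SU (mul_mem (qr_mem hF hzz (n1_inv hδ1)) hg) ?_) (BlockMon.of_fix S.idx fun l x hx => ?_)
    · rw [Units.val_mul, det_mul, det_qr hF hzz (n1_inv hδ1), ← hδ, inv_mul_cancel₀ (n1_ne_zero hδ1)]
    · rw [act_mul, act_qr hF hzz (n1_inv hδ1)]
      by_cases hl : l = i
      · subst hl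
        exact (block S.idx l).add_mem (hgW x hx) ((block S.idx l).smul_mem _ hz)
      · rw [hfix l hl x hx, H_block S.idx hF hl hx hz, mul_zero, zero_smul, add_zero]
        exact hx
  have := S.map hr1 hc
  have hgab : act g (a + b) = a' + b := by
    have h1 : act g (a + b) = act g a + act g b := mulVec_add _ _ _
    rw [h1, hfix j hij.symm b hb]
    exact congrArg (· + b) hga
  rwa [act_mul, hgab, qr_fix hF hzz (n1_inv hδ1)] at this
  rw [H_add_left, H_block S.idx hF hij.symm hb hz, add_zero]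
  exact (H_eq_zero_comm hF).1 hza

/-- a vector with value one against a given isotropic vector and prescribed norm -/
theorem exists_meet_norm {i : Fin t} {e : Vec} (he : e ∈ block S.idx i) (he0 : e ≠ 0) (hee : H e e = 0) {ν : F}
    (hν : ν ^ q = ν) : ∃ x ∈ block S.idx i, H e x = 1 ∧ H x e = 1 ∧ H x x = ν := by
  have hF := S.hF
  obtain ⟨f, hf, hff, hef⟩ := Unitary.exists_iso_partner hF (block_nondeg S.idx hF i) he he0 hee
  have hfe : H f e = 1 := by rw [← H_conj hF, hef, one_pow]
  obtain ⟨s, hs⟩ := exists_trace_eq hF hν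
  refine ⟨f + s • e, (block S.idx i).add_mem hf ((block S.idx i).smul_mem _ he), ?_, ?_, ?_⟩
  · rw [H_add_right hF, H_smul_right, hef, hee, mul_zero, add_zero]
  · rw [H_add_left, H_smul_left, hfe, hee, mul_zero, add_zero]
  · simp only [H_add_left, H_add_right hF, H_smul_left, H_smul_right, hff, hfe, hef, hee]
    linear_combination hs

/-- all isotropic vectors with two components are centres -/
theorem pair_two (h3 : 3 ≤ q) {g : GLn} (hg : g ∈ S.K) (hgm : ¬ BlockMon S.idx g) {i j : Fin t} (hij : i ≠ j)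
    {a b : Vec} (ha : a ∈ block S.idx i) (hb : b ∈ block S.idx j) (hab : H (a + b) (a + b) = 0) :
    a + b ∈ Unitary.centres q S.K := by
  classical
  have hF := S.hF
  obtain ⟨i₀, j₀, hij₀, a₀, ha₀, b₀, hb₀, ha₀0, hb₀0, haa₀, hbb₀, hc₀⟩ :=
    S.exists_iso_pair le_rfl (fun h => by omega) hg hgm
  obtain ⟨π, hπ, hπi, hπj⟩ := S.exists_perm (by omega) i₀ j₀ i j hij₀ hij
  have hd := S.map hπ hc₀
  rw [act, mulVec_add, ← act, ← act] at hd
  set e := act π a₀ with he'
  set e' := act π b₀ with he''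
  have he : e ∈ block S.idx i := hπi _ ha₀
  have hf : e' ∈ block S.idx j := hπj _ hb₀
  have hee : H e e = 0 := by rw [he', GU_act (S.gu hπ), haa₀]
  have hff : H e' e' = 0 := by rw [he'', GU_act (S.gu hπ), hbb₀]
  have he0 : e ≠ 0 := mulVec_ne_zero π ha₀0
  have hf0 : e' ≠ 0 := mulVec_ne_zero π hb₀0
  obtain ⟨z, hz, hez, hze, hzz⟩ := S.exists_meet_norm he he0 hee (one_pow q)
  obtain ⟨z', hz', hfz, hzf, hzz'⟩ := S.exists_meet_norm hf hf0 hff (one_pow q)
  obtain ⟨α, hα, hαk⟩ := exists_gen hF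
  have hα0 := n1_ne_zero hα
  have hα1 : α ≠ 1 := fun h => hαk 1 one_pos (by omega) (by rw [h, one_pow])
  have hα2 : α * α ≠ 1 := fun h => hαk 2 two_pos (by omega) (by rw [sq, h])
  have hαq : α ^ q = α⁻¹ := pow_q_eq_inv hF hα
  have hαi : α⁻¹ ^ q = α := by rw [inv_pow, hαq, inv_inv]
  have hr : qr q z α * qr q z' α⁻¹ ∈ S.K := by
    refine S.mem _ (Setup.mem_SU (mul_mem (qr_mem hF hzz hα) (qr_mem hF hzz' (n1_inv hα))) ?_)
      (BlockMon.of_fix S.idx fun l x hx => ?_)
    · rw [Units.val_mul, det_mul, det_qr hF hzz hα, det_qr hF hzz' (n1_inv hα), mul_inv_cancel₀ hα0]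
    · rw [act_mul, act_qr hF hzz' (n1_inv hα), act_qr hF hzz hα, H_add_left, H_smul_left,
        H_block S.idx hF hij.symm hz' hz, mul_zero, add_zero]
      by_cases hli : l = i
      · subst hli
        rw [H_block S.idx hF hij hx hz', mul_zero, zero_smul, add_zero]
        exact (block S.idx l).add_mem hx ((block S.idx l).smul_mem _ hz)
      · rw [H_block S.idx hF hli hx hz, mul_zero, zero_smul, add_zero]
        by_cases hlj : l = j
        · subst hlj; exact (block S.idx l).add_mem hx ((block S.idx l).smul_mem _ hz')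
        · rw [H_block S.idx hF hlj hx hz', mul_zero, zero_smul, add_zero]; exact hx
  have hv := S.map hr hd
  rw [act_mul, act_qr hF hzz' (n1_inv hα), act_qr hF hzz hα] at hv
  simp only [H_add_left, H_smul_left, H_block S.idx hF hij he hz', H_block S.idx hF hij.symm hf hz,
    H_block S.idx hF hij.symm hz' hz, hfz, hez, mul_zero, zero_add, add_zero, mul_one] at hv
  rw [show e + e' + (α⁻¹ - 1) • z' + (α - 1) • z = (e + (α - 1) • z) + (e' + (α⁻¹ - 1) • z') by abel] at hv
  obtain ⟨c, hc0, hc⟩ := exists_traceZero hF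
  have hcq : c ^ q = -c := by linear_combination hc
  obtain ⟨T, hT, hTx⟩ := Unitary.exists_tv hF hd.1 hc
  have h := S.map (hd.2 T c hc hTx) hv
  set x := e + (α - 1) • z with hx
  set y := e' + (α⁻¹ - 1) • z' with hy
  set G := α + α⁻¹ - 2 with hG
  have hxb : x ∈ block S.idx i := (block S.idx i).add_mem he ((block S.idx i).smul_mem _ hz)
  have hyb : y ∈ block S.idx j := (block S.idx j).add_mem hf ((block S.idx j).smul_mem _ hz')
  have hxe : H x e = α - 1 := by rw [hx, H_add_left, H_smul_left, hee, hze]; ring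
  have hH : H (x + y) (e + e') = G := by
    rw [S.H_two hij hxb hyb he hf, hxe, hy, H_add_left, H_smul_left, hff, hzf, hG]
    ring
  rw [act, hTx, hH, smul_add, add_add_add_comm] at h
  have hαq' : (α - 1) ^ q = α⁻¹ - 1 := by rw [← HermStd.qHom_apply hF, map_sub, map_one, HermStd.qHom_apply, hαq]
  have hGq : G ^ q = G := by
    rw [hG, ← HermStd.qHom_apply hF, map_sub, map_add, map_ofNat, HermStd.qHom_apply, HermStd.qHom_apply, hαq,
      hαi, add_comm α]
  have hxx : H x x = 0 := by
    rw [hx]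
    simp only [H_add_left, H_add_right hF, H_smul_left, H_smul_right, hee, hez, hze, hzz, hαq']
    field_simp
    ring
  set a₁ := x + (c * G) • e with ha₁
  set b₁ := y + (c * G) • e' with hb₁
  have hn₁ : H a₁ a₁ = c * G * (α⁻¹ - α) := by
    rw [ha₁]
    simp only [H_add_left, H_add_right hF, H_smul_left, H_smul_right, hee, hxx, hxe,
      show H e x = α⁻¹ - 1 by rw [← H_conj hF, hxe, hαq'], mul_pow, hGq, hcq]
    ring
  have hG0 : G ≠ 0 := fun h0 => hα1 (by
    have h1 : (α - 1) * (α - 1) = 0 := by rw [hG] at h0; field_simp at h0; linear_combination h0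
    rcases mul_eq_zero.1 h1 with h2 | h2 <;> exact sub_eq_zero.1 h2)
  have hn₁0 : H a₁ a₁ ≠ 0 := by
    rw [hn₁]
    refine mul_ne_zero (mul_ne_zero hc0 hG0) fun h0 => hα2 ?_
    field_simp at h0
    linear_combination -h0
  have ha₁b : a₁ ∈ block S.idx i := (block S.idx i).add_mem hxb ((block S.idx i).smul_mem _ he)
  have hb₁b : b₁ ∈ block S.idx j := (block S.idx j).add_mem hyb ((block S.idx j).smul_mem _ hf)
  -- all vectors with anisotropic components
  have aniso : ∀ {a b : Vec}, a ∈ block S.idx i → b ∈ block S.idx j → H a a ≠ 0 → H (a + b) (a + b) = 0 →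
      a + b ∈ Unitary.centres q S.K := by
    intro a b ha hb hn hab
    obtain ⟨s, hs⟩ := Unitary.exists_norm hF (d := H a a / H a₁ a₁) (by
      rw [← HermStd.qHom_apply hF, map_div₀, HermStd.qHom_apply, HermStd.qHom_apply, Unitary.H_self_pow hF,
        Unitary.H_self_pow hF])
    rw [eq_div_iff hn₁0] at hs
    have hsc := Unitary.centres_smul hF s h
    rw [smul_add] at hsc
    have hsa : H (s • a₁) (s • a₁) = H a a := by rw [H_smul_left, H_smul_right]; linear_combination hs
    have h1 := S.move_aniso hij ((block S.idx i).smul_mem _ ha₁b) ((block S.idx j).smul_mem _ hb₁b) ha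
      hsa.symm (hsa.symm ▸ hn) hsc
    have hbb : H b b = H (s • b₁) (s • b₁) := by
      have e1 := h1.1
      rw [S.H_two hij ha ((block S.idx j).smul_mem _ hb₁b) ha ((block S.idx j).smul_mem _ hb₁b)] at e1
      rw [S.H_two hij ha hb ha hb] at hab
      linear_combination hab - e1
    have hb0 : H (s • b₁) (s • b₁) ≠ 0 := fun h0 => hn (by
      rw [S.H_two hij ha hb ha hb, hbb, h0, add_zero] at hab; exact hab)
    rw [add_comm] at h1 ⊢
    exact S.move_aniso hij.symm ((block S.idx j).smul_mem _ hb₁b) ha hb hbb hb0 h1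
  by_cases hν : H a a = 0
  swap
  · exact aniso ha hb hν hab
  have hbb : H b b = 0 := by rwa [S.H_two hij ha hb ha hb, hν, zero_add] at hab
  by_cases ha0 : a = 0
  · rw [ha0, zero_add]; exact S.pure hb hbb
  by_cases hb0 : b = 0
  · rw [hb0, add_zero]; exact S.pure ha hν
  obtain ⟨r, -, hr⟩ := Finset.exists_mem_notMem_of_card_lt_card (s := ({0, -1} : Finset F)) (t := Finset.univ) (by
    rw [Finset.card_univ, hF]
    exact Finset.card_le_two.trans_lt (by nlinarith))
  simp only [Finset.mem_insert, Finset.mem_singleton, not_or] at hr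
  set G' := 1 + r ^ q with hG'
  have hG'0 : G' ≠ 0 := fun h0 => hr.2 (by
    have h1 : r ^ q = -1 := by rw [hG'] at h0; linear_combination h0
    have h2 := congrArg (fun w => w ^ q) h1
    simp only [pow_qq hF] at h2
    rw [h2, ← HermStd.qHom_apply hF, map_neg, map_one])
  set ξ := c * G' with hξ
  have hξ0 : ξ ≠ 0 := mul_ne_zero hc0 hG'0
  obtain ⟨ν, hνq, hν0, hνne⟩ : ∃ ν : F, ν ^ q = ν ∧ ν ≠ 0 ∧ ξ + ξ ^ q + ξ * ξ ^ q * ν ≠ 0 := by
    by_cases h1 : ξ + ξ ^ q + ξ * ξ ^ q = 0
    swap
    · exact ⟨1, one_pow q, one_ne_zero, by rwa [mul_one]⟩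
    obtain ⟨B, hB, hB1⟩ := exists_pow_ne_one hF (by omega)
    refine ⟨nrm q B, nrm_conj hF B, fun e => hB (nrm_eq_zero.1 e), fun e => hB1 ?_⟩
    rw [← nrm_eq]
    have h0 : ξ * ξ ^ q * (nrm q B - 1) = 0 := by linear_combination e - h1
    exact sub_eq_zero.1 ((mul_eq_zero.1 h0).resolve_left (mul_ne_zero hξ0 (pow_ne_zero _ hξ0)))
  obtain ⟨u, hu, hau, hua, huu⟩ := S.exists_meet_norm ha ha0 hν hνq
  obtain ⟨w, hw, hbw, hwb, hww⟩ := S.exists_meet_norm hb hb0 hbb (ν := -ν / (r * r ^ q)) (by
    rw [← HermStd.qHom_apply hF, map_div₀, map_neg, map_mul, HermStd.qHom_apply, HermStd.qHom_apply,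
      HermStd.qHom_apply, hνq, pow_qq hF, mul_comm r])
  have hrw : r • w ∈ block S.idx j := (block S.idx j).smul_mem _ hw
  have hd' : u + r • w ∈ Unitary.centres q S.K := aniso hu hrw (huu ▸ hν0) (by
    rw [S.H_two hij hu hrw hu hrw, huu, H_smul_left, H_smul_right, hww]
    field_simp [hr.1]
    ring)
  obtain ⟨T', hT', hT'x⟩ := Unitary.exists_tv hF hd'.1 hc
  have hT'K := hd'.2 T' c hc hT'x
  have hH' : H (a + b) (u + r • w) = G' := by
    rw [S.H_two hij ha hb hu hrw, hau, H_smul_right, hbw, mul_one, hG']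
  have himg : act T' (a + b) = (a + ξ • u) + (b + ξ • (r • w)) := by
    rw [act, hT'x, hH', ← hξ, smul_add, add_add_add_comm]
  have hiso : H ((a + ξ • u) + (b + ξ • (r • w))) ((a + ξ • u) + (b + ξ • (r • w))) = 0 := by
    rw [← himg, GU_act hT'.1]; exact hab
  have h2 := aniso ((block S.idx i).add_mem ha ((block S.idx i).smul_mem _ hu))
    ((block S.idx j).add_mem hb ((block S.idx j).smul_mem _ hrw)) (by
      simp only [H_add_left, H_add_right hF, H_smul_left, H_smul_right, hν, hau, hua, huu]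
      intro h0
      exact hνne (by linear_combination h0)) hiso
  have := S.map (inv_mem hT'K) h2
  rwa [← himg, act_inv_act] at this

/-- nothing lies between the stabiliser of two planes and the special unitary group -/
theorem top_two (h3 : 3 ≤ q) (ht : t = 2) (hn : 4 ≤ n) {g : GLn} (hg : g ∈ S.K) (hgm : ¬ BlockMon S.idx g) :
    SUn ≤ S.K := by
  subst ht
  refine Unitary.SUn_le_of_centres S.hF hn fun v hv => ?_
  have e := eq_of_two S.idx (zero_ne_one (α := Fin 2)) (v := v) fun l h0 h1 => by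
    fin_cases l <;> simp at h0 h1
  rw [e] at hv ⊢
  exact S.pair_two h3 hg hgm zero_ne_one (comp_mem S.idx 0 v) (comp_mem S.idx 1 v) hv

end BlockSetup

end Cfsg.Agent.Forms.Max.HermFrame
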