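import Mathlib
import Cfsg.Agent.Lib.Forms.Max.HermFrame.Maximal
import Cfsg.Agent.Lib.Forms.Max.HermFrame.TwoBlocks
import Cfsg.Agent.Lib.Forms.Max.HermFrame.FourOdd
import Cfsg.Agent.Lib.Forms.Max.HermFrame.FourEven

/-!
# Stabilisers of orthogonal decompositions in the special unitary group of dimension four
-/

set_option autoImplicit false
set_option linter.unusedSectionVars false

namespace Cfsg.Agent.Forms.Max.HermFrame

open Matrix Cfsg.Agent.Classical.Unitary

variable {F : Type*} [Field F] [Fintype F] {q : ℕ}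

local notation "GLn" => GL (Fin 4) F
local notation "SUn" => (Cfsg.GU 4 F q ⊓ Cfsg.Geo.specialLinear (Fin 4) F)

theorem Setup.top_four (S : Setup F 4 q) (hq : q ≠ 3) {g : GLn} (hg : g ∈ S.K) (hgm : ¬ Mon g) : SUn ≤ S.K := by
  have hG : S.Goal := by
    have h1 := HermStd.one_lt_q S.hF
    have h0 := Nat.cast_card_eq_zero F
    rw [S.hF, Nat.cast_pow] at h0
    have hq0 : (q : F) = 0 := eq_zero_of_pow_eq_zero h0
    by_cases h2 : (2 : F) = 0
    · have hqe : Even q := by
        by_contra hodd
        obtain ⟨k, hk⟩ := Nat.not_even_iff_odd.1 hodd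
        rw [hk] at hq0
        push_cast at hq0
        rw [h2, zero_mul, zero_add] at hq0
        exact one_ne_zero hq0
      exact S.goal_even_of h2 le_rfl (fun hS _ hu hf => S.not_full_four hS h2 hqe hq hu hf) hg hgm
    · refine S.goal_four_odd ?_ h2 hg hgm
      by_contra hlt
      rcases (show q = 2 ∨ q = 4 by omega) with rfl | rfl <;> push_cast at hq0
      · exact h2 hq0
      · exact h2 (mul_self_eq_zero.1 (by linear_combination hq0))
  exact Unitary.SUn_le_of_centres S.hF le_rfl fun v hv => S.centre_all le_rfl hG hv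

/-- stabilisers of orthogonal frames are maximal in the special unitary group of dimension four -/
theorem frame_four_maximal (hF : Fintype.card F = q ^ 2) (hq : q ≠ 3) (D : Fin 4 → Submodule F (Fin 4 → F))
    (hD : Cfsg.Geo.IsNondegenerateMDecomposition (Cfsg.hermForm 4 F q) 1 D) :
    Cfsg.Geo.IsMaximalIn SUn (Cfsg.Geo.decompositionStabilizer D ⊓ SUn) :=
  decomposition_maximal_of hF le_rfl D hD fun idx K hKS hmon g hgK hgm =>
    Setup.top_four ⟨hF, K, hKS, fun x hx hxm => hmon x hx ((blockMon_iff_mon hF idx x).2 hxm)⟩ hq hgK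
      fun h => hgm ((blockMon_iff_mon hF idx g).2 h)

/-- stabilisers of orthogonal plane pairs are maximal in the special unitary group of dimension four -/
theorem planes_four_maximal (hF : Fintype.card F = q ^ 2) (hq : 3 ≤ q) (D : Fin 2 → Submodule F (Fin 4 → F))
    (hD : Cfsg.Geo.IsNondegenerateMDecomposition (Cfsg.hermForm 4 F q) 2 D) :
    Cfsg.Geo.IsMaximalIn SUn (Cfsg.Geo.decompositionStabilizer D ⊓ SUn) :=
  decomposition_maximal_of hF le_rfl D hD fun idx K hKS hmon _ hgK hgm =>
    BlockSetup.top_two ⟨hF, idx, K, hKS, hmon⟩ hq rfl le_rfl hgK hgm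

end Cfsg.Agent.Forms.Max.HermFrame
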